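import Mathlib

/-!
Extensions of a group by an involutory outer element with central square, and their recognition
inside a group with a subgroup of index two.
-/

set_option autoImplicit false

namespace Cfsg.Agent.ONUniq

/-- An involutory automorphism and the square of the element inducing it. -/
structure ExtData (M : Type*) [Group M] where
  /-- the automorphism -/
  σ : M ≃* M
  /-- the square -/
  z : M
  zc : ∀ m : M, m * z = z * m
  fix : σ z = z
  sq : ∀ m : M, σ (σ m) = m

variable {M : Type*} [Group M]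

/-- The extension: `(a, e)` stands for `a c ^ e`. -/
@[ext] structure Ext (D : ExtData M) where
  /-- the part in `M` -/
  a : M
  /-- the exponent of the outer element -/
  e : Bool

namespace Ext

variable {D : ExtData M}

/-- The multiplication. -/
def mulE (x y : Ext D) : Ext D :=
  ⟨x.a * (cond x.e (D.σ y.a) y.a) * cond (x.e && y.e) D.z 1, xor x.e y.e⟩

/-- The inverse. -/
def invE (x : Ext D) : Ext D :=
  ⟨cond x.e (D.z⁻¹ * D.σ x.a⁻¹) x.a⁻¹, x.e⟩

instance : Mul (Ext D) := ⟨mulE⟩
instance : One (Ext D) := ⟨⟨1, false⟩⟩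
instance : Inv (Ext D) := ⟨invE⟩

theorem mul_def (x y : Ext D) :
    x * y = ⟨x.a * (cond x.e (D.σ y.a) y.a) * cond (x.e && y.e) D.z 1, xor x.e y.e⟩ := rfl

theorem one_def : (1 : Ext D) = ⟨1, false⟩ := rfl

theorem inv_def (x : Ext D) : x⁻¹ = ⟨cond x.e (D.z⁻¹ * D.σ x.a⁻¹) x.a⁻¹, x.e⟩ := rfl

theorem z_left (m n : M) : D.z * (m * n) = m * (D.z * n) := by
  rw [← mul_assoc, ← D.zc, mul_assoc]

instance : Group (Ext D) := Group.ofLeftAxioms
  (by
    rintro ⟨a, e⟩ ⟨b, f⟩ ⟨c, g⟩
    cases e <;> cases f <;> cases g <;>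
      simp [mul_def, mul_assoc, map_mul, D.fix, D.sq, D.zc, z_left])
  (by
    rintro ⟨a, e⟩
    cases e <;> simp [mul_def, one_def])
  (by
    rintro ⟨a, e⟩
    cases e
    · simp [mul_def, one_def, inv_def]
    · simp [mul_def, one_def, inv_def, mul_assoc, map_inv, D.zc])

/-- The inner part as a homomorphism. -/
def inl : M →* Ext D where
  toFun a := ⟨a, false⟩
  map_one' := rfl
  map_mul' a b := by simp [mul_def]

theorem inl_apply (a : M) : (inl a : Ext D) = ⟨a, false⟩ := rfl

theorem inl_injective : Function.Injective (inl : M →* Ext D) := fun _ _ h => congrArg Ext.a h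

/-- The parity. -/
def parity : Ext D →* Multiplicative (ZMod 2) where
  toFun x := Multiplicative.ofAdd (cond x.e 1 0)
  map_one' := rfl
  map_mul' x y := by
    rcases x with ⟨a, e⟩
    rcases y with ⟨b, f⟩
    cases e <;> cases f <;> simp [mul_def, ← ofAdd_add, CharTwo.add_self_eq_zero]

theorem card_ext : Nat.card (Ext D) = 2 * Nat.card M := by
  rw [Nat.card_congr (⟨fun x => (x.e, x.a), fun p => ⟨p.2, p.1⟩, fun _ => rfl, fun _ => rfl⟩ :
    Ext D ≃ Bool × M), Nat.card_prod, Nat.card_eq_fintype_card, Fintype.card_bool]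

instance [Finite M] : Finite (Ext D) :=
  Finite.of_equiv (Bool × M)
    (⟨fun p => ⟨p.2, p.1⟩, fun x => (x.e, x.a), fun _ => rfl, fun _ => rfl⟩ : Bool × M ≃ Ext D)

section Recognise

variable {C : Type*} [Group C]

/-- The homomorphism into a group with an element inducing the automorphism. -/
def lift (D : ExtData M) (f : M →* C) (c : C) (hc : ∀ m, c * f m * c⁻¹ = f (D.σ m))
    (hz : c * c = f D.z) : Ext D →* C where
  toFun x := f x.a * cond x.e c 1
  map_one' := by simp [one_def]
  map_mul' := by
    have h1 : ∀ m, c * f m = f (D.σ m) * c := fun m => by rw [← hc m, inv_mul_cancel_right]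
    have h2 : ∀ m (n : C), c * (f m * n) = f (D.σ m) * (c * n) := fun m n => by
      rw [← mul_assoc, h1, mul_assoc]
    rintro ⟨a, e⟩ ⟨b, f'⟩
    cases e <;> cases f' <;> simp [mul_def, mul_assoc, h1, h2, hz]

/-- A group with an index-two copy of `M` and such an element is the extension. -/
theorem lift_bijective (D : ExtData M) (f : M →* C) (hf : Function.Injective f) (c : C)
    (hc : ∀ m, c * f m * c⁻¹ = f (D.σ m)) (hz : c * c = f D.z) (hcM : c ∉ f.range)
    (hi : f.range.index = 2) : Function.Bijective (lift D f c hc hz) := by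
  refine ⟨(injective_iff_map_eq_one _).2 ?_, fun y => ?_⟩
  · rintro ⟨a, e⟩ h
    cases e
    · have h' : f a = 1 := by simpa [lift] using h
      rw [(map_eq_one_iff f hf).1 h']
      rfl
    · have h' : f a * c = 1 := by simpa [lift] using h
      exact absurd ⟨a⁻¹, by rw [map_inv]; exact inv_eq_of_mul_eq_one_right h'⟩ hcM
  · by_cases hy : y ∈ f.range
    · obtain ⟨a, rfl⟩ := hy
      exact ⟨⟨a, false⟩, by simp [lift]⟩
    · have hci : c⁻¹ ∉ f.range := fun h => hcM (inv_inv c ▸ inv_mem h)
      obtain ⟨a, ha⟩ : y * c⁻¹ ∈ f.range := by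
        rw [Subgroup.mul_mem_iff_of_index_two hi]
        exact iff_of_false hy hci
      refine ⟨⟨a, true⟩, ?_⟩
      show f a * c = y
      rw [ha, inv_mul_cancel_right]

end Recognise

end Ext

end Cfsg.Agent.ONUniq
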