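import Cfsg.Agent.ONUniq.Classify
import Cfsg.Agent.ONUniq.Ext
import Cfsg.Agent.PGammaThreeFour.IdentifyAut

/-!
The automorphisms of a covering group 4.L3(4): inner ones times three normalising permutations.
-/

set_option autoImplicit false
set_option maxHeartbeats 1000000
set_option linter.unusedSectionVars false
set_option linter.style.haveILetI false

namespace Cfsg.Agent.ONUniq

open Cfsg.Agent Cfsg.Agent.Compute Cfsg.Agent.StemCert Subgroup

local notation "PSL₃(" F ")" => Matrix.ProjectiveSpecialLinearGroup (Fin 3) F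

attribute [local irreducible] compCode idCode canonC SLMult.L34.codes SLMult.L34.centPairs
  DataL.dperm DataL.dwords DataA.chain DataA.gs DataA.gis DataA.zeta DataA.mask DataA.sig
  DataB.chain DataB.gs DataB.gis DataB.zeta DataB.mask DataB.sig

namespace KData

variable {K : KData} (hK : K.Checked)

include hK in
/-- A permutation commuting with the covering group is a power of the central element. -/
theorem centraliser_le (hzen : ∀ m : K.Mg, K.el K.zeta * m = m * K.el K.zeta)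
    {q : Equiv.Perm (Fin 224)} (hq : ∀ m : K.Mg, q * m = m * q) :
    ∃ k : ℕ, q = ((K.el K.zeta ^ k : K.Mg) : Equiv.Perm (Fin 224)) := by
  have hf := hK.fix'
  have hc := hK.chain
  obtain ⟨hz, -, -, -⟩ := zeta_spec hK
  simp only [fixB, Bool.and_eq_true, allBelow_eq_true, Nat.beq_eq, Bool.or_eq_true, List.any_eq_true,
    Bool.not_eq_true', ← Bool.not_eq_true, memB_eq_true, List.mem_cons, List.not_mem_nil, or_false] at hf
  obtain ⟨⟨hb, hsz⟩, hfix⟩ := hf
  rcases hKc : K.chain with _ | ⟨L, Ls⟩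
  · rw [hKc] at hsz
    simp at hsz
  rw [hKc] at hb hsz hfix hc
  simp only [List.getD_cons_zero] at hb hsz
  have hsub : (List.getD (L :: Ls) 1 ⟨0, 0, id, .nil, []⟩).gens = topGens Ls := by
    cases Ls <;> rfl
  rw [hsub] at hfix
  have hc' := hc
  rw [rep224.checkChain_cons, Bool.and_eq_true] at hc'
  have h := rep224.levelOK_of_check hc'.1
  have hMg : K.Mg = rep224.chainGroup (L :: Ls) := by rw [KData.Mg, hKc]
  have hzero : rep224.pt L.base = (0 : Fin 224) := by rw [hb]; rfl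
  have hq0 : ∀ g ∈ topGens Ls, getField 8 g (q 0 : Fin 224) = (q 0 : Fin 224) := fun g hg => by
    have hgL := h.next_sub g hg
    have hgm : rep224.den g ∈ K.Mg := hMg ▸ rep224.den_mem_span hgL
    have hfix0 : rep224.den g 0 = 0 := by
      have := MulAction.mem_stabilizer_iff.mp (Rep.next_fixes h (rep224.den_mem_span hg))
      rwa [hzero] at this
    rw [← act224 (h.gens_ok g hgL) (q 0)]
    have e : q * rep224.den g = rep224.den g * q := hq ⟨_, hgm⟩
    rw [← Equiv.Perm.mul_apply, ← e, Equiv.Perm.mul_apply, hfix0]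
  obtain ⟨k, hk⟩ : ∃ k : ℕ, (q 0 : ℕ) = getField 8 (powC K.zeta k) 0 := by
    rcases hfix (q 0 : Fin 224) (Fin.is_lt _) with ⟨g, hg, hne⟩ | h | h | h | h
    · exact absurd (hq0 g hg) hne
    all_goals exact ⟨_, h⟩
  refine ⟨k, Equiv.ext fun x => ?_⟩
  have hpk := hz.pow k
  have hval0 : ((K.el K.zeta ^ k : K.Mg) : Equiv.Perm (Fin 224)) 0 = q 0 := by
    rw [← hpk.2, el_val hpk.1]
    exact Fin.ext ((act224 hpk.1.1 0).trans hk.symm)
  have hf0 : Function.Injective (fun j : Fin L.size =>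
      (⟨getField 8 (rep224.entry L j).u L.base, rep224.act_lt _ _ (h.entry_all j).1 h.base_lt⟩ :
        Fin 224)) := fun i j hij => by
    have hij' : rep224.act (rep224.entry L i).u L.base = rep224.act (rep224.entry L j).u L.base :=
      congrArg Fin.val hij
    apply Fin.ext
    rw [← (h.entries i i.2).2.2.2.1, ← (h.entries j j.2).2.2.2.1, hij']
  have hsur := ((Fintype.bijective_iff_injective_and_card _).2 ⟨hf0, by simp [hsz]⟩).2
  obtain ⟨j, hj⟩ := hsur x
  have hju := h.entry_mem (j : ℕ)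
  have hjm : rep224.den (rep224.entry L j).u ∈ K.Mg := hMg ▸ hju
  have hjx : rep224.den (rep224.entry L j).u 0 = x := by
    rw [← hj]
    apply Fin.ext
    rw [act224 (h.entry_all j).1 0]
    show getField 8 (rep224.entry L j).u 0 = getField 8 (rep224.entry L j).u L.base
    rw [hb]
  have hz' : ∀ m : K.Mg, K.el K.zeta ^ k * m = m * K.el K.zeta ^ k := fun m =>
    (Commute.pow_left (hzen m) k).eq
  have e1 : q * rep224.den (rep224.entry L j).u = rep224.den (rep224.entry L j).u * q := hq ⟨_, hjm⟩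
  have e2 := congrArg Subtype.val (hz' ⟨_, hjm⟩)
  simp only [Subgroup.coe_mul] at e2
  rw [← hjx, ← Equiv.Perm.mul_apply q, e1, Equiv.Perm.mul_apply, ← hval0,
    ← Equiv.Perm.mul_apply, ← e2, Equiv.Perm.mul_apply]

include hK in
theorem sig_spec {a : ℕ} (ha : a < 3) :
    (∀ s < 5, ∀ p, p = rep224.den (K.sig.getD a (0, 0)).1 →
      p * rep224.den (K.gs.getD s 0) * p⁻¹ ∈ K.Mg ∧
      p * (p * rep224.den (K.gs.getD s 0) * p⁻¹) * p⁻¹ = rep224.den (K.gs.getD s 0)) ∧
    rep224.den (K.sig.getD a (0, 0)).1 * rep224.den K.zeta * (rep224.den (K.sig.getD a (0, 0)).1)⁻¹ =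
      rep224.den K.zeta ^ K.eps.getD a 0 ∧
    rep224.den (K.sig.getD a (0, 0)).1 ∉ K.Mg ∧
    ∀ b < a, (rep224.den (K.sig.getD b (0, 0)).1)⁻¹ * rep224.den (K.sig.getD a (0, 0)).1 ∉ K.Mg := by
  have hall : ∀ b, b < 3 → rep224.Ok (K.sig.getD b (0, 0)).1 ∧ rep224.Ok (K.sig.getD b (0, 0)).2 ∧
      rep224.den (K.sig.getD b (0, 0)).2 = (rep224.den (K.sig.getD b (0, 0)).1)⁻¹ := fun b hb => by
    have h := allBelow_eq_true.mp hK.sig b hb
    simp only [sigB, Bool.and_eq_true, Nat.beq_eq] at h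
    obtain ⟨⟨⟨⟨⟨⟨h1, h2⟩, h3⟩, -⟩, -⟩, -⟩, -⟩ := h
    have o1 := rep224.okb_sound _ h1
    have o2 := rep224.okb_sound _ h2
    refine ⟨o1, o2, eq_inv_of_mul_eq_one_left ?_⟩
    rw [← rep224.den_mul _ _ o2 o1, rep224_mul, h3, ← rep224_one, rep224.den_one]
  obtain ⟨hp, hpi, hinv⟩ := hall a ha
  have h := allBelow_eq_true.mp hK.sig a ha
  simp only [sigB, Bool.and_eq_true, Nat.beq_eq, allBelow_eq_true] at h
  obtain ⟨⟨⟨⟨⟨-, -⟩, hg⟩, hzeta⟩, hout⟩, hpair⟩ := h
  obtain ⟨hz, -, -, -⟩ := zeta_spec hK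
  set p := (K.sig.getD a (0, 0)).1
  set pi := (K.sig.getD a (0, 0)).2
  have hconj : ∀ {c}, rep224.Ok c → rep224.Ok (conjC p pi c) ∧
      rep224.den (conjC p pi c) = rep224.den p * rep224.den c * (rep224.den p)⁻¹ := fun {c} hc => by
    rw [conjC, ← rep224_mul, ← rep224_mul]
    exact ⟨rep224.ok_mul _ _ (rep224.ok_mul _ _ hp hc) hpi,
      by rw [rep224.den_mul _ _ (rep224.ok_mul _ _ hp hc) hpi, rep224.den_mul _ _ hp hc, hinv]⟩
  have hone : ∀ {c}, rep224.Ok c → rep224.den c ∈ K.Mg →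
      neB (rep224.sift K.chain c) (idCode 8 224) = true → False := fun {c} hc hm hn => by
    obtain ⟨h1, h2⟩ := sift_complete rep224 _ hK.chain hc hm
    refine den_ne_of_neB h1 (InM.one (K := K)).1 hn ?_
    rw [h2, ← rep224_one, rep224.den_one]
  refine ⟨fun s hs q hq => ?_, ?_, fun hm => hone hp hm hout, fun b hb hm => ?_⟩
  · subst hq
    obtain ⟨hg1, hg2⟩ := hg s hs
    obtain ⟨⟨hgo, -⟩, -⟩ := gen_spec hK hs
    obtain ⟨c1, c2⟩ := hconj hgo
    obtain ⟨c3, c4⟩ := hconj c1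
    refine ⟨?_, ?_⟩
    · rw [← c2]
      rw [← rep224_one] at hg1
      exact rep224.mem_of_sift _ hK.chain c1 hg1
    · rw [← c2, ← c4, hg2, (canonC_spec hgo).2]
  · obtain ⟨c1, c2⟩ := hconj hz.1
    obtain ⟨d1, d2⟩ := hz.pow (K.eps.getD a 0)
    rw [← c2, hzeta, ← el_val d1, d2, Subgroup.coe_pow, el_val hz]
  · obtain ⟨hb1, hb2, hb3⟩ := hall b (by omega)
    refine hone (rep224.ok_mul _ _ hb2 hp) ?_ (by rw [rep224_mul]; exact hpair b hb)
    rw [rep224.den_mul _ _ hb2 hp, hb3]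
    exact hm

include hK in
/-- The five generators generate. -/
theorem gens_generate {F : Type} [Field F] [Fintype F] (w : F) (hF : Fintype.card F = 4)
    (hw : w * w = w + 1) (h2 : (1 : F) + 1 = 0) (hd : dB = true)
    (hchi : (K.chi.getD 0 (0, 0)).1 = 1) (π : K.Mg →* PSL₃(F))
    (hg : ∀ s < 5, π (K.el (K.gs.getD s 0)) = SLMult.L34.gen w s)
    (hker : π.ker = zpowers (K.el K.zeta)) :
    Subgroup.closure ((fun s => K.el (K.gs.getD s 0)) '' {s | s < 5}) = ⊤ := by
  obtain ⟨hz, -, -, -⟩ := zeta_spec hK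
  set S := Subgroup.closure ((fun s => K.el (K.gs.getD s 0)) '' {s | s < 5})
  have hmem : ∀ s, s < 5 → K.el (K.gs.getD s 0) ∈ S :=
    fun s hs => Subgroup.subset_closure ⟨s, hs, rfl⟩
  have hzS : K.el K.zeta ∈ S := by
    have hlt := (SLMult.L34.cent_spec (r := 1) (by norm_num)).2.1
    have hc := allBelow_eq_true.mp hK.chi 0 (by norm_num)
    simp only [chiB, Bool.and_eq_true, Nat.beq_eq] at hc
    obtain ⟨-, hcc⟩ := commC_mem hK hd (i := 0) (by norm_num) _ hlt
    rw [hc.1, hchi, (hz.pow 1).2, pow_one] at hcc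
    rw [hcc]
    refine list_prod_mem fun y hy => ?_
    obtain ⟨p, hp, rfl⟩ := List.mem_map.mp hy
    have hS : ∀ s < 5, evalW (fun x => K.el (K.gs.getD x 0)) (twistW 0 s) ∈ S := fun s hs => by
      simpa [twistW, evalW] using hmem s hs
    rw [commutatorElement_def]
    exact mul_mem (mul_mem (mul_mem (hS _ (hlt p hp).1) (hS _ (hlt p hp).2))
      (inv_mem (hS _ (hlt p hp).1))) (inv_mem (hS _ (hlt p hp).2))
  refine eq_top_iff.2 fun x _ => ?_
  obtain ⟨d, hd', hdx⟩ : π x ∈ S.map π := by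
    generalize π x = y
    have hx := SLMult.L34.gen_generates hF w hw h2 y
    induction hx using Submonoid.closure_induction with
    | mem t ht =>
      obtain ⟨s, hs, rfl⟩ := ht
      exact ⟨_, hmem s hs, hg s hs⟩
    | one => exact one_mem _
    | mul a b _ _ ha hb => exact mul_mem ha hb
  have : d⁻¹ * x ∈ π.ker := by rw [MonoidHom.mem_ker, map_mul, map_inv, hdx, inv_mul_cancel]
  rw [hker] at this
  rw [show x = d * (d⁻¹ * x) by group]
  exact mul_mem hd' (zpowers_le.2 hzS this)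

end KData

/-- The normalising permutations, led by the identity. -/
noncomputable def pA (b : Bool) (a : Fin 4) : Equiv.Perm (Fin 224) :=
  if (a : ℕ) = 0 then 1 else rep224.den ((kd b).sig.getD ((a : ℕ) - 1) (0, 0)).1

variable {F : Type} [Field F] [Fintype F] (w : F)
variable (hF : Fintype.card F = 4) (hw : w * w = w + 1) (h2 : (1 : F) + 1 = 0)

include hF hw h2 in
/-- The automorphism group of a covering group. -/
theorem aut_cases (b : Bool) : ∃ σ : Fin 4 → MulAut (kd b).Mg,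
    (∀ a (m : (kd b).Mg), ((σ a m : (kd b).Mg) : Equiv.Perm (Fin 224)) = pA b a * m * (pA b a)⁻¹) ∧
    σ 0 = 1 ∧ (∀ a m, σ a (σ a m) = m) ∧
    (∀ m : (kd b).Mg, (kd b).el (kd b).zeta * m = m * (kd b).el (kd b).zeta) ∧
    center (kd b).Mg = zpowers ((kd b).el (kd b).zeta) ∧
    ∀ α : MulAut (kd b).Mg, ∃ (m : (kd b).Mg) (a : Fin 4), α = MulAut.conj m * σ a := by
  have hK := kd_checked b
  obtain ⟨π, hπs, hπg, hπk, hπc, hperf, -⟩ := KData.exists_pi hK w hF hw h2 d_ok (chi_first b)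
  have hgen := KData.gens_generate hK w hF hw h2 d_ok (chi_first b) π hπg hπk
  have hzen : ∀ m : (kd b).Mg, (kd b).el (kd b).zeta * m = m * (kd b).el (kd b).zeta := fun m =>
    (mem_center_iff.1 (hπc (hπk ▸ mem_zpowers _)) m).symm
  have hcenter := center_eq_ker w hF hw h2 π hπs hπc
  have hnorm : ∀ (a : Fin 4) (m : (kd b).Mg),
      pA b a * m * (pA b a)⁻¹ ∈ (kd b).Mg ∧ pA b a * (pA b a * m * (pA b a)⁻¹) * (pA b a)⁻¹ = m := by
    intro a m
    by_cases h0 : (a : ℕ) = 0
    · simp [pA, h0]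
    obtain ⟨hs, -, -, -⟩ := KData.sig_spec hK (a := (a : ℕ) - 1) (by omega)
    set p := pA b a with hp
    have hp' : p = rep224.den ((kd b).sig.getD ((a : ℕ) - 1) (0, 0)).1 := by rw [hp, pA, if_neg h0]
    have hm : m ∈ Subgroup.closure ((fun s => (kd b).el ((kd b).gs.getD s 0)) '' {s | s < 5}) :=
      hgen ▸ mem_top m
    induction hm using Subgroup.closure_induction with
    | mem x hx =>
      obtain ⟨s, hs5, rfl⟩ := hx
      rw [KData.el_val (KData.gen_spec hK hs5).1]
      exact hs s hs5 p hp'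
    | one => simp
    | mul x y _ _ hx hy =>
      refine ⟨?_, ?_⟩
      · rw [Subgroup.coe_mul, show p * ((x : Equiv.Perm (Fin 224)) * y) * p⁻¹ =
          (p * x * p⁻¹) * (p * y * p⁻¹) by group]
        exact mul_mem hx.1 hy.1
      · rw [Subgroup.coe_mul]
        conv_rhs => rw [← hx.2, ← hy.2]
        group
    | inv x _ hx =>
      refine ⟨?_, ?_⟩
      · rw [Subgroup.coe_inv, show p * (x : Equiv.Perm (Fin 224))⁻¹ * p⁻¹ = (p * x * p⁻¹)⁻¹ by group]
        exact inv_mem hx.1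
      · rw [Subgroup.coe_inv]
        conv_rhs => rw [← hx.2]
        simp only [mul_inv_rev, inv_inv, mul_assoc]
  let σh : Fin 4 → ((kd b).Mg →* (kd b).Mg) := fun a =>
    MonoidHom.mk' (fun m => ⟨_, (hnorm a m).1⟩) fun x y => Subtype.ext (by
      simp only [Subgroup.coe_mul]; group)
  have hσσ : ∀ a m, σh a (σh a m) = m := fun a m => Subtype.ext (hnorm a m).2
  let σ : Fin 4 → MulAut (kd b).Mg := fun a =>
    MonoidHom.toMulEquiv (σh a) (σh a) (MonoidHom.ext (hσσ a)) (MonoidHom.ext (hσσ a))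
  have hσ : ∀ a (m : (kd b).Mg), ((σ a m : (kd b).Mg) : Equiv.Perm (Fin 224)) =
      pA b a * m * (pA b a)⁻¹ := fun a m => rfl
  have hσ0 : σ 0 = 1 := MulEquiv.ext fun m => Subtype.ext (by rw [hσ]; simp [pA])
  refine ⟨σ, hσ, hσ0, hσσ, hzen, hcenter.trans hπk, ?_⟩
  -- the action on the central quotient
  have hΨ : ∀ α : MulAut (kd b).Mg, ∃ β : MulAut (PSL₃(F)), ∀ x, π (α x) = β (π x) := by
    intro α
    have hmap : π.ker.map (α : (kd b).Mg →* (kd b).Mg) = π.ker := by
      rw [← hcenter]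
      exact Subgroup.characteristic_iff_map_eq.1 inferInstance α
    refine ⟨(QuotientGroup.quotientKerEquivOfSurjective π hπs).symm.trans
      ((QuotientGroup.congr π.ker π.ker α hmap).trans
        (QuotientGroup.quotientKerEquivOfSurjective π hπs)), fun x => ?_⟩
    have e : (QuotientGroup.quotientKerEquivOfSurjective π hπs).symm (π x) = QuotientGroup.mk x :=
      (MulEquiv.symm_apply_eq _).2 rfl
    simp only [MulEquiv.trans_apply, e]
    rfl
  choose Ψ hΨ using hΨ
  have hext : ∀ {β β' : MulAut (PSL₃(F))}, (∀ x, β (π x) = β' (π x)) → β = β' := fun {β β'} h =>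
    MulEquiv.ext fun y => by obtain ⟨x, rfl⟩ := hπs y; exact h x
  let Φ : MulAut (kd b).Mg →* MulAut (PSL₃(F)) := MonoidHom.mk' Ψ fun α β => hext fun x => by
    rw [MulAut.mul_apply, ← hΨ, ← hΨ, ← hΨ]
    rfl
  have hinj : Function.Injective Φ := (injective_iff_map_eq_one _).2 fun α hα => by
    refine MulEquiv.ext fun x => ?_
    refine DFunLike.congr_fun (hom_ext_of_center hperf (f := α.toMonoidHom) (g := MonoidHom.id _)
      fun y => hπc ?_) x
    rw [MonoidHom.mem_ker, map_mul, map_inv]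
    show (π y)⁻¹ * π (α y) = 1
    rw [hΨ, show Ψ α = Φ α from rfl, hα, MulAut.one_apply, inv_mul_cancel]
  obtain ⟨sec, hsec⟩ := hπs.hasRightInverse
  let J : PSL₃(F) × Fin 4 → MulAut (kd b).Mg := fun y => MulAut.conj (sec y.1) * σ y.2
  have hJ : Function.Injective J := by
    rintro ⟨x, a⟩ ⟨x', a'⟩ h
    have key : ∀ m : (kd b).Mg, ((sec x : Equiv.Perm (Fin 224)) * pA b a) * m *
        ((sec x : Equiv.Perm (Fin 224)) * pA b a)⁻¹ =
        ((sec x' : Equiv.Perm (Fin 224)) * pA b a') * m * ((sec x' : Equiv.Perm (Fin 224)) * pA b a')⁻¹ :=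
      fun m => by
        have h' : ((J (x, a) m : (kd b).Mg) : Equiv.Perm (Fin 224)) =
            ((J (x', a') m : (kd b).Mg) : Equiv.Perm (Fin 224)) := by rw [h]
        simp only [J, MulAut.mul_apply, MulAut.conj_apply, Subgroup.coe_mul, Subgroup.coe_inv, hσ] at h'
        group at h' ⊢
        exact h'
    set q := ((sec x' : Equiv.Perm (Fin 224)) * pA b a')⁻¹ * ((sec x : Equiv.Perm (Fin 224)) * pA b a)
      with hq
    obtain ⟨k, hk⟩ := KData.centraliser_le hK hzen (q := q) fun m => by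
      have h' := congrArg (fun z => ((sec x' : Equiv.Perm (Fin 224)) * pA b a')⁻¹ * z *
        ((sec x : Equiv.Perm (Fin 224)) * pA b a)) (key m)
      group at h' ⊢
      rw [hq]
      group
      exact h'
    have hmem : (pA b a')⁻¹ * pA b a ∈ (kd b).Mg := by
      have e : (pA b a')⁻¹ * pA b a = q * ((pA b a)⁻¹ * ((sec x)⁻¹ * sec x' : (kd b).Mg) *
          pA b a) := by
        rw [hq]; simp only [Subgroup.coe_mul, Subgroup.coe_inv]; group
      have hinv : (pA b a)⁻¹ * (((sec x)⁻¹ * sec x' : (kd b).Mg) : Equiv.Perm (Fin 224)) * pA b a =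
          ((σ a).symm ((sec x)⁻¹ * sec x') : (kd b).Mg) := by
        have := hσ a ((σ a).symm ((sec x)⁻¹ * sec x'))
        rw [MulEquiv.apply_symm_apply] at this
        rw [this]
        group
      rw [e, hk, hinv]
      exact mul_mem (Subtype.prop _) (Subtype.prop _)
    have haa : a = a' := by
      by_contra hne
      have hv : (a : ℕ) ≠ a' := fun e => hne (Fin.ext e)
      by_cases ha0 : (a : ℕ) = 0
      · obtain ⟨-, -, hout, -⟩ := KData.sig_spec hK (a := (a' : ℕ) - 1) (by omega)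
        rw [pA, pA, if_pos ha0, if_neg (by omega), mul_one, inv_mem_iff] at hmem
        exact hout hmem
      by_cases ha0' : (a' : ℕ) = 0
      · obtain ⟨-, -, hout, -⟩ := KData.sig_spec hK (a := (a : ℕ) - 1) (by omega)
        rw [pA, pA, if_pos ha0', if_neg ha0, inv_one, one_mul] at hmem
        exact hout hmem
      rw [pA, pA, if_neg ha0, if_neg ha0'] at hmem
      rcases lt_or_gt_of_ne hv with hlt | hlt
      · obtain ⟨-, -, -, hp⟩ := KData.sig_spec hK (a := (a' : ℕ) - 1) (by omega)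
        refine hp ((a : ℕ) - 1) (by omega) ?_
        rw [← inv_mem_iff, mul_inv_rev, inv_inv]
        exact hmem
      · obtain ⟨-, -, -, hp⟩ := KData.sig_spec hK (a := (a : ℕ) - 1) (by omega)
        exact hp ((a' : ℕ) - 1) (by omega) hmem
    subst haa
    refine Prod.ext ?_ rfl
    have hd : (sec x')⁻¹ * sec x ∈ π.ker := by
      have hq' : (σ a).symm ((sec x')⁻¹ * sec x) = (kd b).el (kd b).zeta ^ k := by
        rw [MulEquiv.symm_apply_eq]
        apply Subtype.ext
        rw [hσ, ← hk, hq, Subgroup.coe_mul, Subgroup.coe_inv]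
        group
      rw [← MulEquiv.apply_symm_apply (σ a) ((sec x')⁻¹ * sec x), hq', ← hcenter, mem_center_iff]
      intro g
      obtain ⟨g', rfl⟩ := (σ a).surjective g
      rw [← map_mul, ← map_mul, (Commute.pow_left (hzen g') k).eq]
    rw [MonoidHom.mem_ker, map_mul, map_inv, hsec, hsec, inv_mul_eq_one] at hd
    exact hd.symm
  -- the diagonal automorphism is not induced
  obtain ⟨δ, hδ3, hδ⟩ := exists_diag w hF hw h2 d_ok
  have hδH : δ ∉ Φ.range := by
    rintro ⟨α, hα⟩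
    obtain ⟨θ₀, -, hθ₀, z01, z02⟩ := exists_theta w hF hw h2 b π hπs hπg hπc hperf δ hδ 0
    obtain ⟨θ₁, -, hθ₁, z11, z12⟩ := exists_theta w hF hw h2 b π hπs hπg hπc hperf δ hδ 1
    have heq : α.toMonoidHom.comp θ₀ = θ₁ := hom_ext_of_center (cover_perfect w hF hw h2) fun y => hπc (by
      rw [MonoidHom.mem_ker, map_mul, map_inv, hθ₁]
      show _ * π (α (θ₀ y)) = 1
      rw [hΨ, hθ₀, show Ψ α = δ from hα]
      simp)
    obtain ⟨x, y, hxy0, hxy1⟩ := chi_sep b
    have h0 := (theta_char w hF hw h2 b 0 π hπk _ θ₀ hθ₀ z01 z02 (kerVal w (0, x, y))).2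
      ⟨(0, x, y), rfl, hxy0⟩
    obtain ⟨a, c, ha, hc, hval, -⟩ := ker_char w hF hw h2 π θ₁ _ hθ₁ hπk (orderOf_zeta b)
    have key : ∀ (x : ZMod 4) (n : ℕ), (kd b).el (kd b).zeta ^ n = (kd b).el (kd b).zeta ^ x.val →
        x = (n : ZMod 4) := fun x n h => by
      rw [pow_eq_pow_iff_modEq, orderOf_zeta] at h
      rw [← ZMod.natCast_zmod_val x]
      exact ((ZMod.natCast_eq_natCast_iff _ _ 4).2 h).symm
    have h1 : θ₁ (kerVal w (0, x, y)) = 1 := by
      rw [← heq, MonoidHom.comp_apply, h0, map_one]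
    rw [hval, ← orderOf_dvd_iff_pow_eq_one, orderOf_zeta] at h1
    refine hxy1 ?_
    have h1' := (ZMod.natCast_eq_zero_iff _ 4).2 h1
    rw [ZMod.natCast_zmod_val, key a _ (z11.symm.trans ha), key c _ (z12.symm.trans hc)] at h1'
    exact h1'
  have hAutL : Nat.card (MulAut (PSL₃(F))) = 12 * 20160 := by
    rw [PGammaThreeFour.card_mulAut_psl34 hF]
    exact congrArg _ (SLMult.L34.card_group hF)
  have hidx := Φ.range.card_mul_index
  rw [hAutL, ← Nat.card_congr (MonoidHom.ofInjective hinj).toEquiv] at hidx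
  have hge := Nat.card_le_card_of_injective J hJ
  rw [Nat.card_prod, Nat.card_fin, SLMult.L34.card_group hF] at hge
  have hi1 : Φ.range.index ≠ 1 := fun h => hδH (index_eq_one.1 h ▸ mem_top δ)
  have hi2 : Φ.range.index ≠ 2 := fun h => hδH (by
    have h4 : (δ ^ 2) * δ ^ 2 ∈ Φ.range := Subgroup.mul_self_mem_of_index_two h _
    rwa [← pow_add, pow_succ, hδ3, one_mul] at h4)
  have hi0 : Φ.range.index ≠ 0 := fun h => by rw [h, mul_zero] at hidx; norm_num at hidx
  have hle : Nat.card (MulAut (kd b).Mg) ≤ 20160 * 4 := by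
    have h3 : 3 ≤ Φ.range.index := by omega
    have := Nat.mul_le_mul_left (Nat.card (MulAut (kd b).Mg)) h3
    omega
  have hsur := ((Nat.bijective_iff_injective_and_card J).2 ⟨hJ, le_antisymm (by
    rwa [Nat.card_prod, Nat.card_fin, SLMult.L34.card_group hF]) (by
    rwa [Nat.card_prod, Nat.card_fin, SLMult.L34.card_group hF])⟩).2
  intro α
  obtain ⟨⟨x, a⟩, rfl⟩ := hsur α
  exact ⟨sec x, a, rfl⟩

end Cfsg.Agent.ONUniq
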