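import Cfsg.Agent.ONOut.Cent

/-!
The check behind `[b, e] = 1`: in `C(a, c)` the elements braiding with `f` commute with two given
elements.
-/

set_option autoImplicit false
set_option maxRecDepth 100000
set_option Elab.async false

namespace Cfsg.Agent.ONUniq

open Cfsg.Agent.ONOut Cfsg.Agent.CosetCert

/-- An involution braiding with `f` commutes with the two. -/
noncomputable def testQ (w : List Nat) : Bool :=
  !(com w [3]) || (!(eqW (w ++ w) []) || (!(eqW ([6] ++ w ++ [6] ++ w ++ [6] ++ w) []) ||
    (com w [3, 0, 3, 7] && com w [0, 3, 0, 6])))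

theorem q_ok : (tWords.all fun t => centTest [[3]] testQ t) = true := by decide +kernel

end Cfsg.Agent.ONUniq
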