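import Cfsg.Agent.ONUniq.AutModel

/-!
A centraliser of the shape (4·L3(4)).2 is one of twelve explicit extensions of the two covering
groups.
-/

set_option autoImplicit false
set_option maxHeartbeats 1000000
set_option linter.unusedSectionVars false
set_option linter.style.haveILetI false

namespace Cfsg.Agent.ONUniq

open Cfsg.Agent Cfsg.Agent.Compute Subgroup

attribute [local irreducible] compCode idCode canonC SLMult.L34.codes SLMult.L34.centPairs
  DataL.dperm DataL.dwords DataA.chain DataA.gs DataA.gis DataA.zeta DataA.mask DataA.sig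
  DataB.chain DataB.gs DataB.gis DataB.zeta DataB.mask DataB.sig

/-- The square of the outer element, as an exponent of the central element. -/
def kVal (eps : ℕ) (k : Fin 2) : ℕ := if eps = 1 then (k : ℕ) else 2 * (k : ℕ)

/-- The data of a candidate: automorphism number `a`, square number `k`. -/
def IsCandData (b : Bool) (a : Fin 3) (k : Fin 2) (D : ExtData (kd b).Mg) : Prop :=
  (∀ m : (kd b).Mg, ((D.σ m : (kd b).Mg) : Equiv.Perm (Fin 224)) =
      rep224.den ((kd b).sig.getD a (0, 0)).1 * m * (rep224.den ((kd b).sig.getD a (0, 0)).1)⁻¹) ∧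
    D.z = (kd b).el (kd b).zeta ^ kVal ((kd b).eps.getD a 0) k

theorem eps_cases : ∀ b, ∀ a : Fin 3, (kd b).eps.getD a 0 = 1 ∨ (kd b).eps.getD a 0 = 3 := by
  decide +kernel

theorem adjust : ∀ (e : Fin 4) (n : Fin 4), (e.val = 1 ∨ e.val = 3) → e.val * n.val % 4 = n.val →
    ∃ (j : Fin 4) (k : Fin 2), (e.val * j.val + n.val + j.val) % 4 = kVal e.val k % 4 := by
  decide +kernel

/-- A candidate arises from a group with such a centraliser. -/
theorem exists_cand {C : Type*} [Group C] [Finite C] (t : C) (ht : orderOf t = 2)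
    (htc : ∀ x : C, x * t = t * x) (M : Subgroup C) [M.Normal] (hM : M.index = 2)
    (hout : centralizer (M : Set C) ≤ M) (hZc : IsCyclic (center M)) (hZ4 : Nat.card (center M) = 4)
    (hperf : commutator M = ⊤) (F : Type) [Field F] [Fintype F] (hF : Fintype.card F = 4)
    (e : M ⧸ center M ≃* Matrix.ProjectiveSpecialLinearGroup (Fin 3) F) :
    ∃ (b : Bool) (a : Fin 3) (k : Fin 2) (D : ExtData (kd b).Mg), IsCandData b a k D ∧
      ∃ ψ : Ext D ≃* C, ψ (Ext.inl ((kd b).el (kd b).zeta ^ 2)) = t := by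
  obtain ⟨w, hw, h2⟩ := SLMult.L34.exists_omega hF
  let π : M →* Matrix.ProjectiveSpecialLinearGroup (Fin 3) F :=
    e.toMonoidHom.comp (QuotientGroup.mk' (center M))
  have hπ : Function.Surjective π := e.surjective.comp (QuotientGroup.mk'_surjective _)
  have hker : π.ker = center M := by
    ext x
    simp [π]
  obtain ⟨z₀, hz₀⟩ := hZc.exists_generator
  have hzpow : zpowers (z₀ : M) = center M := by
    refine le_antisymm (zpowers_le.2 z₀.2) fun x hx => ?_
    obtain ⟨n, hn⟩ := hz₀ ⟨x, hx⟩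
    exact ⟨n, congrArg Subtype.val hn⟩
  have hz4 : orderOf (z₀ : M) = 4 := by rw [← Nat.card_zpowers, hzpow, hZ4]
  obtain ⟨b, ⟨ψ₀⟩⟩ := exists_iso w hF hw h2 π hπ hker.le hperf (hker.trans hzpow.symm) hz4
  obtain ⟨σ, hσ, hσ0, hσσ, hzen, hcen, hcases⟩ := aut_cases w hF hw h2 b
  have hK := kd_checked b
  set zK := (kd b).el (kd b).zeta
  let f : (kd b).Mg →* C := M.subtype.comp ψ₀.toMonoidHom
  have hf : Function.Injective f := M.subtype_injective.comp ψ₀.injective
  have hrange : f.range = M := by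
    rw [MonoidHom.range_comp, MonoidHom.range_eq_top.2 ψ₀.surjective, ← MonoidHom.range_eq_map,
      Subgroup.range_subtype]
  obtain ⟨c, hc⟩ : ∃ c : C, c ∉ M := by
    by_contra h
    push Not at h
    rw [(eq_top_iff' M).2 h, index_top] at hM
    omega
  let α : MulAut (kd b).Mg := (ψ₀.trans (MulAut.conjNormal c)).trans ψ₀.symm
  have hα : ∀ m, f (α m) = c * f m * c⁻¹ := fun m => by
    show ((ψ₀ (ψ₀.symm (MulAut.conjNormal c (ψ₀ m))) : M) : C) = _
    rw [MulEquiv.apply_symm_apply, MulAut.conjNormal_apply]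
    rfl
  obtain ⟨m₀, a', hma⟩ := hcases α
  set c₁ := (f m₀)⁻¹ * c with hc₁def
  have hc₁ : c₁ ∉ M := fun h => hc (by
    rw [show c = f m₀ * c₁ by rw [hc₁def]; group]
    exact mul_mem (hrange ▸ MonoidHom.mem_range.2 ⟨m₀, rfl⟩) h)
  have hconj : ∀ m, c₁ * f m * c₁⁻¹ = f (σ a' m) := fun m => by
    have h := hα m
    rw [hma, MulAut.mul_apply, MulAut.conj_apply, map_mul, map_mul, map_inv] at h
    rw [hc₁def, show (f m₀)⁻¹ * c * f m * ((f m₀)⁻¹ * c)⁻¹ =
      (f m₀)⁻¹ * (c * f m * c⁻¹) * f m₀ by group, ← h]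
    group
  have ha0 : (a' : ℕ) ≠ 0 := fun h0 => by
    refine hc₁ (hout (mem_centralizer_iff.2 fun x hx => ?_))
    obtain ⟨m, rfl⟩ : x ∈ f.range := hrange.symm ▸ hx
    have := hconj m
    rw [show a' = 0 from Fin.ext h0, hσ0, MulAut.one_apply, mul_inv_eq_iff_eq_mul] at this
    exact this.symm
  set a : Fin 3 := ⟨(a' : ℕ) - 1, by omega⟩
  have hp : pA b a' = rep224.den ((kd b).sig.getD a (0, 0)).1 := by rw [pA, if_neg ha0]
  obtain ⟨-, hpz, -, -⟩ := KData.sig_spec hK (a := (a : ℕ)) a.2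
  have hz := (KData.zeta_spec hK).1
  have hσz : σ a' zK = zK ^ (kd b).eps.getD a 0 := by
    apply Subtype.ext
    rw [hσ, hp, Subgroup.coe_pow, KData.el_val hz]
    exact hpz
  obtain ⟨z₁, hz₁⟩ : ∃ z₁, f z₁ = c₁ * c₁ := by
    rw [← MonoidHom.mem_range, hrange]
    exact Subgroup.mul_self_mem_of_index_two hM c₁
  have hz₁c : z₁ ∈ center (kd b).Mg := mem_center_iff.2 fun m => hf (by
    have h1 := hconj (σ a' m)
    rw [hσσ, ← hconj m] at h1
    rw [map_mul, map_mul, hz₁]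
    conv_lhs => rw [← h1]
    group)
  rw [hcen] at hz₁c
  obtain ⟨n, hn⟩ : ∃ n : Fin 4, zK ^ (n : ℕ) = z₁ := by
    obtain ⟨i, hi⟩ := hz₁c
    refine ⟨⟨(i % 4).toNat, by omega⟩, ?_⟩
    rw [← hi]
    show zK ^ (i % 4).toNat = zK ^ i
    rw [← zpow_natCast, Int.toNat_of_nonneg (Int.emod_nonneg _ (by norm_num)), zpow_eq_zpow_iff_modEq,
      orderOf_zeta]
    exact Int.mod_modEq _ _
  have hfix : σ a' z₁ = z₁ := hf (by
    rw [← hconj, hz₁]
    group)
  set eps := (kd b).eps.getD a 0 with heps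
  have hen : eps * (n : ℕ) % 4 = n := by
    rw [← hn, map_pow, hσz, ← pow_mul, pow_eq_pow_iff_modEq, orderOf_zeta] at hfix
    rw [hfix]
    exact Nat.mod_eq_of_lt n.2
  have hepsc : eps = 1 ∨ eps = 3 := eps_cases b a
  obtain ⟨j, k, hjk⟩ := adjust ⟨eps, by rcases hepsc with h | h <;> omega⟩ n hepsc hen
  set c₂ := c₁ * f (zK ^ (j : ℕ)) with hc₂def
  have hc₂ : c₂ ∉ f.range := by
    rw [hrange]
    exact fun h => hc₁ ((Subgroup.mul_mem_cancel_right M
      (hrange ▸ MonoidHom.mem_range.2 ⟨_, rfl⟩)).1 h)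
  let D : ExtData (kd b).Mg :=
    { σ := σ a'
      z := zK ^ kVal eps k
      zc := fun m => ((Commute.pow_left (hzen m) _).eq).symm
      fix := by
        rw [map_pow, hσz, ← pow_mul, pow_eq_pow_iff_modEq, orderOf_zeta, Nat.ModEq]
        rcases hepsc with h | h <;> rw [h] <;> fin_cases k <;> rfl
      sq := hσσ a' }
  have hconj₂ : ∀ m, c₂ * f m * c₂⁻¹ = f (D.σ m) := fun m => by
    show _ = f (σ a' m)
    rw [← hconj m, hc₂def]
    have : f (zK ^ (j : ℕ)) * f m = f m * f (zK ^ (j : ℕ)) := by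
      rw [← map_mul, ← map_mul, (Commute.pow_left (hzen m) _).eq]
    rw [show c₁ * f (zK ^ (j : ℕ)) * f m * (c₁ * f (zK ^ (j : ℕ)))⁻¹ =
      c₁ * (f (zK ^ (j : ℕ)) * f m) * (f (zK ^ (j : ℕ)))⁻¹ * c₁⁻¹ by group, this]
    group
  have hsq₂ : c₂ * c₂ = f D.z := by
    show _ = f (zK ^ kVal eps k)
    have hmod : zK ^ (eps * (j : ℕ) + (n : ℕ) + (j : ℕ)) = zK ^ kVal eps k := by
      rw [pow_eq_pow_iff_modEq, orderOf_zeta]
      exact hjk
    rw [← hmod, pow_add, pow_add, pow_mul, ← hσz, ← map_pow, hn, map_mul, map_mul, hz₁,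
      ← hconj (zK ^ (j : ℕ)), hc₂def]
    group
  let φ := Ext.lift D f c₂ hconj₂ hsq₂
  have hbij : Function.Bijective φ :=
    Ext.lift_bijective D f hf c₂ hconj₂ hsq₂ hc₂ (by rw [hrange, hM])
  refine ⟨b, a, k, D, ⟨fun m => by rw [← hp]; exact hσ a' m, rfl⟩, MulEquiv.ofBijective φ hbij, ?_⟩
  -- the involution
  have htM : t ∈ M := hout (mem_centralizer_iff.2 fun x _ => htc x)
  obtain ⟨t₀, ht₀⟩ := ψ₀.surjective ⟨t, htM⟩
  have hft : f t₀ = t := congrArg Subtype.val ht₀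
  have ht₀c : t₀ ∈ center (kd b).Mg := mem_center_iff.2 fun m => hf (by
    rw [map_mul, map_mul, hft, htc])
  rw [hcen] at ht₀c
  have ht₀2 : orderOf t₀ = 2 := by rw [← orderOf_injective f hf, hft, ht]
  have hval : t₀ = zK ^ 2 := by
    have hord := orderOf_zeta b
    obtain ⟨i, hi : zK ^ i = t₀⟩ := ht₀c
    obtain ⟨q, r, hr, hqr⟩ : ∃ q r : ℤ, (r = 0 ∨ r = 1 ∨ r = 2 ∨ r = 3) ∧ i = 4 * q + r :=
      ⟨i / 4, i % 4, by omega, by omega⟩
    have h4 : zK ^ (4 * q) = 1 := by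
      rw [zpow_mul, show zK ^ (4 : ℤ) = 1 by
        rw [show (4 : ℤ) = ((4 : ℕ) : ℤ) from rfl, zpow_natCast, ← hord, pow_orderOf_eq_one], one_zpow]
    rw [hqr, zpow_add, h4, one_mul] at hi
    rcases hr with rfl | rfl | rfl | rfl
    · rw [← hi, zpow_zero, orderOf_one] at ht₀2
      omega
    · rw [← hi, zpow_one, hord] at ht₀2
      omega
    · exact hi.symm
    · exfalso
      have h3 : zK ^ (3 : ℤ) = zK⁻¹ := eq_inv_of_mul_eq_one_left (by
        rw [← zpow_add_one, show (3 : ℤ) + 1 = ((4 : ℕ) : ℤ) from rfl, zpow_natCast, ← hord,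
          pow_orderOf_eq_one])
      rw [← hi, h3, orderOf_inv, hord] at ht₀2
      omega
  show f (zK ^ 2) * cond false c₂ 1 = t
  rw [cond_false, mul_one, ← hval, hft]

end Cfsg.Agent.ONUniq
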