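import Cfsg.Agent.ONUniq.ModelDef

/-!
Executable certificates for the extensions of the covering groups: elements are compared on the
three base points of the chain.
-/

set_option autoImplicit false
set_option maxRecDepth 100000

namespace Cfsg.Agent.ONUniq

open Cfsg.Agent.Compute

/-- An element of an extension, as a map of the points and a parity. -/
structure FX where
  /-- the map -/
  f : ℕ → ℕ
  /-- the parity -/
  e : Bool

/-- The element with a given code and parity. -/
noncomputable def ofC (c : ℕ) (e : Bool) : FX := ⟨getField 8 c, e⟩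

/-- The parameters of an extension: the normalising permutation, its inverse, the square. -/
structure CtxX where
  /-- the normalising permutation -/
  p : ℕ
  /-- its inverse -/
  pi : ℕ
  /-- the square -/
  z : ℕ

/-- The context of a candidate. -/
noncomputable def mkCtx (K : KData) (a k : ℕ) : CtxX :=
  ⟨(K.sig.getD a (0, 0)).1, (K.sig.getD a (0, 0)).2,
    powC K.zeta (cond (Nat.beq (K.eps.getD a 0) 1) k (Nat.mul 2 k))⟩

/-- The twisted map. -/
noncomputable def twF (C : CtxX) (e : Bool) (g : ℕ → ℕ) (x : ℕ) : ℕ :=
  cond e (getField 8 C.p (g (getField 8 C.pi x))) (g x)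

/-- The product. -/
noncomputable def mulF (C : CtxX) (x y : FX) : FX :=
  ⟨fun i => x.f (twF C x.e y.f (cond (x.e && y.e) (getField 8 C.z i) i)), xor x.e y.e⟩

/-- The identity. -/
def oneF : FX := ⟨fun i => i, false⟩

/-- The key: the images of the base points. -/
noncomputable def keyF (x : FX) : ℕ :=
  Nat.add (x.f 0) (Nat.add (Nat.mul 256 (x.f 4)) (Nat.mul 65536 (x.f 8)))

/-- Equality on the base points. -/
noncomputable def eqF (x y : FX) : Bool :=
  cond x.e y.e (!y.e) && Nat.beq (keyF x) (keyF y)

/-- A power. -/
noncomputable def powF (C : CtxX) (x : FX) (n : ℕ) : FX :=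
  Nat.rec (motive := fun _ => FX) oneF (fun _ r => mulF C x r) n

/-- Commutation. -/
noncomputable def commF (C : CtxX) (x y : FX) : Bool := eqF (mulF C x y) (mulF C y x)

/-- A list is strictly increasing. -/
noncomputable def incrB (l : List ℕ) : Bool :=
  List.rec (motive := fun _ => Bool) true
    (fun a t r => List.rec (motive := fun _ => Bool) true (fun b _ _ => Nat.blt a b) t && r) l

/-- An entry of a tree: code, parent, generator, inverse generator is implicit. -/
structure TE where
  /-- the code -/
  c : ℕ
  /-- the parent -/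
  par : ℕ
  /-- the generator -/
  g : ℕ

/-- The data of the involution of a covering group. -/
structure CertV where
  /-- the involution -/
  v : ℕ
  /-- its class, as a tree -/
  cls : List TE
  /-- an ordering of the class by keys -/
  idx : List ℕ
  /-- its centraliser, by increasing keys -/
  cmv : List ℕ

/-- The data of a Sylow subgroup and the outer part of the centraliser. -/
structure CertS where
  /-- the outer part of the centraliser, by increasing keys -/
  wl : List ℕ
  /-- generators of the inner part of the Sylow subgroup -/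
  sgens : List ℕ
  /-- its elements, as a tree -/
  sm : List TE
  /-- an ordering by keys -/
  sidx : List ℕ
  /-- the outer element -/
  m0 : ℕ

/-- A witness for an element of the Sylow subgroup: kind, conjugator code and parity. -/
structure Wit where
  /-- 0: no involution, 1: trivial, 2: the centre, 3: conjugate of v, 4 + r: conjugate of an outer representative -/
  kind : ℕ
  /-- the conjugator -/
  c : ℕ
  /-- its parity -/
  e : Bool

/-- An outer representative with its witnesses, each a code and a parity. -/
structure OutRep where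
  /-- the representative -/
  s : ℕ
  /-- first element -/
  a : ℕ × Bool
  /-- second element -/
  a2 : ℕ × Bool
  /-- conjugator -/
  c : ℕ × Bool
  /-- element of other order -/
  b : ℕ × Bool

/-- The data of a candidate. -/
structure CertW where
  /-- witnesses, inner then outer -/
  wit : List Wit
  /-- outer representatives -/
  reps : List OutRep

/-- Membership of a code in the covering group. -/
noncomputable def inMB (K : KData) (c : ℕ) : Bool :=
  rep224.okb c && Nat.beq (rep224.sift K.chain c) (idCode 8 224)

/-- The checks on the involution. -/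
noncomputable def vB (K : KData) (V : CertV) : Bool :=
  inMB K V.v &&
    Nat.beq V.cls.length 630 && Nat.beq V.idx.length 630 && Nat.beq V.cmv.length 128 &&
    Nat.beq (V.cls.getD 0 ⟨0, 0, 0⟩).c V.v &&
    allBelow 630 (fun j =>
      let x := V.cls.getD j ⟨0, 0, 0⟩
      inMB K x.c && cond (Nat.beq j 0) true (Nat.blt x.par j && Nat.blt x.g 5 &&
        Nat.beq
          (keyF ⟨fun i => getField 8 (K.gs.getD x.g 0) (getField 8 (V.cls.getD x.par ⟨0, 0, 0⟩).c i), false⟩)
          (keyF ⟨fun i => getField 8 x.c (getField 8 (K.gs.getD x.g 0) i), false⟩))) &&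
    V.idx.all (fun j => Nat.blt j 630) &&
    incrB (V.idx.map (fun j => keyF (ofC (V.cls.getD j ⟨0, 0, 0⟩).c false))) &&
    incrB (V.cmv.map (fun c => keyF (ofC c false))) &&
    V.cmv.all (fun c => inMB K c &&
      Nat.beq (keyF ⟨fun i => getField 8 c (getField 8 V.v i), false⟩)
        (keyF ⟨fun i => getField 8 V.v (getField 8 c i), false⟩))

/-- The list of the centraliser. -/
def kList (V : CertV) (S : CertS) : List (ℕ × Bool) :=
  V.cmv.map (fun c => (c, false)) ++ S.wl.map (fun c => (c, true))

/-- The checks on the Sylow data, independent of the square. -/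
noncomputable def sB (K : KData) (V : CertV) (C : CtxX) (S : CertS) : Bool :=
  Nat.beq S.wl.length 128 && incrB (S.wl.map (fun c => keyF (ofC c false))) &&
    S.wl.all (fun c => inMB K c && commF C (ofC c true) (ofC V.v false)) &&
    Nat.beq S.sm.length 256 && Nat.beq S.sidx.length 256 &&
    S.sidx.all (fun j => Nat.blt j 256) &&
    incrB (S.sidx.map (fun j => keyF (ofC (S.sm.getD j ⟨0, 0, 0⟩).c false))) &&
    Nat.beq (keyF (ofC (S.sm.getD 0 ⟨0, 0, 0⟩).c false)) (keyF oneF) &&
    S.sgens.all (inMB K) && inMB K S.m0 &&
    allBelow 256 (fun j =>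
      let x := S.sm.getD j ⟨0, 0, 0⟩
      inMB K x.c && cond (Nat.beq j 0) true (Nat.blt x.par j && Nat.blt x.g S.sgens.length &&
        eqF (mulF C (ofC (S.sgens.getD x.g 0) false) (ofC (S.sm.getD x.par ⟨0, 0, 0⟩).c false))
          (ofC x.c false))) &&
    S.sgens.all (fun g =>
      allBelow 256 (fun j => S.sm.any (fun y =>
        eqF (mulF C (ofC g false) (ofC (S.sm.getD j ⟨0, 0, 0⟩).c false)) (ofC y.c false))) &&
      S.sm.any (fun y =>
        eqF (mulF C (ofC S.m0 true) (ofC g false)) (mulF C (ofC y.c false) (ofC S.m0 true))))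

/-- Element number `i` of the Sylow subgroup. -/
noncomputable def sylElt (C : CtxX) (S : CertS) (i : ℕ) : FX :=
  cond (Nat.blt i 256) (ofC (S.sm.getD i ⟨0, 0, 0⟩).c false)
    (mulF C (ofC (S.sm.getD (Nat.sub i 256) ⟨0, 0, 0⟩).c false) (ofC S.m0 true))

/-- The checks of one witness. -/
noncomputable def witB (K : KData) (C : CtxX) (V : CertV) (S : CertS) (W : CertW) (i : ℕ) : Bool :=
  let x := sylElt C S i
  let w := W.wit.getD i ⟨0, 0, false⟩
  cond (Nat.beq w.kind 0) (!eqF (mulF C x x) oneF)
    (cond (Nat.beq w.kind 1) (eqF x oneF)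
      (cond (Nat.beq w.kind 2) (eqF x (ofC (powC K.zeta 2) false))
        (inMB K w.c && cond (Nat.beq w.kind 3)
          (eqF (mulF C (ofC w.c w.e) x) (mulF C (ofC V.v false) (ofC w.c w.e)))
          (Nat.blt (Nat.sub w.kind 4) W.reps.length &&
            eqF (mulF C (ofC w.c w.e) x)
              (mulF C (ofC (W.reps.getD (Nat.sub w.kind 4) ⟨0, (0, false), (0, false), (0, false), (0, false)⟩).s true)
                (ofC w.c w.e))))))

/-- The checks of one outer representative. -/
noncomputable def repB (K : KData) (C : CtxX) (R : OutRep) : Bool :=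
  let s := ofC R.s true
  let a := ofC R.a.1 R.a.2
  let a2 := ofC R.a2.1 R.a2.2
  let c := ofC R.c.1 R.c.2
  let b := ofC R.b.1 R.b.2
  let x := mulF C (mulF C a a) (mulF C a2 a2)
  inMB K R.s && inMB K R.a.1 && inMB K R.a2.1 && inMB K R.c.1 && inMB K R.b.1 &&
    commF C a s && commF C a2 s && !eqF x oneF && eqF (mulF C x x) oneF &&
    eqF (mulF C c s) (mulF C (mulF C x s) c) && commF C b s && !eqF (powF C b 256) oneF

/-- The checks of a candidate. -/
noncomputable def candB (K : KData) (C : CtxX) (V : CertV) (S : CertS) (W : CertW) : Bool :=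
  S.sm.any (fun y => eqF (mulF C (ofC S.m0 true) (ofC S.m0 true)) (ofC y.c false)) &&
    allBelow 512 (witB K C V S W) && W.reps.all (repB K C) &&
    allBelow 5 (fun s => commF C (ofC (K.gs.getD s 0) false) (ofC V.v false)) == false

/-- The number of square roots of `w` in the listed centraliser with at least `n` commuting elements. -/
noncomputable def rootsB (C : CtxX) (n : ℕ) (l : List (ℕ × Bool)) (w : FX) : ℕ :=
  (l.filter (fun x => eqF (mulF C (ofC x.1 x.2) (ofC x.1 x.2)) w &&
    cond (Nat.beq n 0) true
      (Nat.ble n (l.filter (fun y => commF C (ofC x.1 x.2) (ofC y.1 y.2))).length))).length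

/-- The candidate is wrong. -/
noncomputable def badB (K : KData) (C : CtxX) (V : CertV) (S : CertS) (n : ℕ) : Bool :=
  !Nat.beq (rootsB C n (kList V S) (ofC (powC K.zeta 2) false))
    (rootsB C n (kList V S) (ofC V.v false))

end Cfsg.Agent.ONUniq
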