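import Cfsg.Agent.SLMult.L34

/-!
The cover of PSL(3,4) of `SLMult.L34` is universal among perfect central extensions, and its
homomorphisms are read off from commutator products of the generators.
-/

set_option autoImplicit false

namespace Cfsg.Agent.ONUniq

open Cfsg.Agent Cfsg.Agent.SLMult.L34 Cfsg.Agent.StemCert Cfsg.Agent.Compute
open scoped commutatorElement

set_option linter.style.haveILetI false
set_option maxHeartbeats 1000000

attribute [local irreducible] compCode idCode lifts liftInvs centCodes coverChain codes centPairs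
  clsCode scaCode ptCode tvWords tvList

section Pure

variable {E : Type*} [Group E]

theorem commutatorElement_mul_center {a b x y : E} (hx : x ∈ Subgroup.center E)
    (hy : y ∈ Subgroup.center E) : ⁅a * x, b * y⁆ = ⁅a, b⁆ := by
  simp only [commutatorElement_def, mul_inv_rev]
  have hx' : ∀ g : E, g * x = x * g := fun g => Subgroup.mem_center_iff.1 hx g
  have hy' : ∀ g : E, g * y = y * g := fun g => Subgroup.mem_center_iff.1 hy g
  calc a * x * (b * y) * (x⁻¹ * a⁻¹) * (y⁻¹ * b⁻¹)
      = a * (x * (b * y)) * x⁻¹ * a⁻¹ * y⁻¹ * b⁻¹ := by group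
    _ = a * (b * y) * a⁻¹ * y⁻¹ * b⁻¹ := by rw [← hx' (b * y)]; group
    _ = a * b * (y * a⁻¹) * y⁻¹ * b⁻¹ := by group
    _ = a * b * a⁻¹ * b⁻¹ := by rw [← hy' a⁻¹]; group

/-- A surjection with central kernel: commutators generate the derived group of the derived group. -/
theorem commutator_le_of_central (D : Subgroup E)
    (h : ∀ g : E, ∃ d ∈ D, d⁻¹ * g ∈ Subgroup.center E) : commutator E ≤ ⁅D, D⁆ := by
  rw [commutator_def, Subgroup.commutator_le]
  intro a _ b _
  obtain ⟨d, hd, hz⟩ := h a
  obtain ⟨d', hd', hz'⟩ := h b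
  rw [show a = d * (d⁻¹ * a) by group, show b = d' * (d'⁻¹ * b) by group,
    commutatorElement_mul_center hz hz']
  exact Subgroup.commutator_mem_commutator hd hd'

/-- Two homomorphisms from a perfect group that agree modulo the centre are equal. -/
theorem hom_ext_of_center {A : Type*} [Group A] (hA : commutator A = ⊤) {f g : A →* E}
    (h : ∀ a, (g a)⁻¹ * f a ∈ Subgroup.center E) : f = g := by
  have hle : commutator A ≤ f.eqLocus g := by
    rw [commutator_def, Subgroup.commutator_le]
    intro a _ b _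
    show f ⁅a, b⁆ = g ⁅a, b⁆
    rw [map_commutatorElement, map_commutatorElement,
      show f a = g a * ((g a)⁻¹ * f a) by group, show f b = g b * ((g b)⁻¹ * f b) by group,
      commutatorElement_mul_center (h a) (h b)]
  exact MonoidHom.ext fun a => hle (hA ▸ Subgroup.mem_top a)

theorem commProd_map {A : Type*} [Group A] (f : A →* E) (g : ℕ → A) (l : List (ℕ × ℕ)) :
    f (commProd g l) = commProd (fun s => f (g s)) l := by
  simp [commProd, map_list_prod, List.map_map, Function.comp_def, map_commutatorElement]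

theorem commProd_congr {g g' : ℕ → E} (l : List (ℕ × ℕ))
    (h : ∀ p ∈ l, (g p.1)⁻¹ * g' p.1 ∈ Subgroup.center E ∧ (g p.2)⁻¹ * g' p.2 ∈ Subgroup.center E) :
    commProd g' l = commProd g l := by
  simp only [commProd]
  congr 1
  refine List.map_congr_left fun p hp => ?_
  rw [show g' p.1 = g p.1 * ((g p.1)⁻¹ * g' p.1) by group,
    show g' p.2 = g p.2 * ((g p.2)⁻¹ * g' p.2) by group,
    commutatorElement_mul_center (h p hp).1 (h p hp).2]

end Pure

variable {F : Type} [Field F] [Fintype F] (w : F)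
variable (hF : Fintype.card F = 4) (hw : w * w = w + 1) (h2 : (1 : F) + 1 = 0)

/-- The kernel coordinates. -/
noncomputable def kerVal (v : ZMod 3 × ZMod 4 × ZMod 4) : cover w :=
  zc w 0 ^ v.1.val * (zc w 1 ^ v.2.1.val * zc w 2 ^ v.2.2.val)

include hF hw h2 in
theorem ker_proj : Nat.card (cover w) = 48 * 20160 ∧
    ∀ y ∈ (proj w).ker, ∃ v, y = kerVal w v := by
  letI : CommGroup (Subgroup.center (cover w)) :=
    { (inferInstance : Group (Subgroup.center (cover w))) with
      mul_comm := fun a b => Subtype.ext (Subgroup.mem_center_iff.mp b.2 a) }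
  let Z : ℕ → Subgroup.center (cover w) := fun r =>
    if hr : r < 3 then ⟨zc w r, zc_center w hF hw h2 hr⟩ else 1
  have hZ : ∀ r (hr : r < 3), (Z r : cover w) = zc w r := fun r hr => by simp [Z, dif_pos hr]
  have hsnd : ∀ r, r < 3 → ∀ n : ℕ, ((Z r : cover w) ^ n).1.2 = rep511.den (centCodes.getD r 0) ^ n :=
    fun r hr n => by rw [Subgroup.coe_pow, Prod.pow_snd, hZ r hr, zc_snd w hr]
  have hpw : ∀ r n, r < 3 → rep511.den (centCodes.getD r 0) ^ n = 1 → Z r ^ n = 1 := fun r n hr h => by
    apply Subtype.ext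
    apply snd_injective w hF hw h2
    show ((Z r ^ n : Subgroup.center (cover w)) : cover w).1.2 = _
    rw [Subgroup.coe_pow, hsnd r hr, h]
    rfl
  let φ := tripleHom (Z 0) (Z 1) (Z 2) (hpw 0 3 (by norm_num) cent_pow.1)
    (hpw 1 4 (by norm_num) cent_pow.2.1) (hpw 2 4 (by norm_num) cent_pow.2.2)
  let π : Multiplicative (ZMod 3 × ZMod 4 × ZMod 4) →* cover w := (Subgroup.center _).subtype.comp φ
  have hval : ∀ v : ZMod 3 × ZMod 4 × ZMod 4, π (Multiplicative.ofAdd v) = kerVal w v := by
    rintro ⟨x, y, z⟩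
    have e := tripleHom_apply (Z 0) (Z 1) (Z 2) (hpw 0 3 (by norm_num) cent_pow.1)
      (hpw 1 4 (by norm_num) cent_pow.2.1) (hpw 2 4 (by norm_num) cent_pow.2.2)
      (x.val : ℤ) (y.val : ℤ) (z.val : ℤ)
    simp only [Int.cast_natCast, ZMod.natCast_zmod_val, zpow_natCast] at e
    show ((φ _ : Subgroup.center (cover w)) : cover w) = _
    rw [e]
    simp [kerVal, hZ]
  have hinj : Function.Injective π := by
    rw [injective_iff_map_eq_one]
    intro v hv
    rw [← ofAdd_toAdd v, hval] at hv
    have := congrArg (fun y : cover w => y.1.2) hv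
    simp only [kerVal, ← hZ 0 (by norm_num), ← hZ 1 (by norm_num), ← hZ 2 (by norm_num),
      Subgroup.coe_mul, Prod.snd_mul, hsnd 0 (by norm_num), hsnd 1 (by norm_num),
      hsnd 2 (by norm_num), Subgroup.coe_one, Prod.snd_one] at this
    obtain ⟨a, b, c⟩ := cent_free (ZMod.val_lt _) (ZMod.val_lt _) (ZMod.val_lt _) this
    rw [ZMod.val_eq_zero] at a b c
    rw [← ofAdd_toAdd v, ← ofAdd_zero]
    exact congrArg _ (Prod.ext a (Prod.ext b c))
  have hrange : π.range ≤ (proj w).ker := by
    rintro _ ⟨v, rfl⟩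
    rw [← ofAdd_toAdd v, hval, kerVal]
    exact mul_mem (pow_mem (zc_ker w hF hw h2 (by norm_num)) _)
      (mul_mem (pow_mem (zc_ker w hF hw h2 (by norm_num)) _)
        (pow_mem (zc_ker w hF hw h2 (by norm_num)) _))
  have hcard : Nat.card π.range = 48 := by
    rw [← Nat.card_congr (MonoidHom.ofInjective hinj).toEquiv]
    simp [Nat.card_eq_fintype_card]
  have h1 := Subgroup.card_mul_index (proj w).ker
  rw [Subgroup.index_ker, MonoidHom.range_eq_top.mpr (proj_surjective w hF hw h2), Subgroup.card_top,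
    card_group hF] at h1
  have h3 := card_cover_le w hF hw h2
  have h4 := Subgroup.card_le_of_le hrange
  rw [hcard] at h4
  have h5 : Nat.card (proj w).ker = 48 := by
    generalize Nat.card (proj w).ker = c at h1 h4 ⊢
    omega
  refine ⟨by rw [h5] at h1; exact h1.symm, fun y hy => ?_⟩
  have hker : π.range = (proj w).ker :=
    Subgroup.eq_of_le_of_card_ge hrange (by rw [hcard, h5])
  obtain ⟨v, rfl⟩ : y ∈ π.range := hker ▸ hy
  exact ⟨v.toAdd, by rw [← hval, ofAdd_toAdd]⟩

include hF hw h2 in
theorem cover_perfect : commutator (cover w) = ⊤ := by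
  have hL : commutator (Matrix.ProjectiveSpecialLinearGroup (Fin 3) F) = ⊤ := by
    haveI : IsSimpleGroup (Matrix.ProjectiveSpecialLinearGroup (Fin 3) F) :=
      Classical.isSimpleGroup_psl (Or.inl (by simp))
    rcases (inferInstance : (commutator (Matrix.ProjectiveSpecialLinearGroup (Fin 3) F)).Normal).eq_bot_or_eq_top
      with h | h
    · exfalso
      obtain ⟨-, hk⟩ := ker_proj w hF hw h2
      have hc := card_group hF
      letI : CommGroup (Matrix.ProjectiveSpecialLinearGroup (Fin 3) F) :=
        { (inferInstance : Group (Matrix.ProjectiveSpecialLinearGroup (Fin 3) F)) with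
          mul_comm := fun a b => commutatorElement_eq_one_iff_mul_comm.1 (Subgroup.mem_bot.1
            (h ▸ Subgroup.commutator_mem_commutator (Subgroup.mem_top a) (Subgroup.mem_top b))) }
      have hp : (Nat.card (Matrix.ProjectiveSpecialLinearGroup (Fin 3) F)).Prime := IsSimpleGroup.prime_card
      rw [hc] at hp
      norm_num at hp
    · exact h
  refine eq_top_iff.2 fun y _ => ?_
  obtain ⟨d, hd, hdy⟩ : proj w y ∈ (commutator (cover w)).map (proj w) := by
    rw [commutator_def, Subgroup.map_commutator,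
      Subgroup.map_top_of_surjective _ (proj_surjective w hF hw h2), ← commutator_def, hL]
    trivial
  obtain ⟨v, hv⟩ := (ker_proj w hF hw h2).2 (d⁻¹ * y) (by
    rw [MonoidHom.mem_ker, map_mul, map_inv, hdy, inv_mul_cancel])
  rw [show y = d * (d⁻¹ * y) by group, hv]
  exact mul_mem hd (mul_mem (pow_mem (zc_mem_commutator w _) _)
    (mul_mem (pow_mem (zc_mem_commutator w _) _) (pow_mem (zc_mem_commutator w _) _)))

include hF hw h2 in
/-- A homomorphism into a perfect central extension over a given map. -/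
theorem exists_hom {E : Type*} [Group E] [Finite E] (π : E →* Matrix.ProjectiveSpecialLinearGroup (Fin 3) F)
    (hπ : Function.Surjective π) (hπc : π.ker ≤ Subgroup.center E) (hE : commutator E = ⊤) :
    ∃ θ : cover w →* E, Function.Surjective θ ∧ ∀ y, π (θ y) = proj w y := by
  let Y : Subgroup (E × cover w) :=
    (π.comp (MonoidHom.fst E (cover w))).eqLocus ((proj w).comp (MonoidHom.snd E (cover w)))
  have hY : ∀ p : E × cover w, p ∈ Y ↔ π p.1 = proj w p.2 := fun p => Iff.rfl
  let p₁ : Y →* E := (MonoidHom.fst E (cover w)).comp Y.subtype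
  let p₂ : Y →* cover w := (MonoidHom.snd E (cover w)).comp Y.subtype
  have q₁ : Function.Surjective p₁ := fun a => by
    obtain ⟨b, hb⟩ := proj_surjective w hF hw h2 (π a)
    exact ⟨⟨(a, b), (hY _).2 hb.symm⟩, rfl⟩
  have q₂ : Function.Surjective p₂ := fun b => by
    obtain ⟨a, ha⟩ := hπ (proj w b)
    exact ⟨⟨(a, b), (hY _).2 ha⟩, rfl⟩
  let D : Subgroup Y := commutator Y
  have m₁ : D.map p₁ = ⊤ := by
    show (commutator Y).map p₁ = ⊤
    rw [commutator_def, Subgroup.map_commutator, Subgroup.map_top_of_surjective _ q₁, ← commutator_def, hE]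
  have m₂ : D.map p₂ = ⊤ := by
    show (commutator Y).map p₂ = ⊤
    rw [commutator_def, Subgroup.map_commutator, Subgroup.map_top_of_surjective _ q₂, ← commutator_def,
      cover_perfect w hF hw h2]
  have hcover : ∀ y : cover w, proj w y = 1 → y ∈ Subgroup.center (cover w) := fun y hy => by
    obtain ⟨v, rfl⟩ := (ker_proj w hF hw h2).2 y hy
    exact mul_mem (pow_mem (zc_center w hF hw h2 (by norm_num)) _)
      (mul_mem (pow_mem (zc_center w hF hw h2 (by norm_num)) _)
        (pow_mem (zc_center w hF hw h2 (by norm_num)) _))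
  have hcen : ∀ y : Y, π (p₁ y) = 1 → y ∈ Subgroup.center Y := fun y hy => by
    refine Subgroup.mem_center_iff.2 fun g => Subtype.ext (Prod.ext
      (Subgroup.mem_center_iff.1 (hπc hy) _) (Subgroup.mem_center_iff.1 (hcover _ ?_) _))
    exact ((hY _).1 y.2).symm.trans hy
  have hperf : D ≤ ⁅D, D⁆ := commutator_le_of_central D fun g => by
    obtain ⟨d, hd, hd'⟩ : p₁ g ∈ D.map p₁ := by rw [m₁]; trivial
    exact ⟨d, hd, hcen _ (by rw [map_mul, map_inv, hd', inv_mul_cancel, map_one])⟩
  let e : Shrink.{0} D ≃* D := Shrink.mulEquiv.{0}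
  let σ₀ : D →* Matrix.ProjectiveSpecialLinearGroup (Fin 3) F := (π.comp p₁).comp D.subtype
  let σ : Shrink.{0} D →* Matrix.ProjectiveSpecialLinearGroup (Fin 3) F := σ₀.comp e.toMonoidHom
  have hσ : Cfsg.IsStemExtension σ := by
    refine ⟨(show Function.Surjective σ₀ from fun x => ?_).comp e.surjective, fun x hx => ?_, fun x _ => ?_⟩
    · obtain ⟨a, rfl⟩ := hπ x
      obtain ⟨d, hd, rfl⟩ : a ∈ D.map p₁ := by rw [m₁]; trivial
      exact ⟨⟨d, hd⟩, rfl⟩
    · rw [Subgroup.mem_center_iff]
      refine fun g => e.injective (Subtype.ext ?_)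
      rw [map_mul, map_mul]
      exact Subgroup.mem_center_iff.1 (hcen (e x : D) hx) _
    · have h := hperf (e x).2
      rw [← Subgroup.map_subtype_commutator] at h
      obtain ⟨t, ht, het⟩ := h
      have h' := Subgroup.mem_map_of_mem e.symm.toMonoidHom ht
      rw [commutator_def, Subgroup.map_commutator,
        Subgroup.map_top_of_surjective _ e.symm.surjective, ← commutator_def] at h'
      rwa [show t = e x from Subtype.ext het, MulEquiv.coe_toMonoidHom, e.symm_apply_apply] at h'
  obtain ⟨ρ, hρ⟩ := kernel_bound w hF hw h2 σ hσ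
  have hk : Nat.card σ.ker ≤ 48 := by
    refine (Nat.card_le_card_of_surjective ρ hρ).trans ?_
    simp [Nat.card_eq_fintype_card]
  have hD : Nat.card D ≤ Nat.card (cover w) := by
    rw [(ker_proj w hF hw h2).1, ← Nat.card_congr e.toEquiv, ← Subgroup.card_mul_index σ.ker,
      Subgroup.index_ker, MonoidHom.range_eq_top.2 hσ.1, Subgroup.card_top, card_group hF]
    exact Nat.mul_le_mul_right _ hk
  have hsur : Function.Surjective (p₂.comp D.subtype) := fun b => by
    obtain ⟨d, hd, rfl⟩ : b ∈ D.map p₂ := by rw [m₂]; trivial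
    exact ⟨⟨d, hd⟩, rfl⟩
  have hbij : Function.Bijective (p₂.comp D.subtype) :=
    (Nat.bijective_iff_surjective_and_card _).2
      ⟨hsur, le_antisymm hD (Nat.card_le_card_of_surjective _ hsur)⟩
  refine ⟨(p₁.comp D.subtype).comp (MulEquiv.ofBijective _ hbij).symm.toMonoidHom, ?_, fun y => ?_⟩
  · rw [MonoidHom.coe_comp]
    refine (show Function.Surjective (p₁.comp D.subtype) from fun a => ?_).comp (MulEquiv.surjective _)
    obtain ⟨d, hd, rfl⟩ : a ∈ D.map p₁ := by rw [m₁]; trivial
    exact ⟨⟨d, hd⟩, rfl⟩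
  · set d := (MulEquiv.ofBijective _ hbij).symm y with hd
    refine ((hY _).1 d.1.2).trans ?_
    exact congrArg (proj w) ((MulEquiv.ofBijective _ hbij).apply_symm_apply y)

theorem proj_lift {s : ℕ} (hs : s < 5) : proj w (lift w s) = gen w s := by
  rw [proj, MonoidHom.comp_apply, Subgroup.coe_subtype, MonoidHom.coe_fst, lift_val w hs]

/-- The images of the kernel generators are commutator products of preimages. -/
theorem hom_zc {E : Type*} [Group E] (π : E →* Matrix.ProjectiveSpecialLinearGroup (Fin 3) F)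
    (hπc : π.ker ≤ Subgroup.center E) {δ : MulAut (Matrix.ProjectiveSpecialLinearGroup (Fin 3) F)}
    (θ : cover w →* E) (hθ : ∀ y, π (θ y) = δ (proj w y)) (g : ℕ → E)
    (hg : ∀ s < 5, π (g s) = δ (gen w s)) {r : ℕ} (hr : r < 3) :
    θ (zc w r) = commProd g (centPairs.getD r []) := by
  rw [zc, commProd_map]
  have hlt : ∀ p ∈ centPairs.getD r [], p.1 < 5 ∧ p.2 < 5 := (cent_spec hr).2.1
  refine commProd_congr _ fun p hp => ⟨hπc ?_, hπc ?_⟩
  · rw [MonoidHom.mem_ker, map_mul, map_inv, hθ, proj_lift w (hlt p hp).1, hg _ (hlt p hp).1,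
      inv_mul_cancel]
  · rw [MonoidHom.mem_ker, map_mul, map_inv, hθ, proj_lift w (hlt p hp).2, hg _ (hlt p hp).2,
      inv_mul_cancel]

end Cfsg.Agent.ONUniq
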