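import Cfsg.Agent.ONUniq.ModelDef
import Cfsg.Agent.ONUniq.Cover

/-!
A checked covering group 4.L3(4) on 224 points: its map onto PSL(3,4) and the three twisted maps
of the universal cover onto it.
-/

set_option autoImplicit false
set_option maxHeartbeats 1000000
set_option linter.unusedSectionVars false

namespace Cfsg.Agent.ONUniq

open Cfsg.Agent Cfsg.Agent.Compute Cfsg.Agent.StemCert Subgroup
open scoped commutatorElement

local notation "PSL₃(" F ")" => Matrix.ProjectiveSpecialLinearGroup (Fin 3) F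

attribute [local irreducible] compCode idCode canonC SLMult.L34.codes SLMult.L34.centPairs
  DataL.dperm DataL.dwords

/-- Permutations of 21 points. -/
noncomputable def rep21 : Rep (Equiv.Perm (Fin 21)) (Fin 21) :=
  permRep 5 21 (Equiv.refl _) (by norm_num) (by norm_num)

theorem rep224_mul (a b : ℕ) : rep224.mul a b = compCode 8 224 a b := by
  unfold rep224 permRep
  with_reducible rfl

theorem rep224_one : rep224.one = idCode 8 224 := by
  unfold rep224 permRep
  with_reducible rfl

theorem rep21_mul (a b : ℕ) : rep21.mul a b = compCode 5 21 a b := by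
  unfold rep21 permRep
  with_reducible rfl

theorem rep21_one : rep21.one = idCode 5 21 := by
  unfold rep21 permRep
  with_reducible rfl

theorem act224 {c : ℕ} (hc : rep224.Ok c) (x : Fin 224) :
    ((rep224.den c x : Fin 224) : ℕ) = getField 8 c x := by
  rw [show x = (Equiv.refl (Fin 224)) x from rfl]
  exact congrArg Fin.val (denPerm_apply (Equiv.refl (Fin 224)) hc x)

theorem act21 {c : ℕ} (hc : rep21.Ok c) (x : Fin 21) :
    ((rep21.den c x : Fin 21) : ℕ) = getField 5 c x := by
  rw [show x = (Equiv.refl (Fin 21)) x from rfl]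
  exact congrArg Fin.val (denPerm_apply (Equiv.refl (Fin 21)) hc x)

theorem pack_congr (w : ℕ) : ∀ (n : ℕ) {f g : ℕ → ℕ}, (∀ i < n, f i = g i) → pack w n f = pack w n g
  | 0, _, _, _ => rfl
  | n + 1, f, g, h => by
    rw [pack_succ, pack_succ, pack_congr w n fun i hi => h i (by omega), h n (by omega)]

/-- Different canonical codes denote different permutations. -/
theorem den_ne_of_neB {p q : ℕ} (hp : rep224.Ok p) (hq : rep224.Ok q) (h : neB p q = true) :
    rep224.den p ≠ rep224.den q := fun he => by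
  simp only [neB, Bool.not_eq_true', ← Bool.not_eq_true, Nat.beq_eq] at h
  refine h ?_
  unfold canonC
  exact pack_congr 8 224 fun i hi => by rw [← act224 hp ⟨i, hi⟩, he, act224 hq ⟨i, hi⟩]

/-- The canonical code denotes the same permutation. -/
theorem canonC_spec {c : ℕ} (hc : rep224.Ok c) :
    rep224.Ok (canonC c) ∧ rep224.den (canonC c) = rep224.den c := by
  have h : canonC c = compCode 8 224 c (idCode 8 224) := by
    unfold canonC compCode
    exact pack_congr 8 224 fun i hi => by rw [getField_idCode (by norm_num) hi]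
  rw [h, ← rep224_mul, ← rep224_one]
  exact ⟨rep224.ok_mul _ _ hc rep224.ok_one,
    by rw [rep224.den_mul _ _ hc rep224.ok_one, rep224.den_one, mul_one]⟩

/-- An element of the group of a chain sifts to the identity. -/
theorem sift_complete {G : Type*} [Group G] [Finite G] {Ω : Type*} [MulAction G Ω] (R : Rep G Ω) :
    ∀ (Ls : List Level), R.checkChain Ls = true → ∀ {r : ℕ}, R.Ok r → R.den r ∈ R.chainGroup Ls →
      R.Ok (R.sift Ls r) ∧ R.den (R.sift Ls r) = 1
  | [], _, r, hr, hm => by
    show R.Ok r ∧ R.den r = 1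
    refine ⟨hr, ?_⟩
    simpa [Rep.chainGroup, Rep.span, topGens] using hm
  | L :: Ls, hc, r, hr, hm => by
    have hc' := hc
    rw [R.checkChain_cons, Bool.and_eq_true] at hc'
    have h := R.levelOK_of_check hc'.1
    obtain ⟨j, hj, y, hy, hxy⟩ := R.decompose hc hm
    have hfix := MulAction.mem_stabilizer_iff.mp (Rep.next_fixes h hy)
    have hact : R.act r L.base = R.act (R.entry L j).u L.base := by
      have h1 := R.act_spec r _ hr h.base_lt
      rw [hxy, mul_smul, hfix, R.act_spec _ _ (h.entry_all j).1 h.base_lt] at h1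
      exact (R.pt_inj _ _ (R.act_lt _ _ (h.entry_all j).1 h.base_lt) (R.act_lt _ _ hr h.base_lt) h1).symm
    rw [R.sift_cons, hact, (h.entries j hj).2.2.2.1]
    obtain ⟨hu, hui, hinv⟩ := h.entry_all j
    refine sift_complete R Ls hc'.2 (R.ok_mul _ _ hui hr) ?_
    rw [R.den_mul _ _ hui hr, hinv, hxy, inv_mul_cancel_left]
    exact hy

section Words

variable {n : ℕ} {G : Type*} [Group G] {Ω : Type*} [MulAction G Ω] (R : Rep G Ω) (wd : ℕ)
  (hmul : ∀ a b, R.mul a b = compCode wd n a b) (hone : R.one = idCode wd n)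
  (g gi : List ℕ) (hg : ∀ s < 5, R.Ok (g.getD s 0))

include hmul hone hg in
theorem evalC_spec : ∀ w : List ℕ, (∀ x ∈ w, x < 5) → R.Ok (evalC wd n g w) ∧
    R.den (evalC wd n g w) = evalW (fun s => R.den (g.getD s 0)) w
  | [], _ => by
    rw [show evalC wd n g [] = idCode wd n from rfl, ← hone]
    exact ⟨R.ok_one, R.den_one⟩
  | s :: w, h => by
    obtain ⟨h1, h2⟩ := evalC_spec w fun x hx => h x (by simp [hx])
    have hs := hg s (h s (by simp))
    rw [show evalC wd n g (s :: w) = compCode wd n (g.getD s 0) (evalC wd n g w) from rfl, ← hmul]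
    exact ⟨R.ok_mul _ _ hs h1, by rw [R.den_mul _ _ hs h1, h2, evalW_cons]⟩

include hmul hone hg in
theorem evalI_spec (hgi : ∀ s < 5, R.Ok (gi.getD s 0) ∧ R.den (gi.getD s 0) = (R.den (g.getD s 0))⁻¹) :
    ∀ w : List ℕ, (∀ x ∈ w, x < 5) → R.Ok (evalI wd n gi w) ∧
    R.den (evalI wd n gi w) = (evalW (fun s => R.den (g.getD s 0)) w)⁻¹
  | [], _ => by
    rw [show evalI wd n gi [] = idCode wd n from rfl, ← hone]
    exact ⟨R.ok_one, by simp [R.den_one, evalW]⟩
  | s :: w, h => by
    obtain ⟨h1, h2⟩ := evalI_spec hgi w fun x hx => h x (by simp [hx])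
    obtain ⟨hs, hs'⟩ := hgi s (h s (by simp))
    rw [show evalI wd n gi (s :: w) = compCode wd n (evalI wd n gi w) (gi.getD s 0) from rfl, ← hmul]
    exact ⟨R.ok_mul _ _ h1 hs, by rw [R.den_mul _ _ h1 hs, h2, hs', evalW_cons, mul_inv_rev]⟩

end Words

theorem evalW_map {A B : Type*} [Group A] [Group B] (f : A →* B) (g : ℕ → A) (w : List ℕ) :
    f (evalW g w) = evalW (fun s => f (g s)) w := by
  simp [evalW, map_list_prod, List.map_map, Function.comp_def]

theorem evalW_congr {A : Type*} [Group A] {g g' : ℕ → A} {w : List ℕ} (h : ∀ x ∈ w, g x = g' x) :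
    evalW g w = evalW g' w := by
  simp only [evalW]
  exact congrArg List.prod (List.map_congr_left h)

namespace KData

variable (K : KData)

/-- The covering group. -/
noncomputable abbrev Mg : Subgroup (Equiv.Perm (Fin 224)) := rep224.chainGroup K.chain

/-- A code of an element of the covering group. -/
def InM (c : ℕ) : Prop := rep224.Ok c ∧ rep224.den c ∈ K.Mg

open scoped _root_.Classical in
/-- The element with a given code. -/
noncomputable def el (c : ℕ) : K.Mg := if h : rep224.den c ∈ K.Mg then ⟨rep224.den c, h⟩ else 1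

variable {K}

theorem el_val {c : ℕ} (h : K.InM c) : ((K.el c : K.Mg) : Equiv.Perm (Fin 224)) = rep224.den c := by
  simp [el, dif_pos h.2]

theorem InM.mul {a b : ℕ} (ha : K.InM a) (hb : K.InM b) : K.InM (compCode 8 224 a b) := by
  rw [← rep224_mul]
  exact ⟨rep224.ok_mul _ _ ha.1 hb.1, by rw [rep224.den_mul _ _ ha.1 hb.1]; exact mul_mem ha.2 hb.2⟩

theorem el_mul {a b : ℕ} (ha : K.InM a) (hb : K.InM b) :
    K.el (compCode 8 224 a b) = K.el a * K.el b := by
  apply Subtype.ext
  rw [el_val (ha.mul hb), Subgroup.coe_mul, el_val ha, el_val hb, ← rep224_mul,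
    rep224.den_mul _ _ ha.1 hb.1]

theorem InM.one : K.InM (idCode 8 224) := by
  rw [← rep224_one]
  exact ⟨rep224.ok_one, by rw [rep224.den_one]; exact one_mem _⟩

theorem el_one : K.el (idCode 8 224) = 1 := by
  apply Subtype.ext
  rw [el_val InM.one, ← rep224_one, rep224.den_one, Subgroup.coe_one]

theorem InM.pow {c : ℕ} (hc : K.InM c) : ∀ n, K.InM (powC c n) ∧ K.el (powC c n) = K.el c ^ n
  | 0 => by rw [show powC c 0 = idCode 8 224 from rfl, pow_zero]; exact ⟨InM.one, el_one⟩
  | n + 1 => by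
    obtain ⟨h1, h2⟩ := InM.pow hc n
    rw [show powC c (n + 1) = compCode 8 224 c (powC c n) from rfl, pow_succ']
    exact ⟨hc.mul h1, by rw [el_mul hc h1, h2]⟩

theorem el_eq_of_neB {a b : ℕ} (ha : K.InM a) (hb : K.InM b) (h : neB a b = true) :
    K.el a ≠ K.el b := fun he =>
  den_ne_of_neB ha.1 hb.1 h (by rw [← el_val ha, he, el_val hb])

variable (hK : K.Checked)

include hK

theorem gen_spec {s : ℕ} (hs : s < 5) :
    K.InM (K.gs.getD s 0) ∧ rep224.Ok (K.gis.getD s 0) ∧
      rep224.den (K.gis.getD s 0) = (rep224.den (K.gs.getD s 0))⁻¹ ∧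
      ∀ x < 224, ∀ q < 21, bitB (getField 21 K.mask x) q = true →
        bitB (getField 21 K.mask (getField 8 (K.gs.getD s 0) x))
          (getField 5 (SLMult.L34.codes.getD s 0) q) = true := by
  have h := allBelow_eq_true.mp hK.gen s hs
  simp only [genB, Bool.and_eq_true, allBelow_eq_true, Nat.beq_eq, Bool.or_eq_true,
    Bool.not_eq_true', ← Bool.not_eq_true] at h
  obtain ⟨⟨⟨⟨ho, hoi⟩, hinv⟩, hs'⟩, hm⟩ := h
  have ho' := rep224.okb_sound _ ho
  have hoi' := rep224.okb_sound _ hoi
  rw [← rep224_one] at hs'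
  refine ⟨⟨ho', rep224.mem_of_sift _ hK.chain ho' hs'⟩, hoi', eq_inv_of_mul_eq_one_left ?_,
    fun x hx q hq hb => (hm x hx q hq).resolve_left (not_not_intro hb)⟩
  rw [← rep224.den_mul _ _ hoi' ho', rep224_mul, hinv, ← rep224_one, rep224.den_one]

theorem card_Mg : Nat.card K.Mg = 80640 := by
  rw [Mg, rep224.card_chainGroup _ hK.chain, hK.size]

theorem zeta_spec : K.InM K.zeta ∧ K.el K.zeta ^ 4 = 1 ∧ K.el K.zeta ^ 2 ≠ 1 ∧
    ∀ s < 5, K.el (K.gs.getD s 0) * K.el K.zeta = K.el K.zeta * K.el (K.gs.getD s 0) := by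
  have h := hK.zeta
  simp only [zetaB, Bool.and_eq_true, allBelow_eq_true, Nat.beq_eq] at h
  obtain ⟨⟨⟨⟨ho, hs⟩, hc⟩, h4⟩, h2⟩ := h
  have ho' := rep224.okb_sound _ ho
  rw [← rep224_one] at hs
  have hz : K.InM K.zeta := ⟨ho', rep224.mem_of_sift _ hK.chain ho' hs⟩
  refine ⟨hz, ?_, ?_, fun s hs => ?_⟩
  · rw [← (hz.pow 4).2, h4, el_one]
  · rw [← (hz.pow 2).2, ← el_one (K := K)]
    exact el_eq_of_neB (hz.pow 2).1 InM.one h2
  · rw [← el_mul (gen_spec hK hs).1 hz, hc s hs, el_mul hz (gen_spec hK hs).1]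

variable {F : Type} [Field F] [Fintype F] (w : F)
variable (hF : Fintype.card F = 4) (hw : w * w = w + 1) (h2 : (1 : F) + 1 = 0)

omit hK in
variable (K) in
/-- Generator images paired with the generators. -/
noncomputable def pairs : Subgroup (PSL₃(F) × K.Mg) :=
  Subgroup.closure ((fun s => (SLMult.L34.gen w s, K.el (K.gs.getD s 0))) '' {s | s < 5})

include hF hw h2 in
theorem pairs_compat {y : PSL₃(F) × K.Mg} (hy : y ∈ K.pairs w) : ∀ x : Fin 224, ∀ q : Fin 21,
    bitB (getField 21 K.mask x) q = true →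
      bitB (getField 21 K.mask ((y.2 : Equiv.Perm (Fin 224)) x : Fin 224))
        (SLMult.L34.ι hF w hw h2 y.1 q : Fin 21) = true := by
  rw [pairs, ← Subgroup.mem_toSubmonoid, Subgroup.closure_toSubmonoid_of_finite] at hy
  induction hy using Submonoid.closure_induction with
  | mem t ht =>
    obtain ⟨s, hs, rfl⟩ := ht
    intro x q hb
    obtain ⟨hg, -, -, hm⟩ := gen_spec hK hs
    show bitB (getField 21 K.mask ((K.el (K.gs.getD s 0) : Equiv.Perm (Fin 224)) x : Fin 224))
        (SLMult.L34.ι hF w hw h2 (SLMult.L34.gen w s) q : Fin 21) = true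
    rw [el_val hg, act224 hg.1, SLMult.L34.gen_coded hF w hw h2 s hs]
    exact hm x x.2 q q.2 hb
  | one => exact fun x q hb => by simpa using hb
  | mul a b _ _ ha hb =>
    intro x q hbit
    have h := ha _ _ (hb x q hbit)
    simpa using h

omit hK in
theorem bit_fold (m : ℕ → ℕ) (q q' : ℕ) (n : ℕ)
    (h : ∀ x < n, bitB (m x) q = true → bitB (m x) q' = true) (hq : q' < 21) :
    (Nat.rec (motive := fun _ => ℕ) 2097151
      (fun x r => cond (bitB (m x) q) (Nat.land r (m x)) r) n).testBit q' = true := by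
  induction n with
  | zero =>
    show Nat.testBit 2097151 q' = true
    rw [show (2097151 : ℕ) = 2 ^ 21 - 1 by norm_num, Nat.testBit_two_pow_sub_one]
    simpa using hq
  | succ k ih =>
    have ih' := ih fun x hx => h x (by omega)
    show (cond (bitB (m k) q) _ _ : ℕ).testBit q' = true
    cases hk : bitB (m k) q
    · exact ih'
    · have hb := h k (by omega) hk
      rw [cond_true, show ∀ a b, Nat.land a b = a &&& b from fun _ _ => rfl, Nat.testBit_and, ih',
        Bool.true_and, Nat.testBit]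
      simp only [bitB, Nat.beq_eq] at hb
      rw [show (1 &&& m k >>> q') = 1 by rw [Nat.and_comm]; exact hb]
      rfl

include hF hw h2 in
theorem pairs_fst {y : PSL₃(F) × K.Mg} (hy : y ∈ K.pairs w) (h1 : y.2 = 1) : y.1 = 1 := by
  refine SLMult.L34.ι_injective hF w hw h2 (Equiv.ext fun q => ?_)
  rw [map_one, Equiv.Perm.one_apply]
  have hs := allBelow_eq_true.mp hK.sep q q.2
  simp only [sepB, Nat.beq_eq] at hs
  have hb := bit_fold (fun x => getField 21 K.mask x) q
    (SLMult.L34.ι hF w hw h2 y.1 q : Fin 21) 224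
    (fun x hx hb => by
      have := pairs_compat hK w hF hw h2 hy ⟨x, hx⟩ q hb
      rwa [h1] at this) (Fin.is_lt _)
  rw [hs, show Nat.shiftLeft 1 (q : ℕ) = 2 ^ (q : ℕ) from Nat.one_shiftLeft _,
    Nat.testBit_two_pow] at hb
  exact Fin.ext (of_decide_eq_true hb).symm

theorem tw_lt {i s : ℕ} (hd : dB = true) (hi : i < 3) (hs : s < 5) : ∀ x ∈ twistW i s, x < 5 := by
  rcases i with _ | i
  · intro x hx
    have : twistW 0 s = [s] := rfl
    rw [this, List.mem_singleton] at hx
    omega
  · simp only [dB, Bool.and_eq_true, allBelow_eq_true, List.all_eq_true, Nat.blt_eq] at hd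
    exact (hd.2 i (by omega) s hs).1

theorem evalC_mem {v : List ℕ} (hv : ∀ x ∈ v, x < 5) : K.InM (evalC 8 224 K.gs v) ∧
    K.el (evalC 8 224 K.gs v) = evalW (fun s => K.el (K.gs.getD s 0)) v := by
  obtain ⟨h1, h2⟩ := evalC_spec rep224 8 rep224_mul rep224_one K.gs
    (fun s hs => (gen_spec hK hs).1.1) v hv
  have hcoe : ((evalW (fun s => K.el (K.gs.getD s 0)) v : K.Mg) : Equiv.Perm (Fin 224)) =
      rep224.den (evalC 8 224 K.gs v) := by
    rw [h2, ← Subgroup.subtype_apply, evalW_map]
    exact evalW_congr fun x hx => el_val (gen_spec hK (hv x hx)).1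
  have hin : K.InM (evalC 8 224 K.gs v) := ⟨h1, hcoe ▸ (evalW (fun s => K.el (K.gs.getD s 0)) v).2⟩
  exact ⟨hin, Subtype.ext (by rw [el_val hin, hcoe])⟩

theorem evalI_mem {v : List ℕ} (hv : ∀ x ∈ v, x < 5) : K.InM (evalI 8 224 K.gis v) ∧
    K.el (evalI 8 224 K.gis v) = (evalW (fun s => K.el (K.gs.getD s 0)) v)⁻¹ := by
  obtain ⟨h1, h2⟩ := evalI_spec rep224 8 rep224_mul rep224_one K.gs K.gis
    (fun s hs => (gen_spec hK hs).1.1) (fun s hs => ⟨(gen_spec hK hs).2.1, (gen_spec hK hs).2.2.1⟩) v hv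
  have hcoe : (((evalW (fun s => K.el (K.gs.getD s 0)) v)⁻¹ : K.Mg) : Equiv.Perm (Fin 224)) =
      rep224.den (evalI 8 224 K.gis v) := by
    rw [h2, Subgroup.coe_inv, ← Subgroup.subtype_apply, evalW_map]
    exact congrArg _ (evalW_congr fun x hx => el_val (gen_spec hK (hv x hx)).1)
  have hin : K.InM (evalI 8 224 K.gis v) := ⟨h1, hcoe ▸ ((evalW (fun s => K.el (K.gs.getD s 0)) v)⁻¹).2⟩
  exact ⟨hin, Subtype.ext (by rw [el_val hin, hcoe])⟩

theorem commC_mem (hd : dB = true) {i : ℕ} (hi : i < 3) : ∀ l : List (ℕ × ℕ),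
    (∀ p ∈ l, p.1 < 5 ∧ p.2 < 5) → K.InM (commC K i l) ∧ K.el (commC K i l) =
      commProd (fun s => evalW (fun x => K.el (K.gs.getD x 0)) (twistW i s)) l
  | [], _ => by
    rw [show commC K i [] = idCode 8 224 from rfl]
    exact ⟨InM.one, el_one⟩
  | p :: l, h => by
    obtain ⟨ha, hb⟩ := h p (by simp)
    obtain ⟨i1, i2⟩ := commC_mem hd hi l fun x hx => h x (by simp [hx])
    obtain ⟨a1, a2⟩ := evalC_mem hK (tw_lt hK hd hi ha)
    obtain ⟨b1, b2⟩ := evalC_mem hK (tw_lt hK hd hi hb)
    obtain ⟨c1, c2⟩ := evalI_mem hK (tw_lt hK hd hi ha)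
    obtain ⟨d1, d2⟩ := evalI_mem hK (tw_lt hK hd hi hb)
    have e1 := a1.mul b1
    have e2 := e1.mul c1
    have e3 := e2.mul d1
    rw [show commC K i (p :: l) = compCode 8 224 (compCode 8 224 (compCode 8 224 (compCode 8 224
      (evalC 8 224 K.gs (twistW i p.1)) (evalC 8 224 K.gs (twistW i p.2)))
      (evalI 8 224 K.gis (twistW i p.1))) (evalI 8 224 K.gis (twistW i p.2))) (commC K i l) from rfl]
    refine ⟨e3.mul i1, ?_⟩
    rw [el_mul e3 i1, el_mul e2 d1, el_mul e1 c1, el_mul a1 b1, a2, b2, c2, d2, i2]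
    simp [commProd, commutatorElement_def]

include hF hw h2 in
/-- The covering map. -/
theorem exists_pi (hd : dB = true) (hchi : (K.chi.getD 0 (0, 0)).1 = 1) :
    ∃ π : K.Mg →* PSL₃(F), Function.Surjective π ∧ (∀ s < 5, π (K.el (K.gs.getD s 0)) =
      SLMult.L34.gen w s) ∧ π.ker = zpowers (K.el K.zeta) ∧ π.ker ≤ center K.Mg ∧
      commutator K.Mg = ⊤ ∧ Nat.card π.ker = 4 := by
  obtain ⟨hz, hz4, hz2, hzc⟩ := zeta_spec hK
  let P := K.pairs w
  let p₁ : P →* PSL₃(F) := (MonoidHom.fst _ _).comp P.subtype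
  let p₂ : P →* K.Mg := (MonoidHom.snd _ _).comp P.subtype
  have hgen : ∀ s, s < 5 → (SLMult.L34.gen w s, K.el (K.gs.getD s 0)) ∈ P :=
    fun s hs => Subgroup.subset_closure ⟨s, hs, rfl⟩
  have hinj : Function.Injective p₂ := (injective_iff_map_eq_one _).2 fun y hy =>
    Subtype.ext (Prod.ext (pairs_fst hK w hF hw h2 y.2 hy) hy)
  have hsur : Function.Surjective p₁ := by
    intro x
    have hx := SLMult.L34.gen_generates hF w hw h2 x
    induction hx using Submonoid.closure_induction with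
    | mem t ht =>
      obtain ⟨s, hs, rfl⟩ := ht
      exact ⟨⟨_, hgen s hs⟩, rfl⟩
    | one => exact ⟨1, map_one _⟩
    | mul a b _ _ ha hb =>
      obtain ⟨a', rfl⟩ := ha
      obtain ⟨b', rfl⟩ := hb
      exact ⟨a' * b', map_mul _ _ _⟩
  let G : ℕ → P := fun s => if hs : s < 5 then ⟨_, hgen s hs⟩ else 1
  let zp : P := commProd G (SLMult.L34.centPairs.getD 1 [])
  have hlt := (SLMult.L34.cent_spec (r := 1) (by norm_num)).2.1
  have hzp1 : p₁ zp = 1 := by
    rw [commProd_map, show commProd (fun s => p₁ (G s)) (SLMult.L34.centPairs.getD 1 []) =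
      commProd (SLMult.L34.gen w) (SLMult.L34.centPairs.getD 1 []) from ?_]
    · have h := SLMult.L34.zc_ker w hF hw h2 (r := 1) (by norm_num)
      rw [MonoidHom.mem_ker, SLMult.L34.zc, commProd_map] at h
      refine Eq.trans ?_ h
      simp only [commProd]
      exact congrArg List.prod (List.map_congr_left fun p hp => by
        rw [proj_lift w (hlt p hp).1, proj_lift w (hlt p hp).2])
    · simp only [commProd]
      exact congrArg List.prod (List.map_congr_left fun p hp => by
        simp [G, p₁, (hlt p hp).1, (hlt p hp).2])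
  have hzp2 : p₂ zp = K.el K.zeta := by
    have hc := allBelow_eq_true.mp hK.chi 0 (by norm_num)
    simp only [chiB, Bool.and_eq_true, Nat.beq_eq] at hc
    rw [commProd_map]
    have e : commProd (fun s => p₂ (G s)) (SLMult.L34.centPairs.getD 1 []) =
        commProd (fun s => evalW (fun x => K.el (K.gs.getD x 0)) (twistW 0 s))
          (SLMult.L34.centPairs.getD 1 []) := by
      simp only [commProd]
      exact congrArg List.prod (List.map_congr_left fun p hp => by
        simp [G, p₂, (hlt p hp).1, (hlt p hp).2, twistW, evalW])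
    rw [e, ← (commC_mem hK hd (by norm_num) _ hlt).2, hc.1, hchi, (hz.pow 1).2, pow_one]
  have hz_ord : orderOf (K.el K.zeta) = 4 :=
    orderOf_eq_prime_pow (p := 2) (n := 1) (by simpa using hz2) (by simpa using hz4)
  have hzp : orderOf zp = 4 := by rw [← orderOf_injective p₂ hinj zp, hzp2, hz_ord]
  have hle : zpowers zp ≤ p₁.ker := zpowers_le.2 hzp1
  have h4 := Subgroup.card_le_of_le hle
  rw [Nat.card_zpowers, hzp] at h4
  have hidx := Subgroup.card_mul_index p₁.ker
  rw [Subgroup.index_ker, MonoidHom.range_eq_top.2 hsur, card_top, SLMult.L34.card_group hF] at hidx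
  have hPle : Nat.card P ≤ 80640 := card_Mg hK ▸ Nat.card_le_card_of_injective p₂ hinj
  have hker4 : Nat.card p₁.ker = 4 := by
    generalize Nat.card p₁.ker = c at hidx h4 ⊢
    omega
  have hbij : Function.Bijective p₂ := (Nat.bijective_iff_injective_and_card _).2
    ⟨hinj, by rw [card_Mg hK, ← hidx, hker4]⟩
  let e := MulEquiv.ofBijective p₂ hbij
  have hke : p₁.ker = zpowers zp :=
    (Subgroup.eq_of_le_of_card_ge hle (by rw [hker4, Nat.card_zpowers, hzp])).symm
  let π := p₁.comp e.symm.toMonoidHom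
  have hker : π.ker = zpowers (K.el K.zeta) := by
    have : π.ker = p₁.ker.map p₂ := by
      ext x
      rw [MonoidHom.mem_ker, Subgroup.mem_map]
      refine ⟨fun h => ⟨e.symm x, h, e.apply_symm_apply x⟩, ?_⟩
      rintro ⟨y, hy, rfl⟩
      show p₁ (e.symm (e y)) = 1
      rw [e.symm_apply_apply]
      exact hy
    rw [this, hke, MonoidHom.map_zpowers, hzp2]
  have hπg : ∀ s, s < 5 → π (K.el (K.gs.getD s 0)) = SLMult.L34.gen w s := fun s hs => by
    have : e ⟨_, hgen s hs⟩ = K.el (K.gs.getD s 0) := rfl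
    show p₁ (e.symm _) = _
    rw [← this, e.symm_apply_apply]
    rfl
  have hcl : (⊤ : Subgroup K.Mg) = Subgroup.closure ((fun s => K.el (K.gs.getD s 0)) '' {s | s < 5}) := by
    rw [← MonoidHom.range_eq_top.2 hbij.2, MonoidHom.range_comp, Subgroup.range_subtype]
    show Subgroup.map _ (K.pairs w) = _
    rw [pairs, MonoidHom.map_closure, Set.image_image]
    rfl
  have hcen : π.ker ≤ center K.Mg := by
    rw [hker, zpowers_le, ← Subgroup.centralizer_univ, ← Subgroup.coe_top, hcl,
      Subgroup.centralizer_closure, Subgroup.mem_centralizer_iff]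
    rintro _ ⟨s, hs, rfl⟩
    exact hzc s hs
  have hπs : Function.Surjective π := hsur.comp e.symm.surjective
  refine ⟨π, hπs, hπg, hker, hcen, eq_top_iff.2 fun x _ => ?_, ?_⟩
  · have hL : commutator (PSL₃(F)) = ⊤ := by
      rw [commutator_def, ← Subgroup.map_top_of_surjective _ (SLMult.L34.proj_surjective w hF hw h2),
        ← Subgroup.map_commutator, ← commutator_def, cover_perfect w hF hw h2]
    obtain ⟨d, hd', hdx⟩ : π x ∈ (commutator K.Mg).map π := by
      rw [commutator_def, Subgroup.map_commutator, Subgroup.map_top_of_surjective _ hπs,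
        ← commutator_def, hL]
      trivial
    have hzmem : K.el K.zeta ∈ commutator K.Mg := by
      rw [← hzp2, commProd_map]
      exact list_prod_mem fun y hy => by
        obtain ⟨p, -, rfl⟩ := List.mem_map.mp hy
        exact Subgroup.commutator_mem_commutator (Subgroup.mem_top _) (Subgroup.mem_top _)
    have : d⁻¹ * x ∈ π.ker := by rw [MonoidHom.mem_ker, map_mul, map_inv, hdx, inv_mul_cancel]
    rw [hker] at this
    rw [show x = d * (d⁻¹ * x) by group]
    exact mul_mem hd' (zpowers_le.2 hzmem this)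
  · rw [hker, Nat.card_zpowers, hz_ord]

end KData

section Diag

variable {F : Type} [Field F] [Fintype F] (w : F)
variable (hF : Fintype.card F = 4) (hw : w * w = w + 1) (h2 : (1 : F) + 1 = 0)

include hF hw h2 in
/-- The diagonal automorphism. -/
theorem exists_diag (hd : dB = true) : ∃ δ : MulAut (PSL₃(F)), δ ^ 3 = 1 ∧
    ∀ i < 3, ∀ s < 5, (δ ^ i) (SLMult.L34.gen w s) = evalW (SLMult.L34.gen w) (twistW i s) := by
  have hd' := hd
  simp only [dB, Bool.and_eq_true, allBelow_eq_true, Nat.beq_eq, List.all_eq_true, Nat.blt_eq] at hd'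
  obtain ⟨⟨ho, h3⟩, hw5⟩ := hd'
  have hdp : rep21.Ok DataL.dperm := rep21.okb_sound _ ho
  have hpow : ∀ n, rep21.Ok (dpow n) ∧ rep21.den (dpow n) = rep21.den DataL.dperm ^ n := by
    intro n
    induction n with
    | zero =>
      rw [show dpow 0 = idCode 5 21 from rfl, ← rep21_one, pow_zero]
      exact ⟨rep21.ok_one, rep21.den_one⟩
    | succ n ih =>
      rw [show dpow (n + 1) = compCode 5 21 DataL.dperm (dpow n) from rfl, ← rep21_mul, pow_succ']
      exact ⟨rep21.ok_mul _ _ hdp ih.1, by rw [rep21.den_mul _ _ hdp ih.1, ih.2]⟩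
  set d := rep21.den DataL.dperm
  have hd3 : d ^ 3 = 1 := by rw [← (hpow 3).2, h3, ← rep21_one, rep21.den_one]
  set ι := SLMult.L34.ι hF w hw h2
  have hcode : ∀ s < 5, rep21.Ok (SLMult.L34.codes.getD s 0) ∧
      rep21.den (SLMult.L34.codes.getD s 0) = ι (SLMult.L34.gen w s) := fun s hs => by
    have hgc := SLMult.L34.gen_coded hF w hw h2 s hs
    have hmap : CodeMap 5 21 (SLMult.L34.codes.getD s 0) := fun i hi => by
      rw [← hgc ⟨i, hi⟩]; exact Fin.is_lt _
    have hok : rep21.Ok (SLMult.L34.codes.getD s 0) := by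
      refine ⟨hmap, ?_⟩
      convert (ι (SLMult.L34.gen w s)).bijective using 1
      exact funext fun i => Fin.ext (hgc i).symm
    exact ⟨hok, Equiv.ext fun x => Fin.ext ((act21 hok x).trans (hgc x).symm)⟩
  have hkey : ∀ i < 2, ∀ s < 5, d ^ (i + 1) * ι (SLMult.L34.gen w s) * (d ^ (i + 1))⁻¹ =
      ι (evalW (SLMult.L34.gen w) (twistW (i + 1) s)) := by
    intro i hi s hs
    obtain ⟨hlt, he⟩ := hw5 i hi s hs
    obtain ⟨hc1, hc2⟩ := hcode s hs
    have hh := congrArg rep21.den he
    rw [← rep21_mul, ← rep21_mul,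
      rep21.den_mul _ _ (hpow _).1 (rep21.ok_mul _ _ hc1 (hpow _).1),
      rep21.den_mul _ _ hc1 (hpow _).1, (hpow _).2, (hpow _).2, hc2,
      (evalC_spec rep21 5 rep21_mul rep21_one SLMult.L34.codes (fun s hs => (hcode s hs).1) _ hlt).2,
      evalW_congr (fun x hx => (hcode x (hlt x hx)).2), ← evalW_map ι (SLMult.L34.gen w)] at hh
    rw [← hh, mul_assoc, inv_eq_of_mul_eq_one_right (b := d ^ (2 - i))]
    rw [← pow_add, show i + 1 + (2 - i) = 3 by omega, hd3]
  have hmem : ∀ x : PSL₃(F), ∃ y, ι y = d * ι x * d⁻¹ := by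
    intro x
    have hx := SLMult.L34.gen_generates hF w hw h2 x
    induction hx using Submonoid.closure_induction with
    | mem t ht =>
      obtain ⟨s, hs, rfl⟩ := ht
      exact ⟨_, by simpa using (hkey 0 (by norm_num) s hs).symm⟩
    | one => exact ⟨1, by simp⟩
    | mul a b _ _ ha hb =>
      obtain ⟨a', ha'⟩ := ha
      obtain ⟨b', hb'⟩ := hb
      exact ⟨a' * b', by rw [map_mul, ha', hb', map_mul]; group⟩
  choose f hf using hmem
  have hι : Function.Injective ι := SLMult.L34.ι_injective hF w hw h2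
  have hfinj : Function.Injective f := fun a b h => hι (by
    have := congrArg ι h
    rw [hf, hf] at this
    simpa using this)
  let δ : MulAut (PSL₃(F)) := MulEquiv.ofBijective
    (MonoidHom.mk' f fun a b => hι (by rw [map_mul, hf, hf, hf, map_mul]; group))
    (Finite.injective_iff_bijective.1 hfinj)
  have hδ : ∀ n x, ι ((δ ^ n) x) = d ^ n * ι x * (d ^ n)⁻¹ := by
    intro n
    induction n with
    | zero => simp
    | succ n ih =>
      intro x
      rw [pow_succ', MulAut.mul_apply, show ι (δ ((δ ^ n) x)) = _ from hf _, ih, pow_succ']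
      group
  refine ⟨δ, MulEquiv.ext fun x => hι (by rw [hδ, hd3]; simp), fun i hi s hs => hι ?_⟩
  rcases i with _ | i
  · simp [twistW, evalW]
  · rw [hδ, hkey i (by omega) s hs]

end Diag

end Cfsg.Agent.ONUniq
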