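import Cfsg.Agent.ONUniq.Fusion
import Cfsg.Agent.ONUniq.Ext
import Cfsg.Agent.ONUniq.Model
import Cfsg.Agent.ONUniq.CertDef

/-!
Soundness of the certificates: they give the fusion data of a candidate centraliser and count the
square roots in the centraliser of its involution.
-/

set_option autoImplicit false
set_option maxHeartbeats 1000000
set_option linter.unusedSectionVars false
set_option linter.style.haveILetI false

namespace Cfsg.Agent.ONUniq

open Cfsg.Agent.Compute Subgroup

attribute [local irreducible] compCode idCode canonC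

theorem fix_bases {G : Type*} [Group G] [Finite G] {Ω : Type*} [MulAction G Ω] (R : Rep G Ω) :
    ∀ (Ls : List Level), R.checkChain Ls = true → ∀ x ∈ R.chainGroup Ls,
      (∀ L ∈ Ls, x • R.pt L.base = R.pt L.base) → x = 1
  | [], _, x, hx, _ => by simpa [Rep.chainGroup, Rep.span, topGens] using hx
  | L :: Ls, hc, x, hx, hfix => by
    refine fix_bases R Ls (by rw [R.checkChain_cons, Bool.and_eq_true] at hc; exact hc.2) x ?_
      fun L' hL' => hfix L' (List.mem_cons_of_mem _ hL')
    rw [← R.stabilizer_base hc]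
    exact ⟨hx, MulAction.mem_stabilizer_iff.2 (hfix L (List.mem_cons_self))⟩

theorem pairwise_of_incrB : ∀ (l : List ℕ), incrB l = true → l.Pairwise (· < ·)
  | [], _ => List.Pairwise.nil
  | [a], _ => List.pairwise_singleton _ a
  | a :: b :: t, h => by
    have h' : (Nat.blt a b && incrB (b :: t)) = true := h
    simp only [Bool.and_eq_true, Nat.blt_eq] at h'
    have ih := pairwise_of_incrB (b :: t) h'.2
    refine List.pairwise_cons.2 ⟨fun c hc => ?_, ih⟩
    rcases List.mem_cons.1 hc with rfl | hc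
    · exact h'.1
    · exact h'.1.trans ((List.pairwise_cons.1 ih).1 c hc)

/-- An indexing by strictly increasing keys proves injectivity. -/
theorem inj_of_idx {α : Type*} {n : ℕ} (idx : List ℕ) (hlen : idx.length = n) (hlt : ∀ j ∈ idx, j < n)
    (key : ℕ → ℕ) (hinc : incrB (idx.map key) = true) (g : ℕ → α)
    (hg : ∀ i < n, ∀ j < n, g i = g j → key i = key j) :
    Function.Injective (fun i : Fin n => g i) := by
  have hp : idx.Pairwise fun a b => key a < key b := List.pairwise_map.1 (pairwise_of_incrB _ hinc)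
  have hnd : idx.Nodup := hp.imp fun h => fun e => by subst e; exact lt_irrefl _ h
  have hall : ∀ i < n, i ∈ idx := by
    intro i hi
    have heq : idx.toFinset = Finset.range n := by
      refine Finset.eq_of_subset_of_card_le (fun j hj => Finset.mem_range.2 (hlt j (List.mem_toFinset.1 hj))) ?_
      rw [Finset.card_range, List.toFinset_card_of_nodup hnd, hlen]
    rw [← List.mem_toFinset, heq]
    exact Finset.mem_range.2 hi
  intro i j h
  have hk := hg i i.2 j j.2 h
  obtain ⟨a, ha, hai⟩ := List.getElem_of_mem (hall i i.2)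
  obtain ⟨c, hc, hcj⟩ := List.getElem_of_mem (hall j j.2)
  rcases lt_trichotomy a c with hac | rfl | hac
  · have := List.pairwise_iff_getElem.1 hp a c ha hc hac
    rw [hai, hcj] at this
    omega
  · exact Fin.ext (hai.symm.trans hcj)
  · have := List.pairwise_iff_getElem.1 hp c a hc ha hac
    rw [hai, hcj] at this
    omega

theorem getD_mem_of_lt {α : Type*} (l : List α) {i : ℕ} (d : α) (h : i < l.length) : l.getD i d ∈ l := by
  rw [List.getD_eq_getElem _ _ h]
  exact List.getElem_mem h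

/-- What a candidate needs to be computed with. -/
structure Good (K : KData) (D : ExtData K.Mg) (C : CtxX) : Prop where
  chk : K.Checked
  bases : K.chain.map Level.base = [0, 4, 8]
  σ : ∀ m : K.Mg, ((D.σ m : K.Mg) : Equiv.Perm (Fin 224)) = rep224.den C.p * m * (rep224.den C.p)⁻¹
  pok : rep224.Ok C.p
  piok : rep224.Ok C.pi
  pinv : rep224.den C.pi = (rep224.den C.p)⁻¹
  zin : K.InM C.z
  zval : K.el C.z = D.z

variable {K : KData} {D : ExtData K.Mg} {C : CtxX}

/-- The element with a given code. -/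
noncomputable def elX (D : ExtData K.Mg) (c : ℕ) (e : Bool) : Ext D := ⟨K.el c, e⟩

/-- The element is described by the map. -/
def Den (x : Ext D) (f : FX) : Prop :=
  x.e = f.e ∧ ∀ i : Fin 224, (((x.a : Equiv.Perm (Fin 224)) i : Fin 224) : ℕ) = f.f i

theorem inM_of_check (hK : K.Checked) {c : ℕ} (h : inMB K c = true) : K.InM c := by
  simp only [inMB, Bool.and_eq_true, Nat.beq_eq] at h
  have ho := rep224.okb_sound _ h.1
  exact ⟨ho, rep224.mem_of_sift _ hK.chain ho (by rw [rep224_one]; exact h.2)⟩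

theorem den_ofC {c : ℕ} (hc : K.InM c) (e : Bool) : Den (elX D c e) (ofC c e) :=
  ⟨rfl, fun i => by show _ = getField 8 c i; rw [elX, KData.el_val hc, act224 hc.1]⟩

theorem den_one : Den (1 : Ext D) oneF :=
  ⟨rfl, fun i => by show _ = (i : ℕ); rw [Ext.one_def, Subgroup.coe_one, Equiv.Perm.one_apply]⟩

theorem den_mul (hG : Good K D C) {x y : Ext D} {f g : FX} (hx : Den x f) (hy : Den y g) :
    Den (x * y) (mulF C f g) := by
  obtain ⟨hxe, hxf⟩ := hx
  obtain ⟨hye, hyf⟩ := hy
  refine ⟨by rw [Ext.mul_def]; simp only [mulF, hxe, hye], fun i => ?_⟩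
  rw [Ext.mul_def]
  simp only [mulF, twF, ← hxe, ← hye, Subgroup.coe_mul, Equiv.Perm.mul_apply]
  have hz : ∀ j : Fin 224, (((D.z : Equiv.Perm (Fin 224)) j : Fin 224) : ℕ) = getField 8 C.z j := fun j => by
    rw [← hG.zval, KData.el_val hG.zin, act224 hG.zin.1]
  have hs : ∀ j : Fin 224, (((D.σ y.a : K.Mg) : Equiv.Perm (Fin 224)) j : ℕ) =
      getField 8 C.p (g.f (getField 8 C.pi j)) := fun j => by
    rw [hG.σ, Equiv.Perm.mul_apply, Equiv.Perm.mul_apply, ← hG.pinv, act224 hG.pok, hyf,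
      act224 hG.piok]
  rcases hxe' : x.e <;> rcases hye' : y.e <;>
    simp only [cond_true, cond_false, Bool.and_self, Bool.and_false, Bool.and_true,
      Subgroup.coe_one, Equiv.Perm.one_apply] <;>
    simp only [hxf, hyf, hz, hs]

theorem den_pow (hG : Good K D C) {x : Ext D} {f : FX} (hx : Den x f) :
    ∀ n : ℕ, Den (x ^ n) (powF C f n)
  | 0 => by rw [pow_zero]; exact den_one
  | n + 1 => by rw [pow_succ']; exact den_mul hG hx (den_pow hG hx n)

theorem key_lt {x : Ext D} {f : FX} (hx : Den x f) {i : ℕ} (hi : i < 224) : f.f i < 224 := by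
  rw [← hx.2 ⟨i, hi⟩]; exact Fin.is_lt _

theorem key_eq {x : Ext D} {f g : FX} (hf : Den x f) (hg : Den x g) : keyF f = keyF g := by
  have h : ∀ i, i < 224 → f.f i = g.f i := fun i hi => (hf.2 ⟨i, hi⟩).symm.trans (hg.2 ⟨i, hi⟩)
  unfold keyF
  rw [h 0 (by norm_num), h 4 (by norm_num), h 8 (by norm_num)]

theorem eq_of_key (hG : Good K D C) {x y : Ext D} {f g : FX} (hx : Den x f) (hy : Den y g)
    (he : x.e = y.e) (hk : keyF f = keyF g) : x = y := by
  refine Ext.ext ?_ he
  rw [← inv_mul_eq_one]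
  refine Subtype.ext ?_
  refine fix_bases rep224 _ hG.chk.chain _ ((x.a⁻¹ * y.a : K.Mg)).2 fun L hL => ?_
  have hb : L.base ∈ K.chain.map Level.base := List.mem_map_of_mem hL
  rw [hG.bases] at hb
  have hk' : f.f 0 = g.f 0 ∧ f.f 4 = g.f 4 ∧ f.f 8 = g.f 8 := by
    have := key_lt hx (i := 0) (by norm_num); have := key_lt hx (i := 4) (by norm_num)
    have := key_lt hy (i := 0) (by norm_num); have := key_lt hy (i := 4) (by norm_num)
    simp only [keyF, Nat.add_eq, Nat.mul_eq] at hk
    omega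
  have key : ∀ i : Fin 224, f.f i = g.f i →
      ((x.a⁻¹ * y.a : K.Mg) : Equiv.Perm (Fin 224)) i = i := fun i hi => by
    rw [Subgroup.coe_mul, Subgroup.coe_inv, Equiv.Perm.mul_apply, Equiv.Perm.inv_eq_iff_eq]
    exact Fin.ext (by rw [hy.2, hx.2, hi])
  simp only [List.mem_cons, List.not_mem_nil, or_false] at hb
  rcases hb with h | h | h <;> rw [Equiv.Perm.smul_def, h] <;> refine key _ ?_ <;>
    first
      | exact hk'.1
      | exact hk'.2.1
      | exact hk'.2.2

theorem eqF_iff (hG : Good K D C) {x y : Ext D} {f g : FX} (hx : Den x f) (hy : Den y g) :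
    eqF f g = true ↔ x = y := by
  have hb : cond f.e g.e (!g.e) = true ↔ f.e = g.e := by cases f.e <;> cases g.e <;> simp
  rw [eqF, Bool.and_eq_true, Nat.beq_eq, hb]
  refine ⟨fun h => eq_of_key hG hx hy (by rw [hx.1, hy.1, h.1]) h.2, fun h => ?_⟩
  subst h
  exact ⟨hx.1.symm.trans hy.1, key_eq hx hy⟩

theorem ne_of_eqF (hG : Good K D C) {x y : Ext D} {f g : FX} (hx : Den x f) (hy : Den y g)
    (h : (!eqF f g) = true) : x ≠ y := fun e => by
  rw [(eqF_iff hG hx hy).2 e] at h
  exact absurd h (by simp)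

theorem mulF_sqfree {C₀ : CtxX} (hp : C₀.p = C.p ∧ C₀.pi = C.pi) {f g : FX}
    (h : (f.e && g.e) = false) : mulF C₀ f g = mulF C f g := by
  unfold mulF
  congr 1
  funext i
  simp only [h, cond_false, twF, hp.1, hp.2]

section Lists

variable (hG : Good K D C) {V : CertV} (hV : vB K V = true)
include hG hV

theorem v_facts : K.InM V.v ∧ 630 * Nat.card (centralizer ({elX D V.v false} : Set (Ext D))) ≤
    Nat.card (Ext D) ∧ (∀ c ∈ V.cmv, K.InM c ∧
      elX D c false * elX D V.v false = elX D V.v false * elX D c false) ∧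
    V.cmv.length = 128 ∧ incrB (V.cmv.map (fun c => keyF (ofC c false))) = true := by
  simp only [vB, Bool.and_eq_true, Nat.beq_eq, allBelow_eq_true, List.all_eq_true, Nat.blt_eq] at hV
  obtain ⟨⟨⟨⟨⟨⟨⟨⟨⟨hv, hlc⟩, hli⟩, hlm⟩, hroot⟩, htree⟩, hidx⟩, hinc⟩, hincm⟩, hcm⟩ := hV
  have hvm := inM_of_check hG.chk hv
  let g : ℕ → Ext D := fun j => elX D (V.cls.getD j ⟨0, 0, 0⟩).c false
  have hin : ∀ j < 630, K.InM (V.cls.getD j ⟨0, 0, 0⟩).c := fun j hj => inM_of_check hG.chk (htree j hj).1
  have hconj : ∀ j < 630, ∃ h : Ext D, h * elX D V.v false * h⁻¹ = g j := by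
    intro j
    induction j using Nat.strong_induction_on with
    | _ j ih =>
      intro hj
      by_cases hj0 : j = 0
      · refine ⟨1, ?_⟩
        simp only [g, hj0, hroot, one_mul, inv_one, mul_one]
      obtain ⟨-, hh⟩ := htree j hj
      rw [show Nat.beq j 0 = false by simpa [← Bool.not_eq_true] using hj0, cond_false,
        Bool.and_eq_true, Bool.and_eq_true, Nat.blt_eq, Nat.blt_eq, Nat.beq_eq] at hh
      obtain ⟨⟨hp, hg5⟩, hk⟩ := hh
      obtain ⟨h, hh'⟩ := ih _ hp (hp.trans hj)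
      have hgen := (KData.gen_spec hG.chk hg5).1
      set q := elX D (K.gs.getD (V.cls.getD j ⟨0, 0, 0⟩).g 0) false
      have hd1 := den_mul hG (den_ofC (D := D) hgen false) (den_ofC (D := D) (hin _ (hp.trans hj)) false)
      have hd2 := den_mul hG (den_ofC (D := D) (hin _ hj) false) (den_ofC (D := D) hgen false)
      have he := eq_of_key hG hd1 hd2 rfl hk
      refine ⟨q * h, ?_⟩
      rw [show q * h * elX D V.v false * (q * h)⁻¹ = q * (h * elX D V.v false * h⁻¹) * q⁻¹ by group, hh']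
      exact mul_inv_eq_iff_eq_mul.2 he
  have hinj := inj_of_idx V.idx hli hidx _ hinc g fun i hi j hj h => by
    refine key_eq (D := D) (x := g i) (den_ofC (hin i hi) false) ?_
    rw [h]
    exact den_ofC (hin j hj) false
  choose h hh using fun j : Fin 630 => hconj j j.2
  refine ⟨hvm, ?_, fun c hc => ?_, hlm, hincm⟩
  · have hf : Function.Injective (fun p : Fin 630 × centralizer ({elX D V.v false} : Set (Ext D)) =>
        h p.1 * (p.2 : Ext D)) := by
      rintro ⟨i, x⟩ ⟨j, y⟩ hxy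
      have hx := mem_centralizer_singleton_iff.1 x.2
      have hy := mem_centralizer_singleton_iff.1 y.2
      have hij : i = j := hinj (show g i = g j by
        have hxy' : h i * (x : Ext D) = h j * y := hxy
        rw [← hh i, ← hh j]
        calc h i * elX D V.v false * (h i)⁻¹
            = h i * ((x : Ext D) * elX D V.v false * (x : Ext D)⁻¹) * (h i)⁻¹ := by
              rw [hx, mul_inv_cancel_right]
          _ = (h i * x) * elX D V.v false * (h i * x)⁻¹ := by group
          _ = (h j * y) * elX D V.v false * (h j * y)⁻¹ := by rw [hxy']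
          _ = h j * ((y : Ext D) * elX D V.v false * (y : Ext D)⁻¹) * (h j)⁻¹ := by group
          _ = h j * elX D V.v false * (h j)⁻¹ := by rw [hy, mul_inv_cancel_right])
      subst hij
      exact Prod.ext rfl (Subtype.ext (mul_left_cancel hxy))
    have := Nat.card_le_card_of_injective _ hf
    rwa [Nat.card_prod, Nat.card_fin] at this
  · obtain ⟨h1, h2⟩ := hcm c hc
    have hcin := inM_of_check hG.chk h1
    exact ⟨hcin, eq_of_key hG (den_mul hG (den_ofC hcin false) (den_ofC hvm false))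
      (den_mul hG (den_ofC hvm false) (den_ofC hcin false)) rfl h2⟩

variable {S : CertS} {C₀ : CtxX}
variable (hS : sB K V C₀ S = true) (hp : C₀.p = C.p ∧ C₀.pi = C.pi)
include hS hp

theorem s_facts : (S.wl.length = 128 ∧ incrB (S.wl.map (fun c => keyF (ofC c false))) = true ∧
      ∀ c ∈ S.wl, K.InM c ∧ elX D c true * elX D V.v false = elX D V.v false * elX D c true) ∧
    S.sm.length = 256 ∧ (∀ j < 256, K.InM (S.sm.getD j ⟨0, 0, 0⟩).c) ∧ K.InM S.m0 ∧
    ∃ SM : Subgroup K.Mg, Nat.card SM = 256 ∧ (∀ j < 256, K.el (S.sm.getD j ⟨0, 0, 0⟩).c ∈ SM) ∧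
      (∀ x ∈ SM, ∃ j < 256, x = K.el (S.sm.getD j ⟨0, 0, 0⟩).c) ∧
      ∀ x ∈ SM, K.el S.m0 * D.σ x * (K.el S.m0)⁻¹ ∈ SM := by
  simp only [sB, Bool.and_eq_true, Nat.beq_eq, allBelow_eq_true, List.all_eq_true, Nat.blt_eq,
    List.any_eq_true] at hS
  obtain ⟨⟨⟨⟨⟨⟨⟨⟨⟨⟨⟨hlw, hincw⟩, hwl⟩, hls⟩, hlsi⟩, hsidx⟩, hincs⟩, hroot⟩, hsg⟩, hm0⟩, htree⟩, hclosed⟩ := hS
  have hm0' := inM_of_check hG.chk hm0
  have hin : ∀ j < 256, K.InM (S.sm.getD j ⟨0, 0, 0⟩).c := fun j hj => inM_of_check hG.chk (htree j hj).1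
  have hsg' : ∀ g ∈ S.sgens, K.InM g := fun g hg => inM_of_check hG.chk (hsg g hg)
  refine ⟨⟨hlw, hincw, fun c hc => ?_⟩, hls, hin, hm0', ?_⟩
  · obtain ⟨h1, h2⟩ := hwl c hc
    have hcin := inM_of_check hG.chk h1
    obtain ⟨hvin, -, -, -, -⟩ := v_facts hG hV
    simp only [commF] at h2
    rw [mulF_sqfree hp (by rfl), mulF_sqfree hp (by rfl)] at h2
    exact ⟨hcin, (eqF_iff hG (den_mul hG (den_ofC hcin true) (den_ofC hvin false))
      (den_mul hG (den_ofC hvin false) (den_ofC hcin true))).1 h2⟩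
  set SM : Subgroup K.Mg := Subgroup.closure (K.el '' {g | g ∈ S.sgens})
  have hinlX : ∀ {a : ℕ}, Ext.inl (K.el a) = elX D a false := fun {a} => rfl
  have hmem : ∀ j < 256, K.el (S.sm.getD j ⟨0, 0, 0⟩).c ∈ SM := by
    intro j
    induction j using Nat.strong_induction_on with
    | _ j ih =>
      intro hj
      by_cases hj0 : j = 0
      · subst hj0
        rw [show K.el (S.sm.getD 0 ⟨0, 0, 0⟩).c = 1 from congrArg Ext.a
          (eq_of_key hG (den_ofC (D := D) (hin 0 (by norm_num)) false) den_one rfl hroot)]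
        exact one_mem _
      obtain ⟨-, hh⟩ := htree j hj
      rw [show Nat.beq j 0 = false by simpa [← Bool.not_eq_true] using hj0, cond_false,
        Bool.and_eq_true, Bool.and_eq_true, Nat.blt_eq, Nat.blt_eq] at hh
      obtain ⟨⟨hpp, hgl⟩, hk⟩ := hh
      have hgm : S.sgens.getD (S.sm.getD j ⟨0, 0, 0⟩).g 0 ∈ S.sgens := getD_mem_of_lt _ _ hgl
      rw [mulF_sqfree hp (by rfl)] at hk
      have he := (eqF_iff hG (den_mul hG (den_ofC (D := D) (hsg' _ hgm) false)
        (den_ofC (D := D) (hin _ (hpp.trans hj)) false)) (den_ofC (D := D) (hin j hj) false)).1 hk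
      rw [← hinlX, ← hinlX, ← hinlX, ← map_mul] at he
      rw [← Ext.inl_injective he]
      exact mul_mem (Subgroup.subset_closure ⟨_, hgm, rfl⟩) (ih _ hpp (hpp.trans hj))
  have hall : ∀ x ∈ SM, ∃ j < 256, x = K.el (S.sm.getD j ⟨0, 0, 0⟩).c := by
    intro x hx
    rw [← Subgroup.mem_toSubmonoid, Subgroup.closure_toSubmonoid_of_finite] at hx
    induction hx using Submonoid.closure_induction_left with
    | one =>
      exact ⟨0, by norm_num, (congrArg Ext.a
        (eq_of_key hG (den_ofC (D := D) (hin 0 (by norm_num)) false) den_one rfl hroot)).symm⟩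
    | mul_left z hz y _ ih =>
      obtain ⟨g, hg, rfl⟩ := hz
      obtain ⟨j, hj, rfl⟩ := ih
      obtain ⟨y, hy, hk⟩ := (hclosed g hg).1 j hj
      obtain ⟨i, hi, rfl⟩ := List.getElem_of_mem hy
      rw [mulF_sqfree hp (by rfl), ← List.getD_eq_getElem _ (⟨0, 0, 0⟩ : TE) hi] at hk
      rw [hls] at hi
      refine ⟨i, hi, ?_⟩
      have he := (eqF_iff hG (den_mul hG (den_ofC (D := D) (hsg' g hg) false)
        (den_ofC (D := D) (hin j hj) false)) (den_ofC (D := D) (hin i hi) false)).1 hk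
      rw [← hinlX, ← hinlX, ← hinlX, ← map_mul] at he
      exact Ext.inl_injective he
  refine ⟨SM, ?_, hmem, hall, ?_⟩
  · have hinj := inj_of_idx S.sidx hlsi hsidx _ hincs (fun j => K.el (S.sm.getD j ⟨0, 0, 0⟩).c)
      fun i hi j hj h => key_eq (D := D) (x := elX D (S.sm.getD i ⟨0, 0, 0⟩).c false)
        (den_ofC (hin i hi) false) (by
          rw [show elX D (S.sm.getD i ⟨0, 0, 0⟩).c false = elX D (S.sm.getD j ⟨0, 0, 0⟩).c false from
            Ext.ext h rfl]
          exact den_ofC (hin j hj) false)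
    have hbij : Function.Bijective (fun j : Fin 256 =>
        (⟨K.el (S.sm.getD j ⟨0, 0, 0⟩).c, hmem j j.2⟩ : SM)) := by
      refine ⟨fun i j h => hinj (congrArg Subtype.val h), fun x => ?_⟩
      obtain ⟨j, hj, hxj⟩ := hall x x.2
      exact ⟨⟨j, hj⟩, Subtype.ext hxj.symm⟩
    rw [← Nat.card_eq_of_bijective _ hbij, Nat.card_fin]
  · intro x hx
    let φ : K.Mg →* K.Mg := (MulAut.conj (K.el S.m0)).toMonoidHom.comp D.σ.toMonoidHom
    suffices hle : SM ≤ SM.comap φ from hle hx
    refine (Subgroup.closure_le _).2 ?_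
    rintro _ ⟨g, hg, rfl⟩
    obtain ⟨y, hy, hk⟩ := (hclosed g hg).2
    obtain ⟨i, hi, rfl⟩ := List.getElem_of_mem hy
    rw [mulF_sqfree hp (by rfl), mulF_sqfree hp (by rfl), ← List.getD_eq_getElem _ (⟨0, 0, 0⟩ : TE) hi] at hk
    rw [hls] at hi
    have he := congrArg Ext.a ((eqF_iff hG (den_mul hG (den_ofC (D := D) hm0' true)
      (den_ofC (D := D) (hsg' g hg) false)) (den_mul hG (den_ofC (D := D) (hin i hi) false)
      (den_ofC (D := D) hm0' true))).1 hk)
    simp only [Ext.mul_def, elX, cond_true, cond_false, Bool.and_false, Bool.false_and, mul_one] at he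
    show K.el S.m0 * D.σ (K.el g) * (K.el S.m0)⁻¹ ∈ SM
    rw [he, mul_inv_cancel_right]
    exact hmem i hi

end Lists

/-- The centraliser of `v`, listed. -/
noncomputable def kElt (D : ExtData K.Mg) (p : ℕ × Bool) : Ext D := elX D p.1 p.2

theorem k_facts (hG : Good K D C) {V : CertV} (hV : vB K V = true) {S : CertS} {C₀ : CtxX}
    (hS : sB K V C₀ S = true) (hp : C₀.p = C.p ∧ C₀.pi = C.pi) :
    Nat.card (centralizer ({elX D V.v false} : Set (Ext D))) = 256 ∧ (kList V S).Nodup ∧
      (∀ p ∈ kList V S, K.InM p.1) ∧ Set.InjOn (kElt D) {p | p ∈ kList V S} ∧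
      ∀ x : Ext D, x * elX D V.v false = elX D V.v false * x ↔ ∃ p ∈ kList V S, kElt D p = x := by
  obtain ⟨hv, hle, hcm, hlm, hincm⟩ := v_facts hG hV
  obtain ⟨⟨hlw, hincw, hwl⟩, -⟩ := s_facts hG hV hS hp
  have hcard : Nat.card (Ext D) = 161280 := by rw [Ext.card_ext, KData.card_Mg hG.chk]
  set Z := centralizer ({elX D V.v false} : Set (Ext D)) with hZ
  have hmemL : ∀ p ∈ kList V S, K.InM p.1 ∧ kElt D p ∈ Z := by
    intro p hp'
    rw [kList, List.mem_append, List.mem_map, List.mem_map] at hp'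
    rcases hp' with ⟨c, hc, rfl⟩ | ⟨c, hc, rfl⟩
    · exact ⟨(hcm c hc).1, mem_centralizer_singleton_iff.2 (hcm c hc).2⟩
    · exact ⟨(hwl c hc).1, mem_centralizer_singleton_iff.2 (hwl c hc).2⟩
  have hinj : Set.InjOn (kElt D) {p | p ∈ kList V S} := by
    rintro ⟨c, e⟩ hc ⟨c', e'⟩ hc' h
    obtain rfl : e = e' := congrArg Ext.e h
    have hk : keyF (ofC c e) = keyF (ofC c' e) :=
      key_eq (D := D) (x := kElt D (c, e)) (den_ofC (hmemL _ hc).1 e)
        (h ▸ den_ofC (hmemL _ hc').1 e)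
    have hkey : ∀ l : List ℕ, incrB (l.map fun c => keyF (ofC c false)) = true →
        c ∈ l → c' ∈ l → c = c' := fun l hl h1 h2 => by
      refine List.inj_on_of_nodup_map ((pairwise_of_incrB _ hl).imp fun h => Nat.ne_of_lt h) h1 h2 ?_
      exact hk
    have h1 : ∀ {c}, (c, false) ∈ kList V S → c ∈ V.cmv := fun {c} h => by simpa [kList] using h
    have h2 : ∀ {c}, (c, true) ∈ kList V S → c ∈ S.wl := fun {c} h => by simpa [kList] using h
    cases e
    · rw [hkey _ hincm (h1 hc) (h1 hc')]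
    · rw [hkey _ hincw (h2 hc) (h2 hc')]
  have hnd : (kList V S).Nodup := by
    refine List.nodup_append.2 ⟨?_, ?_, ?_⟩
    · exact List.Nodup.map (fun a b h => congrArg Prod.fst h)
        (List.Nodup.of_map _ ((pairwise_of_incrB _ hincm).imp fun h => Nat.ne_of_lt h))
    · exact List.Nodup.map (fun a b h => congrArg Prod.fst h)
        (List.Nodup.of_map _ ((pairwise_of_incrB _ hincw).imp fun h => Nat.ne_of_lt h))
    · intro a ha b hb hab
      obtain ⟨_, -, rfl⟩ := List.mem_map.1 ha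
      obtain ⟨_, -, rfl⟩ := List.mem_map.1 hb
      simp at hab
  have hlen : (kList V S).length = 256 := by simp [kList, hlm, hlw]
  have hf : Function.Injective (fun i : Fin (kList V S).length =>
      (⟨kElt D (kList V S)[i], (hmemL _ (List.getElem_mem i.2)).2⟩ : Z)) := fun i j h =>
    Fin.ext (hnd.getElem_inj_iff.1
      (hinj (List.getElem_mem i.2) (List.getElem_mem j.2) (congrArg Subtype.val h)))
  have h256 : Nat.card Z = 256 := by
    have h1 := Nat.card_le_card_of_injective _ hf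
    rw [Nat.card_fin, hlen] at h1
    rw [hcard] at hle
    omega
  have hbij := (Nat.bijective_iff_injective_and_card _).2 ⟨hf, by rw [Nat.card_fin, hlen, h256]⟩
  refine ⟨h256, hnd, fun p hp' => (hmemL p hp').1, hinj, fun x => ⟨fun hx => ?_, ?_⟩⟩
  · obtain ⟨i, hi⟩ := hbij.2 ⟨x, mem_centralizer_singleton_iff.2 hx⟩
    exact ⟨_, List.getElem_mem i.2, congrArg Subtype.val hi⟩
  · rintro ⟨p, hp', rfl⟩
    exact mem_centralizer_singleton_iff.1 (hmemL p hp').2

end Cfsg.Agent.ONUniq
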