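import Cfsg.Agent.ONUniq.Cert

/-!
The fusion data of a certified candidate, and its exclusion by counting square roots.
-/

set_option autoImplicit false
set_option maxHeartbeats 1000000
set_option maxRecDepth 10000
set_option linter.unusedSectionVars false
set_option linter.style.haveILetI false

namespace Cfsg.Agent.ONUniq

open Cfsg.Agent.Compute Subgroup

attribute [local irreducible] compCode idCode canonC powC powF

variable {K : KData} {D : ExtData K.Mg} {C : CtxX}

/-- The central involution. -/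
noncomputable def tX (D : ExtData K.Mg) : Ext D := Ext.inl (K.el K.zeta ^ 2)

theorem den_t (hG : Good K D C) : Den (tX D) (ofC (powC K.zeta 2) false) := by
  obtain ⟨hz, -, -, -⟩ := KData.zeta_spec hG.chk
  obtain ⟨h1, h2⟩ := hz.pow 2
  rw [show tX D = elX D (powC K.zeta 2) false by rw [tX, ← h2]; rfl]
  exact den_ofC h1 false

/-- An outer witness survives conjugation. -/
theorem outer_conj {E : Type*} [Group E] (M : Subgroup E) (hM : ∀ c u : E, c * u * c⁻¹ ∈ M ↔ u ∈ M)
    {s r c : E} (hcs : c * s = r * c)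
    (h : r ∉ M ∧ (∃ a a₂ c' : E, a * r = r * a ∧ a₂ * r = r * a₂ ∧ a * a * (a₂ * a₂) ≠ 1 ∧
      a * a * (a₂ * a₂) * (a * a * (a₂ * a₂)) = 1 ∧ c' * r * c'⁻¹ = a * a * (a₂ * a₂) * r) ∧
      ∃ b : E, b * r = r * b ∧ b ^ 256 ≠ 1) :
    s ∉ M ∧ (∃ a a₂ c' : E, a * s = s * a ∧ a₂ * s = s * a₂ ∧ a * a * (a₂ * a₂) ≠ 1 ∧
      a * a * (a₂ * a₂) * (a * a * (a₂ * a₂)) = 1 ∧ c' * s * c'⁻¹ = a * a * (a₂ * a₂) * s) ∧
      ∃ b : E, b * s = s * b ∧ b ^ 256 ≠ 1 := by
  obtain ⟨hr, ⟨a, a₂, c', h1, h2, h3, h4, h5⟩, b, h6, h7⟩ := h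
  let φ := (MulAut.conj c⁻¹).toMonoidHom
  have hφ : ∀ x, φ x = c⁻¹ * x * c := fun x => by simp [φ]
  have hs : φ r = s := by rw [hφ, mul_assoc, ← hcs, inv_mul_cancel_left]
  have hinj : Function.Injective φ := (MulAut.conj c⁻¹).injective
  refine ⟨fun hm => hr ?_, ⟨φ a, φ a₂, φ c', ?_, ?_, ?_, ?_, ?_⟩, φ b, ?_, ?_⟩
  · rw [← hs, hφ] at hm
    rwa [← hM c⁻¹ r, inv_inv]
  · rw [← hs, ← map_mul, h1, map_mul]
  · rw [← hs, ← map_mul, h2, map_mul]
  · rw [← map_mul, ← map_mul, ← map_mul, map_ne_one_iff φ hinj]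
    exact h3
  · rw [← map_mul, ← map_mul, ← map_mul, ← map_mul, h4, map_one]
  · rw [← hs, ← map_inv, ← map_mul, ← map_mul, h5, map_mul, map_mul, map_mul, map_mul]
  · rw [← hs, ← map_mul, h6, map_mul]
  · rw [← map_pow, map_ne_one_iff φ hinj]
    exact h7

/-- The inner part. -/
def evenSub (D : ExtData K.Mg) : Subgroup (Ext D) where
  carrier := {x | x.e = false}
  one_mem' := rfl
  mul_mem' := fun {x y} (hx : x.e = false) (hy : y.e = false) => by
    show (x * y).e = false
    rw [Ext.mul_def]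
    simp [hx, hy]
  inv_mem' := fun {x} (hx : x.e = false) => by
    show (x⁻¹).e = false
    rw [Ext.inv_def]
    exact hx

theorem mem_evenSub {x : Ext D} : x ∈ evenSub D ↔ x.e = false := Iff.rfl

theorem exists_data (hG : Good K D C) {V : CertV} (hV : vB K V = true) {S : CertS} {C₀ : CtxX}
    (hS : sB K V C₀ S = true) (hp : C₀.p = C.p ∧ C₀.pi = C.pi) {W : CertW}
    (hW : candB K C V S W = true) :
    ∃ d : FusData (Ext D), d.t = tX D ∧ d.v = elX D V.v false := by
  obtain ⟨hv, -, -, -, -⟩ := v_facts hG hV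
  obtain ⟨-, hsl, hsin, hm0, SM, hSMc, hSMmem, hSMall, hSMσ⟩ := s_facts hG hV hS hp
  obtain ⟨hk256, -⟩ := k_facts hG hV hS hp
  simp only [candB, Bool.and_eq_true, List.any_eq_true, allBelow_eq_true, List.all_eq_true,
    beq_iff_eq] at hW
  obtain ⟨⟨⟨⟨y, hy, hsq⟩, hwit⟩, hreps⟩, hnc⟩ := hW
  obtain ⟨i₀, hi₀, rfl⟩ := List.getElem_of_mem hy
  rw [← List.getD_eq_getElem _ (⟨0, 0, 0⟩ : TE) hi₀] at hsq
  rw [hsl] at hi₀
  set m := K.el S.m0
  have hq : m * D.σ m * D.z ∈ SM := by
    have he := congrArg Ext.a ((eqF_iff hG (den_mul hG (den_ofC (D := D) hm0 true)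
      (den_ofC (D := D) hm0 true)) (den_ofC (D := D) (hsin i₀ hi₀) false)).1 hsq)
    simp only [Ext.mul_def, elX, cond_true, Bool.and_self] at he
    rw [he]
    exact hSMmem i₀ hi₀
  -- the Sylow subgroup
  let T : Submonoid (Ext D) :=
    { carrier := {x | x.a * cond x.e m⁻¹ 1 ∈ SM}
      one_mem' := by
        show (1 : Ext D).a * cond (1 : Ext D).e m⁻¹ 1 ∈ SM
        rw [Ext.one_def]
        simp
      mul_mem' := fun {x y} hx hy => by
        obtain ⟨a, e⟩ := x
        obtain ⟨c, f⟩ := y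
        cases e <;> cases f <;>
          simp only [Set.mem_ofPred_eq, Ext.mul_def, cond_true, cond_false, Bool.xor_false,
            Bool.xor_true, Bool.not_true, Bool.not_false, Bool.and_self,
            Bool.and_false, Bool.false_and, mul_one] at hx hy ⊢
        · exact mul_mem hx hy
        · rw [mul_assoc]
          exact mul_mem hx hy
        · rw [show a * D.σ c * m⁻¹ = a * m⁻¹ * (m * D.σ c * m⁻¹) by group]
          exact mul_mem hx (hSMσ _ hy)
        · rw [show a * D.σ c * D.z = a * m⁻¹ * (m * D.σ (c * m⁻¹) * m⁻¹) * (m * D.σ m * D.z) by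
            rw [map_mul, map_inv]; group]
          exact mul_mem (mul_mem hx (hSMσ _ hy)) hq }
  let Sy : Subgroup (Ext D) :=
    { T with
      inv_mem' := fun {x} hx => by
        show x⁻¹ ∈ T
        rw [inv_eq_of_mul_eq_one_right (b := x ^ (orderOf x - 1))]
        · exact pow_mem hx _
        · rw [← pow_succ', Nat.sub_add_cancel (orderOf_pos x), pow_orderOf_eq_one] }
  have hSy : ∀ x : Ext D, x ∈ Sy ↔ x.a * cond x.e m⁻¹ 1 ∈ SM := fun _ => Iff.rfl
  have hcardS : Nat.card Sy = 512 := by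
    have e : Sy ≃ SM × Bool :=
      { toFun := fun x => (⟨x.1.a * cond x.1.e m⁻¹ 1, (hSy _).1 x.2⟩, x.1.e)
        invFun := fun p => ⟨⟨(p.1 : K.Mg) * cond p.2 m 1, p.2⟩, (hSy _).2 (by
          obtain ⟨p, e⟩ := p
          cases e <;> simp [p.2])⟩
        left_inv := fun x => by
          obtain ⟨⟨a, e⟩, hx⟩ := x
          apply Subtype.ext
          cases e <;> simp
        right_inv := fun p => by
          obtain ⟨p, e⟩ := p
          cases e <;> simp }
    rw [Nat.card_congr e, Nat.card_prod, hSMc, Nat.card_eq_fintype_card, Fintype.card_bool]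
  have hcard : Nat.card (Ext D) = 161280 := by rw [Ext.card_ext, KData.card_Mg hG.chk]
  haveI : Fact (Nat.Prime 2) := ⟨Nat.prime_two⟩
  have hSp : IsPGroup 2 Sy := IsPGroup.of_card (n := 9) (by rw [hcardS]; norm_num)
  have hidx : ¬ 2 ∣ Sy.index := by
    have h := Sy.card_mul_index
    rw [hcardS, hcard] at h
    omega
  let P : Sylow 2 (Ext D) := hSp.toSylow hidx
  have hinto : ∀ u : Ext D, u * u = 1 → ∃ c : Ext D, c * u * c⁻¹ ∈ Sy := by
    intro u hu
    have hup : IsPGroup 2 (zpowers u) := by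
      intro g
      refine ⟨1, ?_⟩
      obtain ⟨n, hn⟩ := g.2
      apply Subtype.ext
      rw [pow_one, Subgroup.coe_pow, Subgroup.coe_one, ← hn]
      show (u ^ n) ^ 2 = 1
      rw [← zpow_natCast, zpow_comm, zpow_natCast, pow_two, hu, one_zpow]
    obtain ⟨Q, hQ⟩ := hup.exists_le_sylow
    obtain ⟨c, hc⟩ := MulAction.exists_smul_eq (Ext D) Q P
    refine ⟨c, ?_⟩
    have h : c * u * c⁻¹ ∈ (P : Subgroup (Ext D)) := by
      rw [← hc, Sylow.coe_subgroup_smul]
      exact smul_mem_pointwise_smul _ (MulAut.conj c) _ (hQ (mem_zpowers u))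
    exact h
  have hsqe : ∀ x : Ext D, x * x ∈ evenSub D := fun x => by
    rw [mem_evenSub, Ext.mul_def]
    simp
  have hMconj : ∀ c u : Ext D, c * u * c⁻¹ ∈ evenSub D ↔ u ∈ evenSub D := fun c u => by
    simp only [mem_evenSub, Ext.mul_def, Ext.inv_def]
    cases c.e <;> cases u.e <;> simp
  refine ⟨{ t := tX D
            v := elX D V.v false
            M := evenSub D
            S := Sy
            sq_mem := hsqe
            t_mem := rfl
            v_nc := ?_
            into := hinto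
            sort := fun s hs hs2 => ?_
            two := fun x hx => ?_ }, rfl, rfl⟩
  · by_contra hcon
    push Not at hcon
    refine absurd hnc (Bool.eq_false_iff.not_left.2 (allBelow_eq_true.2 fun s hs => ?_))
    have hgs := (KData.gen_spec hG.chk hs).1
    exact (eqF_iff hG (den_mul hG (den_ofC hgs false) (den_ofC hv false))
      (den_mul hG (den_ofC hv false) (den_ofC hgs false))).2 (hcon _)
  · -- the witnesses
    obtain ⟨i, hi, hden⟩ : ∃ i < 512, Den s (sylElt C S i) := by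
      obtain ⟨j, hj, hsj⟩ := hSMall _ ((hSy s).1 hs)
      obtain ⟨a, e⟩ := s
      cases e
      · refine ⟨j, by omega, ?_⟩
        simp only [cond_false, mul_one] at hsj
        rw [sylElt, show Nat.blt j 256 = true by simpa [Nat.blt_eq] using hj, cond_true, hsj]
        exact den_ofC (hsin j hj) false
      · refine ⟨j + 256, by omega, ?_⟩
        simp only [cond_true] at hsj
        rw [sylElt, show Nat.blt (j + 256) 256 = false by
          simp [← Bool.not_eq_true, Nat.blt_eq], cond_false, show Nat.sub (j + 256) 256 = j by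
          simp]
        have : (⟨a, true⟩ : Ext D) = elX D (S.sm.getD j ⟨0, 0, 0⟩).c false * elX D S.m0 true := by
          rw [Ext.mul_def]
          simp only [elX, cond_false, Bool.false_and, mul_one, Bool.false_xor, ← hsj]
          simp [m]
        rw [this]
        exact den_mul hG (den_ofC (hsin j hj) false) (den_ofC hm0 true)
    have hw := hwit i hi
    simp only [witB] at hw
    set w := W.wit.getD i ⟨0, 0, false⟩
    rcases hk : Nat.beq w.kind 0 with - | -
    swap
    · rw [hk, cond_true] at hw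
      exact absurd hs2 (ne_of_eqF hG (den_mul hG hden hden) den_one hw)
    rw [hk, cond_false] at hw
    rcases hk1 : Nat.beq w.kind 1 with - | -
    swap
    · rw [hk1, cond_true] at hw
      exact .inl ((eqF_iff hG hden den_one).1 hw)
    rw [hk1, cond_false] at hw
    rcases hk2 : Nat.beq w.kind 2 with - | -
    swap
    · rw [hk2, cond_true] at hw
      exact .inr (.inl ((eqF_iff hG hden (den_t hG)).1 hw))
    rw [hk2, cond_false, Bool.and_eq_true] at hw
    have hwc := inM_of_check hG.chk hw.1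
    set c := elX D w.c w.e
    have hdc : Den c (ofC w.c w.e) := den_ofC hwc w.e
    rcases hk3 : Nat.beq w.kind 3 with - | -
    swap
    · rw [hk3, cond_true] at hw
      have he := (eqF_iff hG (den_mul hG hdc hden) (den_mul hG (den_ofC hv false) hdc)).1 hw.2
      exact .inr (.inr (.inl ⟨c, mul_inv_eq_iff_eq_mul.2 he⟩))
    rw [hk3, cond_false, Bool.and_eq_true, Nat.blt_eq] at hw
    set R := W.reps.getD (Nat.sub w.kind 4) ⟨0, (0, false), (0, false), (0, false), (0, false)⟩
    have hR := hreps R (getD_mem_of_lt _ _ hw.2.1)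
    simp only [repB, Bool.and_eq_true] at hR
    obtain ⟨⟨⟨⟨⟨⟨⟨⟨⟨⟨⟨hs', ha'⟩, ha2'⟩, hc'⟩, hb'⟩, e1⟩, e2⟩, e3⟩, e4⟩, e5⟩, e6⟩, e7⟩ := hR
    have hsR := inM_of_check hG.chk hs'
    have haR := inM_of_check hG.chk ha'
    have ha2R := inM_of_check hG.chk ha2'
    have hcR := inM_of_check hG.chk hc'
    have hbR := inM_of_check hG.chk hb'
    have ds : Den (elX D R.s true) (ofC R.s true) := den_ofC hsR true
    have da : Den (elX D R.a.1 R.a.2) (ofC R.a.1 R.a.2) := den_ofC haR _
    have da2 : Den (elX D R.a2.1 R.a2.2) (ofC R.a2.1 R.a2.2) := den_ofC ha2R _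
    have dc : Den (elX D R.c.1 R.c.2) (ofC R.c.1 R.c.2) := den_ofC hcR _
    have db : Den (elX D R.b.1 R.b.2) (ofC R.b.1 R.b.2) := den_ofC hbR _
    have dx := den_mul hG (den_mul hG da da) (den_mul hG da2 da2)
    refine .inr (.inr (.inr (outer_conj (evenSub D) hMconj (s := s) (r := elX D R.s true) (c := c)
      ((eqF_iff hG (den_mul hG hdc hden) (den_mul hG ds hdc)).1 hw.2.2)
      ⟨fun h => Bool.noConfusion (mem_evenSub.1 h : true = false),
        ⟨elX D R.a.1 R.a.2, elX D R.a2.1 R.a2.2, elX D R.c.1 R.c.2, ?_, ?_, ?_, ?_, ?_⟩,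
        elX D R.b.1 R.b.2, ?_, ?_⟩)))
    · exact (eqF_iff hG (den_mul hG da ds) (den_mul hG ds da)).1 e1
    · exact (eqF_iff hG (den_mul hG da2 ds) (den_mul hG ds da2)).1 e2
    · exact ne_of_eqF hG dx den_one e3
    · exact (eqF_iff hG (den_mul hG dx dx) den_one).1 e4
    · exact mul_inv_eq_iff_eq_mul.2 ((eqF_iff hG (den_mul hG dc ds) (den_mul hG (den_mul hG dx ds) dc)).1 e5)
    · exact (eqF_iff hG (den_mul hG db ds) (den_mul hG ds db)).1 e6
    · exact ne_of_eqF hG (den_pow hG db 256) den_one e7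
  · have hmem : x ∈ centralizer ({elX D V.v false} : Set (Ext D)) := mem_centralizer_singleton_iff.2 hx
    have h := pow_card_eq_one' (x := (⟨x, hmem⟩ : centralizer ({elX D V.v false} : Set (Ext D))))
    rw [hk256] at h
    exact congrArg Subtype.val h

theorem card_subtype_list {α β : Type*} (l : List α) (hnd : l.Nodup) (f : α → β)
    (hf : Set.InjOn f {a | a ∈ l}) (P : β → Prop) (hP : ∀ b, P b → ∃ a ∈ l, f a = b) (q : α → Bool)
    (hq : ∀ a ∈ l, q a = true ↔ P (f a)) : (l.filter q).length = Nat.card {b // P b} := by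
  classical
  have hmem : ∀ i : Fin (l.filter q).length, (l.filter q)[i] ∈ l ∧ q ((l.filter q)[i]) = true := fun i =>
    List.mem_filter.1 (List.getElem_mem i.2)
  rw [← Nat.card_fin (l.filter q).length]
  refine Nat.card_congr (Equiv.ofBijective
    (fun i => ⟨f (l.filter q)[i], (hq _ (hmem i).1).1 (hmem i).2⟩) ⟨fun i j h => ?_, fun b => ?_⟩)
  · exact Fin.ext ((hnd.filter q).getElem_inj_iff.1
      (hf (hmem i).1 (hmem j).1 (congrArg Subtype.val h)))
  · obtain ⟨a, ha, hab⟩ := hP b.1 b.2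
    obtain ⟨i, hi, hia⟩ := List.getElem_of_mem (List.mem_filter.2 ⟨ha, (hq a ha).2 (hab ▸ b.2)⟩)
    exact ⟨⟨i, hi⟩, Subtype.ext (by simp only [Fin.getElem_fin]; rw [hia, hab])⟩

/-- A candidate with different counts of square roots is excluded. -/
theorem false_of_bad (hG : Good K D C) {V : CertV} (hV : vB K V = true) {S : CertS} {C₀ : CtxX}
    (hS : sB K V C₀ S = true) (hp : C₀.p = C.p ∧ C₀.pi = C.pi) {W : CertW}
    (hW : candB K C V S W = true) {n : ℕ} (hbad : badB K C V S n = true)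
    {G : Type*} [Group G] [Finite G] [IsSimpleGroup G] {t : G} (ht : orderOf t = 2)
    (e : Ext D ≃* centralizer ({t} : Set G)) (he : (e (tX D) : G) = t) : False := by
  obtain ⟨d, hdt, hdv⟩ := exists_data hG hV hS hp hW
  have he' : (e d.t : G) = t := by rw [hdt, he]
  obtain ⟨-, hnd, hinM, hinj, hmem⟩ := k_facts hG hV hS hp
  set Z := centralizer ({d.v} : Set (Ext D))
  obtain ⟨τ, hτt, -⟩ := exists_aut (Emb.ofEquiv d ht e he')
  have hZ : ∀ x : Ext D, x ∈ Z ↔ ∃ p ∈ kList V S, kElt D p = x := fun x => by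
    rw [← hmem, ← hdv]
    exact mem_centralizer_singleton_iff
  let P : Z → Z → Prop := fun w x => x * x = w ∧ n ≤ Nat.card {y : Z // x * y = y * x}
  have hcount : ∀ (w : Z) (g : FX), Den (w : Ext D) g →
      rootsB C n (kList V S) g = Nat.card {x : Z // P w x} := by
    intro w g hw
    rw [rootsB]
    refine (card_subtype_list (kList V S) hnd (kElt D) hinj
      (fun x => ∃ hx : x ∈ Z, P w ⟨x, hx⟩) (fun x ⟨hx, _⟩ => (hZ x).1 hx) _ fun p hp' => ?_).trans
      (Nat.card_congr ⟨fun x => ⟨⟨x.1, x.2.1⟩, x.2.2⟩, fun x => ⟨x.1.1, x.1.2, x.2⟩,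
        fun _ => rfl, fun _ => rfl⟩)
    have hd : Den (kElt D p) (ofC p.1 p.2) := den_ofC (hinM p hp') p.2
    have hpZ : kElt D p ∈ Z := (hZ _).2 ⟨p, hp', rfl⟩
    have hcomm : (List.filter (fun y => commF C (ofC p.1 p.2) (ofC y.1 y.2)) (kList V S)).length =
        Nat.card {y : Z // (⟨kElt D p, hpZ⟩ : Z) * y = y * ⟨kElt D p, hpZ⟩} := by
      refine (card_subtype_list (kList V S) hnd (kElt D) hinj
        (fun y => y ∈ Z ∧ kElt D p * y = y * kElt D p) (fun y hy => (hZ y).1 hy.1) _ fun q hq => ?_).trans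
        (Nat.card_congr ⟨fun y => ⟨⟨y.1, y.2.1⟩, Subtype.ext y.2.2⟩,
          fun y => ⟨y.1.1, y.1.2, congrArg Subtype.val y.2⟩, fun _ => rfl, fun _ => rfl⟩)
      have hdq : Den (kElt D q) (ofC q.1 q.2) := den_ofC (hinM q hq) q.2
      rw [commF, eqF_iff hG (den_mul hG hd hdq) (den_mul hG hdq hd)]
      exact ⟨fun h => ⟨(hZ _).2 ⟨q, hq, rfl⟩, h⟩, And.right⟩
    rw [Bool.and_eq_true, eqF_iff hG (den_mul hG hd hd) hw]
    constructor
    · rintro ⟨h1, h2⟩
      refine ⟨hpZ, Subtype.ext h1, ?_⟩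
      rcases hn : Nat.beq n 0 with - | -
      · rw [hn, cond_false, Nat.ble_eq, hcomm] at h2
        exact h2
      · rw [Nat.eq_of_beq_eq_true hn]
        exact Nat.zero_le _
    · rintro ⟨hx', h1, h2⟩
      refine ⟨congrArg Subtype.val h1, ?_⟩
      rcases hn : Nat.beq n 0 with - | -
      · rw [cond_false, Nat.ble_eq, hcomm]
        exact h2
      · rfl
  have htZ : d.t ∈ Z := mem_centralizer_singleton_iff.2 ((Emb.ofEquiv d ht e he').comm d.v).symm
  have hvZ : d.v ∈ Z := mem_centralizer_singleton_iff.2 rfl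
  have hc1 := hcount ⟨d.t, htZ⟩ _ (show Den d.t _ by rw [hdt]; exact den_t hG)
  have hc2 := hcount ⟨d.v, hvZ⟩ _ (show Den d.v _ by rw [hdv]; exact den_ofC (v_facts hG hV).1 false)
  simp only [badB, Bool.not_eq_true', ← Bool.not_eq_true, Nat.beq_eq] at hbad
  refine hbad (hc1.trans (Eq.trans ?_ hc2.symm))
  have hτ : τ ⟨d.t, htZ⟩ = ⟨d.v, hvZ⟩ := Subtype.ext hτt
  refine Nat.card_congr (Equiv.subtypeEquiv τ.toEquiv fun x => ?_)
  show P _ x ↔ P _ (τ x)
  have hc : Nat.card {y : Z // τ x * y = y * τ x} = Nat.card {y : Z // x * y = y * x} :=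
    (Nat.card_congr (Equiv.subtypeEquiv τ.toEquiv fun y => by
      show x * y = y * x ↔ τ x * τ y = τ y * τ x
      rw [← map_mul, ← map_mul, τ.injective.eq_iff])).symm
  simp only [P, hc]
  rw [← map_mul, ← hτ, τ.injective.eq_iff]

end Cfsg.Agent.ONUniq
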