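import Cfsg.Agent.ONUniq.DModel

/-!
Copies of the centraliser of `a` as an involution centraliser, and their twist by the automorphism
`x ↦ x ζ` on the outer elements.
-/

set_option autoImplicit false
set_option maxRecDepth 100000
set_option Elab.async false

namespace Cfsg.Agent.ONUniq

open Cfsg.Agent.ONOut Cfsg.Agent.CosetCert

/-- A copy of `C(a)` as the centraliser of `t`, as a map on all elements. -/
structure Emb0 {G : Type*} [Group G] (t : G) where
  /-- the map -/
  E : Spor.ON → G
  mul : ∀ {x y : Spor.ON}, x ∈ C0 → y ∈ C0 → E (x * y) = E x * E y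
  inj : ∀ {x y : Spor.ON}, x ∈ C0 → y ∈ C0 → E x = E y → x = y
  map_a : E onA = t
  cent : ∀ g : G, g * t = t * g → ∃ x ∈ C0, E x = g

theorem mem_C0 {x : Spor.ON} : x ∈ C0 ↔ x * onA = onA * x := Subgroup.mem_centralizer_singleton_iff

/-- A letter of the centraliser of `a`. -/
def isC (x : Nat) : Bool := !(Nat.beq x 2) && Nat.blt x 8

theorem letters_C0 : ((List.range 8).all fun x => !(isC x) || com [x] [1]) = true := by
  decide +kernel

theorem okW_of_isC {w : List Nat} (h : w.all isC = true) : okW w = true := by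
  rw [okW, List.all_eq_true]
  intro x hx
  have h' := List.all_eq_true.1 h x hx
  simp only [isC, Bool.and_eq_true] at h'
  exact h'.2

theorem okW_single {x : Nat} (hx : x < 8) : okW [x] = true := by simpa [okW] using hx

theorem el_mem_C0 : ∀ {w : List Nat}, w.all isC = true → el w ∈ C0 := by
  intro w
  induction w with
  | nil => intro _; rw [el_nil]; exact one_mem _
  | cons x t ih =>
    intro h
    simp only [List.all_cons, Bool.and_eq_true] at h
    have hx : x < 8 := by
      have h1 := h.1
      simp only [isC, Bool.and_eq_true] at h1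
      exact Nat.ble_eq.mp h1.2
    have h2 := List.all_eq_true.1 letters_C0 x (List.mem_range.2 hx)
    simp only [h.1, Bool.not_true, Bool.false_or] at h2
    rw [show el (x :: t) = el [x] * el t from (el_append [x] t)]
    exact mul_mem (mem_C0.2 ((com_iff (okW_single hx) okW_one.1).1 h2)) (ih h.2)

theorem cent_letters : ((uWords.all fun w => w.all isC) && (tWords.all fun w => w.all isC)) = true := by
  decide +kernel

/-- `C(a)` consists of the words without `b`. -/
theorem exists_word {g : Spor.ON} (hg : g ∈ C0) : ∃ w : List Nat, w.all isC = true ∧ el w = g := by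
  obtain ⟨hU, hT, -⟩ := ok_lists
  have hga := mem_C0.1 hg
  have h0 := img_zero_good hga
  rw [← t_spec.1, List.mem_map] at h0
  obtain ⟨t, ht, htp⟩ := h0
  have htw := words hT ht
  have htc : el t * el [1] = el [1] * el t :=
    (com_iff htw okW_one.1).1 (List.all_eq_true.1 t_spec.2 t ht)
  have ht0 : img (el t) 0 = img g 0 := (img_el (lt_of_okW htw) (by norm_num)).trans htp
  obtain ⟨u, hu, hue⟩ := mem_uWords (g := g * (el t)⁻¹)
    (by rw [img_mul, ← ht0, ← img_mul, mul_inv_cancel, img_one])
    (by
      have h2 : (el t)⁻¹ * el [1] = el [1] * (el t)⁻¹ := (Commute.inv_left htc).eq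
      rw [mul_assoc, h2, ← mul_assoc, hga, mul_assoc])
  have hl := cent_letters
  simp only [Bool.and_eq_true] at hl
  refine ⟨u ++ t, ?_, by rw [el_append, hue, inv_mul_cancel_right]⟩
  rw [List.all_append, List.all_eq_true.1 hl.1 u hu, List.all_eq_true.1 hl.2 t ht]
  rfl

section

variable {G : Type*} [Group G] {t : G} (S : Emb0 t)

theorem Emb0.map_one : S.E 1 = 1 := by
  have h := S.mul (one_mem C0) (one_mem C0)
  rw [one_mul] at h
  exact left_eq_mul.1 h

theorem Emb0.map_inv {x : Spor.ON} (hx : x ∈ C0) : S.E x⁻¹ = (S.E x)⁻¹ := by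
  refine eq_inv_of_mul_eq_one_right ?_
  rw [← S.mul hx (inv_mem hx), mul_inv_cancel, S.map_one]

theorem Emb0.commute {x : Spor.ON} (hx : x ∈ C0) : S.E x * t = t * S.E x := by
  have h := congrArg S.E (mem_C0.1 hx)
  rw [S.mul hx onA_mem, S.mul onA_mem hx, S.map_a] at h
  exact h

theorem Emb0.conj {x y : Spor.ON} (hx : x ∈ C0) (hy : y ∈ C0) :
    S.E (x * y * x⁻¹) = S.E x * S.E y * (S.E x)⁻¹ := by
  rw [S.mul (mul_mem hx hy) (inv_mem hx), S.mul hx hy, S.map_inv hx]

theorem Emb0.comm_iff {x y : Spor.ON} (hx : x ∈ C0) (hy : y ∈ C0) :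
    S.E x * S.E y = S.E y * S.E x ↔ x * y = y * x :=
  ⟨fun h => S.inj (mul_mem hx hy) (mul_mem hy hx) (by rw [S.mul hx hy, S.mul hy hx, h]),
    fun h => by rw [← S.mul hx hy, ← S.mul hy hx, h]⟩

/-- An element commuting with `t` and the image of `f` is the image of one of the 256. -/
theorem Emb0.mem_D {g : G} (h1 : g * t = t * g) (h2 : g * S.E onF = S.E onF * g) :
    ∃ i, i < 256 ∧ S.E (dEl i) = g := by
  obtain ⟨x, hx, rfl⟩ := S.cent g h1
  obtain ⟨i, hi, rfl⟩ := ONUniq.mem_D (mem_C0.1 hx) ((S.comm_iff hx onF_mem).1 h2)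
  exact ⟨i, hi, rfl⟩

/-- A word of `C(a)` maps to the product of its letters. -/
theorem Emb0.map_word : ∀ {w : List Nat}, w.all isC = true →
    S.E (el w) = (w.map fun x => S.E (el [x])).prod := by
  intro w
  induction w with
  | nil => intro _; rw [el_nil, S.map_one]; rfl
  | cons x t ih =>
    intro h
    simp only [List.all_cons, Bool.and_eq_true] at h
    rw [show el (x :: t) = el [x] * el t from el_append [x] t,
      S.mul (el_mem_C0 (by simp [h.1])) (el_mem_C0 h.2), ih h.2]
    rfl

end

/-- The element `ζ` of order four in the centre of the derived subgroup of `C(a)`. -/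
noncomputable abbrev zeta : Spor.ON := el [3, 0, 3, 7]

theorem zeta_mem : zeta ∈ C0 := el_mem_C0 (by decide)

/-- Whether a word moves `ζ` and inverts it. -/
noncomputable def checkZeta (x : Nat) : Bool :=
  !(isC x) || (com [x] [3, 0, 3, 7] || eqW ([x] ++ [3, 0, 3, 7]) ([0, 3, 7, 3] ++ [x]))

theorem zeta_ok : ((List.range 8).all checkZeta && eqW ([3, 0, 3, 7] ++ [0, 3, 7, 3]) [])= true := by
  decide +kernel

theorem zeta_conj {x : Spor.ON} (hx : x ∈ C0) :
    x * zeta = zeta * x ∨ x * zeta = zeta⁻¹ * x := by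
  have hz := zeta_ok
  simp only [Bool.and_eq_true] at hz
  have hi : el [0, 3, 7, 3] = zeta⁻¹ := by
    refine eq_inv_of_mul_eq_one_right ?_
    rw [← el_append, ← el_nil]
    exact (eq_iff (by decide) okW_nil).1 hz.2
  obtain ⟨w, hw, rfl⟩ := exists_word hx
  clear hx
  induction w with
  | nil => exact Or.inl (by rw [el_nil, one_mul, mul_one])
  | cons x t ih =>
    simp only [List.all_cons, Bool.and_eq_true] at hw
    have hx8 : x < 8 := by
      have h1 := hw.1
      simp only [isC, Bool.and_eq_true] at h1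
      exact Nat.ble_eq.mp h1.2
    have hc := List.all_eq_true.1 hz.1 x (List.mem_range.2 hx8)
    simp only [checkZeta, hw.1, Bool.not_true, Bool.false_or, Bool.or_eq_true] at hc
    have hxw : okW [x] = true := okW_single hx8
    have h1 : el [x] * zeta = zeta * el [x] ∨ el [x] * zeta = zeta⁻¹ * el [x] := by
      rcases hc with h | h
      · exact Or.inl ((com_iff hxw (by decide)).1 h)
      · refine Or.inr ?_
        have e := (eq_iff (okW_append hxw (by decide)) (okW_append (by decide) hxw)).1 h
        rwa [el_append, el_append, hi] at e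
    have h1' : el [x] * zeta⁻¹ = zeta⁻¹ * el [x] ∨ el [x] * zeta⁻¹ = zeta * el [x] := by
      rcases h1 with h | h
      · exact Or.inl (Commute.inv_right h).eq
      · refine Or.inr ?_
        rw [mul_inv_eq_iff_eq_mul, mul_assoc, h, mul_inv_cancel_left]
    rw [show el (x :: t) = el [x] * el t from el_append [x] t, mul_assoc]
    rcases ih hw.2 with h | h <;> rw [h, ← mul_assoc]
    · rcases h1 with e | e
      · exact Or.inl (by rw [e, mul_assoc])
      · exact Or.inr (by rw [e, mul_assoc])
    · rcases h1' with e | e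
      · exact Or.inr (by rw [e, mul_assoc])
      · exact Or.inl (by rw [e, mul_assoc])

open scoped Classical in
/-- The twist: outer elements are multiplied by `ζ`. -/
noncomputable def psi (x : Spor.ON) : Spor.ON := if x * zeta = zeta * x then x else x * zeta

theorem zeta_sq : zeta * zeta = onA := by
  rw [← el_append]
  exact (eq_iff (by decide) okW_one.1).1 (by decide +kernel)

theorem zeta_ne_inv : zeta ≠ zeta⁻¹ := by
  intro h
  have h2 : zeta * zeta = 1 := by nth_rewrite 2 [h]; exact mul_inv_cancel _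
  rw [zeta_sq, ← el_nil] at h2
  exact el_ne (by decide +kernel) (by decide) (by decide) h2

theorem psi_mem {x : Spor.ON} (hx : x ∈ C0) : psi x ∈ C0 := by
  unfold psi
  split_ifs
  exacts [hx, mul_mem hx zeta_mem]

theorem psi_mul {x y : Spor.ON} (hx : x ∈ C0) (hy : y ∈ C0) : psi (x * y) = psi x * psi y := by
  have key : ∀ z ∈ C0, ¬ z * zeta = zeta * z → z * zeta = zeta⁻¹ * z ∧ zeta * z = z * zeta⁻¹ :=
    fun z hz hn => by
      have h := (zeta_conj hz).resolve_left hn
      exact ⟨h, by rw [eq_mul_inv_iff_mul_eq, mul_assoc, h, mul_inv_cancel_left]⟩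
  by_cases h1 : x * zeta = zeta * x <;> by_cases h2 : y * zeta = zeta * y
  · have h : x * y * zeta = zeta * (x * y) := by
      rw [mul_assoc, h2, ← mul_assoc, h1, mul_assoc]
    simp only [psi, if_pos h, if_pos h1, if_pos h2]
  · obtain ⟨e2, -⟩ := key y hy h2
    have h : ¬ x * y * zeta = zeta * (x * y) := fun h => h2 (by
      rw [mul_assoc, ← mul_assoc zeta, ← h1, mul_assoc] at h
      exact mul_left_cancel h)
    simp only [psi, if_neg h, if_pos h1, if_neg h2, mul_assoc]
  · obtain ⟨e1, -⟩ := key x hx h1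
    have h : ¬ x * y * zeta = zeta * (x * y) := fun h => h1 (by
      rw [mul_assoc, h2, ← mul_assoc, ← mul_assoc] at h
      exact mul_right_cancel h)
    simp only [psi, if_neg h, if_neg h1, if_pos h2]
    rw [mul_assoc x zeta, ← h2, ← mul_assoc]
  · obtain ⟨e1, e1'⟩ := key x hx h1
    obtain ⟨e2, e2'⟩ := key y hy h2
    have h : x * y * zeta = zeta * (x * y) := by
      rw [mul_assoc, e2, ← mul_assoc, ← e1', mul_assoc]
    simp only [psi, if_pos h, if_neg h1, if_neg h2]
    rw [mul_assoc x zeta, ← mul_assoc zeta, e2', mul_assoc, inv_mul_cancel, mul_one]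

theorem psi_inj {x y : Spor.ON} (h : psi x = psi y) : x = y := by
  have key : ∀ z : Spor.ON, z * zeta * zeta = zeta * (z * zeta) → z * zeta = zeta * z :=
    fun z hz => mul_right_cancel (hz.trans (mul_assoc _ _ _).symm)
  unfold psi at h
  split_ifs at h with h1 h2 h2
  · exact h
  · exact absurd (key y (by rwa [h] at h1)) h2
  · exact absurd (key x (by rwa [← h] at h2)) h1
  · exact mul_right_cancel h

theorem psi_onA : psi onA = onA := if_pos ((com_iff okW_one.1 (by decide)).1 (by decide +kernel))

theorem psi_onF : psi onF = onF := if_pos ((com_iff okW_one.2 (by decide)).1 (by decide +kernel))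

theorem psi_surj {y : Spor.ON} (hy : y ∈ C0) : ∃ x ∈ C0, psi x = y := by
  by_cases h : y * zeta = zeta * y
  · exact ⟨y, hy, if_pos h⟩
  · refine ⟨y * zeta⁻¹, mul_mem hy (inv_mem zeta_mem), ?_⟩
    have h2 : ¬ y * zeta⁻¹ * zeta = zeta * (y * zeta⁻¹) := fun e => h (by
      rw [inv_mul_cancel_right, ← mul_assoc, eq_mul_inv_iff_mul_eq] at e
      exact e)
    unfold psi
    rw [if_neg h2, inv_mul_cancel_right]

/-- The twisted copy. -/
noncomputable def Emb0.twist {G : Type*} [Group G] {t : G} (S : Emb0 t) : Emb0 t where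
  E x := S.E (psi x)
  mul {x y} hx hy := by rw [psi_mul hx hy, S.mul (psi_mem hx) (psi_mem hy)]
  inj {x y} hx hy h := psi_inj (S.inj (psi_mem hx) (psi_mem hy) h)
  map_a := by rw [psi_onA, S.map_a]
  cent g hg := by
    obtain ⟨y, hy, rfl⟩ := S.cent g hg
    obtain ⟨x, hx, rfl⟩ := psi_surj hy
    exact ⟨x, hx, rfl⟩

open scoped Classical in
/-- The copy from the data of lane A. -/
noncomputable def CentData.toEmb0 {G : Type*} [Group G] {t : G} (S : CentData t) : Emb0 t where
  E x := if hx : x ∈ C0 then (S.e ⟨x, hx⟩ : G) else 1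
  mul {x y} hx hy := by
    rw [dif_pos hx, dif_pos hy, dif_pos (mul_mem hx hy), ← Subgroup.coe_mul, ← map_mul]
    rfl
  inj {x y} hx hy h := by
    rw [dif_pos hx, dif_pos hy] at h
    exact congrArg Subtype.val (S.e.injective (Subtype.ext h))
  map_a := by rw [dif_pos onA_mem, S.map_a]
  cent g hg := by
    refine ⟨S.e.symm ⟨g, Subgroup.mem_centralizer_singleton_iff.2 hg⟩,
      (S.e.symm ⟨g, Subgroup.mem_centralizer_singleton_iff.2 hg⟩).2, ?_⟩
    rw [dif_pos (S.e.symm ⟨g, Subgroup.mem_centralizer_singleton_iff.2 hg⟩).2]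
    exact congrArg Subtype.val (S.e.apply_symm_apply _)

end Cfsg.Agent.ONUniq
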