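import Cfsg.Agent.ONUniq.ModelDef

/-! Kernel checks on a covering group 4.L3(4). -/

set_option autoImplicit false
set_option maxHeartbeats 0
set_option maxRecDepth 100000
set_option Elab.async false

namespace Cfsg.Agent.ONUniq

open Cfsg.Agent.Compute

theorem kB_levels : allBelow 3 (fun i => rep224.checkLevel (kB.chain.getD i ⟨0, 0, id, .nil, []⟩)
    (kB.chain.drop (i + 1))) = true := by decide +kernel

theorem kB_chain : rep224.checkChain kB.chain = true := by
  have h := fun i hi => allBelow_eq_true.mp kB_levels i hi
  show rep224.checkChain [DataB.lev0, DataB.lev1, DataB.lev2] = true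
  rw [Rep.checkChain_cons, Rep.checkChain_cons, Rep.checkChain_cons, Bool.and_eq_true, Bool.and_eq_true,
    Bool.and_eq_true]
  exact ⟨h 0 (by norm_num), h 1 (by norm_num), h 2 (by norm_num), rfl⟩

theorem kB_checked : kB.Checked where
  chain := kB_chain
  size := by decide +kernel
  gen := by decide +kernel
  sep := by decide +kernel
  zeta := by decide +kernel
  fix' := by decide +kernel
  chi := by decide +kernel
  sig := by decide +kernel

end Cfsg.Agent.ONUniq
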