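import Cfsg.Agent.ONUniq.CertVA
import Cfsg.Agent.ONUniq.CertSA0
import Cfsg.Agent.ONUniq.CertWA00
import Cfsg.Agent.ONUniq.CertWA01

/-! Kernel checks of the exclusion certificates. -/

set_option autoImplicit false
set_option maxHeartbeats 0
set_option maxRecDepth 100000
set_option Elab.async false

namespace Cfsg.Agent.ONUniq

theorem sA0_ok : sB kA CertVA.cert (mkCtx kA 0 0) CertSA0.cert = true := by decide +kernel

theorem wA00_ok : candB kA (mkCtx kA 0 0) CertVA.cert CertSA0.cert CertWA00.cert = true := by
  decide +kernel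

theorem badA00 : badB kA (mkCtx kA 0 0) CertVA.cert CertSA0.cert 0 = true := by decide +kernel

theorem wA01_ok : candB kA (mkCtx kA 0 1) CertVA.cert CertSA0.cert CertWA01.cert = true := by
  decide +kernel

theorem badA01 : badB kA (mkCtx kA 0 1) CertVA.cert CertSA0.cert 0 = true := by decide +kernel

end Cfsg.Agent.ONUniq
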