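import Cfsg.Agent.ONUniq.CertVB
import Cfsg.Agent.ONUniq.CertSB2
import Cfsg.Agent.ONUniq.CertWB20
import Cfsg.Agent.ONUniq.CertWB21

/-! Kernel checks of the exclusion certificates. -/

set_option autoImplicit false
set_option maxHeartbeats 0
set_option maxRecDepth 100000
set_option Elab.async false

namespace Cfsg.Agent.ONUniq

theorem sB2_ok : sB kB CertVB.cert (mkCtx kB 2 0) CertSB2.cert = true := by decide +kernel

theorem wB20_ok : candB kB (mkCtx kB 2 0) CertVB.cert CertSB2.cert CertWB20.cert = true := by
  decide +kernel

theorem badB20 : badB kB (mkCtx kB 2 0) CertVB.cert CertSB2.cert 128 = true := by decide +kernel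

theorem wB21_ok : candB kB (mkCtx kB 2 1) CertVB.cert CertSB2.cert CertWB21.cert = true := by
  decide +kernel

theorem badB21 : badB kB (mkCtx kB 2 1) CertVB.cert CertSB2.cert 0 = true := by decide +kernel

end Cfsg.Agent.ONUniq
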