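import Cfsg.Agent.ONUniq.CertVB

/-! Kernel checks of the exclusion certificates. -/

set_option autoImplicit false
set_option maxHeartbeats 0
set_option maxRecDepth 100000
set_option Elab.async false

namespace Cfsg.Agent.ONUniq

theorem vB_ok : vB kB CertVB.cert = true := by decide +kernel

end Cfsg.Agent.ONUniq
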