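import Cfsg.Agent.ONUniq.Model
import Cfsg.Agent.ONUniq.CheckA
import Cfsg.Agent.ONUniq.CheckB

/-!
A perfect central extension of PSL(3,4) with cyclic kernel of order four is one of the two
covering groups.
-/

set_option autoImplicit false
set_option maxHeartbeats 1000000
set_option linter.unusedSectionVars false
set_option linter.style.haveILetI false

namespace Cfsg.Agent.ONUniq

open Cfsg.Agent Cfsg.Agent.Compute Cfsg.Agent.StemCert Subgroup

local notation "PSL₃(" F ")" => Matrix.ProjectiveSpecialLinearGroup (Fin 3) F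

attribute [local irreducible] compCode idCode canonC SLMult.L34.codes SLMult.L34.centPairs
  DataL.dperm DataL.dwords DataA.chain DataA.gs DataA.gis DataA.zeta DataA.mask DataA.sig
  DataB.chain DataB.gs DataB.gis DataB.zeta DataB.mask DataB.sig

/-- The two covering groups. -/
noncomputable def kd (b : Bool) : KData := cond b kB kA

theorem kd_checked : ∀ b, (kd b).Checked
  | false => kA_checked
  | true => kB_checked

/-- The images of the two kernel generators under a twisted map. -/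
noncomputable def chiZ (b : Bool) (i : ℕ) : ZMod 4 × ZMod 4 :=
  (((kd b).chi.getD i (0, 0)).1, ((kd b).chi.getD i (0, 0)).2)

theorem chi_first : ∀ b, ((kd b).chi.getD 0 (0, 0)).1 = 1
  | false => rfl
  | true => rfl

theorem chi_cover : ∀ a c : ZMod 4, ¬ (2 * a = 0 ∧ 2 * c = 0) → ∃ (b : Bool) (i : Fin 3) (u : ZMod 4),
    u * u = 1 ∧ a = u * (chiZ b i).1 ∧ c = u * (chiZ b i).2 := by decide +kernel

theorem chi_sep : ∀ b : Bool, ∃ x y : ZMod 4, (chiZ b 0).1 * x + (chiZ b 0).2 * y = 0 ∧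
    (chiZ b 1).1 * x + (chiZ b 1).2 * y ≠ 0 := by decide +kernel

variable {F : Type} [Field F] [Fintype F] (w : F)
variable (hF : Fintype.card F = 4) (hw : w * w = w + 1) (h2 : (1 : F) + 1 = 0)

include hF hw h2 in
theorem psl_center : center (PSL₃(F)) = ⊥ := by
  haveI : IsSimpleGroup (PSL₃(F)) := Classical.isSimpleGroup_psl (Or.inl (by simp))
  rcases (inferInstance : (center (PSL₃(F))).Normal).eq_bot_or_eq_top with h | h
  · exact h
  · exfalso
    let hcomm : CommGroup (PSL₃(F)) :=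
      { (inferInstance : Group (PSL₃(F))) with
        mul_comm := fun a b => Subgroup.mem_center_iff.1 (h ▸ mem_top b) a }
    have hp : (Nat.card (PSL₃(F))).Prime := IsSimpleGroup.prime_card
    rw [SLMult.L34.card_group hF] at hp
    norm_num at hp

include hF hw h2 in
theorem center_eq_ker {E : Type*} [Group E] (π : E →* PSL₃(F)) (hπ : Function.Surjective π)
    (hc : π.ker ≤ center E) : center E = π.ker := by
  refine le_antisymm (fun x hx => ?_) hc
  have h : π x ∈ center (PSL₃(F)) := mem_center_iff.2 fun y => by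
    obtain ⟨y', rfl⟩ := hπ y
    rw [← map_mul, ← map_mul, mem_center_iff.1 hx]
  rwa [psl_center w hF hw h2, mem_bot] at h

include hF hw h2 in
/-- The kernel of a map of the universal cover onto an extension with cyclic kernel of order four. -/
theorem ker_char {E : Type*} [Group E] (π : E →* PSL₃(F)) (θ : SLMult.L34.cover w →* E)
    (δ : MulAut (PSL₃(F))) (hθ : ∀ y, π (θ y) = δ (SLMult.L34.proj w y)) {z : E}
    (hker : π.ker = zpowers z) (hz : orderOf z = 4) :
    ∃ a c : ZMod 4, θ (SLMult.L34.zc w 1) = z ^ a.val ∧ θ (SLMult.L34.zc w 2) = z ^ c.val ∧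
      (∀ v, θ (kerVal w v) = z ^ (a * v.2.1 + c * v.2.2).val) ∧
      ∀ y, θ y = 1 ↔ ∃ v, y = kerVal w v ∧ a * v.2.1 + c * v.2.2 = 0 := by
  have hmem : ∀ r, r < 3 → ∃ a : ZMod 4, θ (SLMult.L34.zc w r) = z ^ a.val := fun r hr => by
    have h : θ (SLMult.L34.zc w r) ∈ zpowers z := by
      rw [← hker, MonoidHom.mem_ker, hθ, MonoidHom.mem_ker.1 (SLMult.L34.zc_ker w hF hw h2 hr),
        map_one]
    obtain ⟨n, hn⟩ := h
    refine ⟨(n : ZMod 4), hn.symm.trans ?_⟩
    rw [← zpow_natCast, zpow_eq_zpow_iff_modEq, hz]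
    exact ((ZMod.intCast_eq_intCast_iff _ _ 4).1 (by simp)).symm
  obtain ⟨a0, ha0⟩ := hmem 0 (by norm_num)
  obtain ⟨a, ha⟩ := hmem 1 (by norm_num)
  obtain ⟨c, hc⟩ := hmem 2 (by norm_num)
  have h0 : θ (SLMult.L34.zc w 0) = 1 := by
    have h3 : SLMult.L34.zc w 0 ^ 3 = 1 := by
      apply SLMult.L34.snd_injective w hF hw h2
      show ((SLMult.L34.zc w 0 ^ 3 : SLMult.L34.cover w)).1.2 = _
      rw [Subgroup.coe_pow, Prod.pow_snd, SLMult.L34.zc_snd w (by norm_num), SLMult.L34.cent_pow.1]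
      rfl
    have h := congrArg θ h3
    rw [map_pow, map_one, ha0, ← pow_mul, ← orderOf_dvd_iff_pow_eq_one, hz] at h
    rw [ha0, ← orderOf_dvd_iff_pow_eq_one, hz]
    exact (Nat.Coprime.dvd_mul_right (by norm_num)).1 h
  have hval : ∀ v, θ (kerVal w v) = z ^ (a * v.2.1 + c * v.2.2).val := fun v => by
    rw [kerVal, map_mul, map_mul, map_pow, map_pow, map_pow, h0, one_pow, one_mul, ha, hc,
      ← pow_mul, ← pow_mul, ← pow_add]
    refine pow_eq_pow_iff_modEq.2 ?_
    rw [hz]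
    exact (ZMod.natCast_eq_natCast_iff _ _ 4).1 (by simp)
  refine ⟨a, c, ha, hc, hval, fun y => ⟨fun hy => ?_, ?_⟩⟩
  · have hp : SLMult.L34.proj w y = 1 := by
      refine (map_eq_one_iff δ δ.injective).1 ?_
      rw [← hθ, hy, map_one]
    obtain ⟨v, rfl⟩ := (ker_proj w hF hw h2).2 y hp
    refine ⟨v, rfl, ?_⟩
    rw [hval, ← orderOf_dvd_iff_pow_eq_one, hz] at hy
    rw [← ZMod.natCast_zmod_val (a * v.2.1 + c * v.2.2), (ZMod.natCast_eq_zero_iff _ 4).2 hy]
  · rintro ⟨v, rfl, hv⟩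
    rw [hval, hv, ZMod.val_zero, pow_zero]

include hF hw h2 in
/-- A twisted map of the universal cover onto a covering group, with its kernel data. -/
theorem exists_theta (b : Bool) (π : (kd b).Mg →* PSL₃(F)) (hπ : Function.Surjective π)
    (hg : ∀ s < 5, π ((kd b).el ((kd b).gs.getD s 0)) = SLMult.L34.gen w s)
    (hc : π.ker ≤ center (kd b).Mg) (hperf : commutator (kd b).Mg = ⊤)
    (δ : MulAut (PSL₃(F)))
    (hδ : ∀ i < 3, ∀ s < 5, (δ ^ i) (SLMult.L34.gen w s) = evalW (SLMult.L34.gen w) (twistW i s))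
    (i : Fin 3) :
    ∃ θ : SLMult.L34.cover w →* (kd b).Mg, Function.Surjective θ ∧
      (∀ y, π (θ y) = (δ ^ (i : ℕ)) (SLMult.L34.proj w y)) ∧
      θ (SLMult.L34.zc w 1) = (kd b).el (kd b).zeta ^ ((kd b).chi.getD i (0, 0)).1 ∧
      θ (SLMult.L34.zc w 2) = (kd b).el (kd b).zeta ^ ((kd b).chi.getD i (0, 0)).2 := by
  have hK := kd_checked b
  obtain ⟨hz, -, -, -⟩ := KData.zeta_spec hK
  let π' := ((δ ^ (i : ℕ)).symm.toMonoidHom).comp π
  have hker : π'.ker = π.ker := by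
    ext x
    simp [π', MonoidHom.mem_ker]
  obtain ⟨θ, hθs, hθ⟩ := exists_hom w hF hw h2 π' ((δ ^ (i : ℕ)).symm.surjective.comp hπ)
    (hker ▸ hc) hperf
  have hθ' : ∀ y, π (θ y) = (δ ^ (i : ℕ)) (SLMult.L34.proj w y) := fun y => by
    rw [← hθ y]
    exact ((δ ^ (i : ℕ)).apply_symm_apply _).symm
  refine ⟨θ, hθs, hθ', ?_⟩
  have hg' : ∀ s < 5, π (evalW (fun x => (kd b).el ((kd b).gs.getD x 0)) (twistW i s)) =
      (δ ^ (i : ℕ)) (SLMult.L34.gen w s) := fun s hs => by
    rw [evalW_map, hδ i i.2 s hs]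
    exact evalW_congr fun x hx => hg x (KData.tw_lt hK d_ok i.2 hs x hx)
  have hzc := fun r hr => hom_zc w π hc θ hθ'
    (fun s => evalW (fun x => (kd b).el ((kd b).gs.getD x 0)) (twistW i s)) hg' (r := r) hr
  have hchk := allBelow_eq_true.mp hK.chi i i.2
  simp only [chiB, Bool.and_eq_true, Nat.beq_eq] at hchk
  constructor
  · rw [hzc 1 (by norm_num),
      ← (KData.commC_mem hK d_ok i.2 _ (SLMult.L34.cent_spec (r := 1) (by norm_num)).2.1).2, hchk.1,
      (hz.pow _).2]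
  · rw [hzc 2 (by norm_num),
      ← (KData.commC_mem hK d_ok i.2 _ (SLMult.L34.cent_spec (r := 2) (by norm_num)).2.1).2, hchk.2,
      (hz.pow _).2]

theorem orderOf_zeta (b : Bool) : orderOf ((kd b).el (kd b).zeta) = 4 := by
  obtain ⟨-, h4, h2, -⟩ := KData.zeta_spec (kd_checked b)
  exact orderOf_eq_prime_pow (p := 2) (n := 1) (by simpa using h2) (by simpa using h4)

include hF hw h2 in
/-- The exponents of a twisted map. -/
theorem theta_char (b : Bool) (i : ℕ) (π : (kd b).Mg →* PSL₃(F))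
    (hker : π.ker = zpowers ((kd b).el (kd b).zeta)) (δ : MulAut (PSL₃(F)))
    (θ : SLMult.L34.cover w →* (kd b).Mg) (hθ : ∀ y, π (θ y) = δ (SLMult.L34.proj w y))
    (h1 : θ (SLMult.L34.zc w 1) = (kd b).el (kd b).zeta ^ ((kd b).chi.getD i (0, 0)).1)
    (h2' : θ (SLMult.L34.zc w 2) = (kd b).el (kd b).zeta ^ ((kd b).chi.getD i (0, 0)).2) :
    ∀ y, θ y = 1 ↔ ∃ v, y = kerVal w v ∧ (chiZ b i).1 * v.2.1 + (chiZ b i).2 * v.2.2 = 0 := by
  obtain ⟨a, c, ha, hc, -, hiff⟩ := ker_char w hF hw h2 π θ δ hθ hker (orderOf_zeta b)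
  have key : ∀ (x : ZMod 4) (n : ℕ), (kd b).el (kd b).zeta ^ n = (kd b).el (kd b).zeta ^ x.val →
      x = (n : ZMod 4) := fun x n h => by
    rw [pow_eq_pow_iff_modEq, orderOf_zeta] at h
    rw [← ZMod.natCast_zmod_val x]
    exact ((ZMod.natCast_eq_natCast_iff _ _ 4).2 h).symm
  have e1 : a = (chiZ b i).1 := key a _ (h1.symm.trans ha)
  have e2 : c = (chiZ b i).2 := key c _ (h2'.symm.trans hc)
  rw [← e1, ← e2]
  exact hiff

include hF hw h2 in
/-- The covering groups are the only perfect central extensions with cyclic kernel of order four. -/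
theorem exists_iso {E : Type*} [Group E] [Finite E] (π : E →* PSL₃(F)) (hπ : Function.Surjective π)
    (hc : π.ker ≤ center E) (hperf : commutator E = ⊤) {z : E} (hker : π.ker = zpowers z)
    (hz : orderOf z = 4) : ∃ b, Nonempty ((kd b).Mg ≃* E) := by
  obtain ⟨θ, hθs, hθ⟩ := exists_hom w hF hw h2 π hπ hc hperf
  obtain ⟨a, c, -, -, hval, hiff⟩ := ker_char w hF hw h2 π θ 1 (by simpa using hθ) hker hz
  have hodd : ¬ (2 * a = 0 ∧ 2 * c = 0) := by
    rintro ⟨ha, hc'⟩
    obtain ⟨y, hy⟩ := hθs z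
    have hyp : SLMult.L34.proj w y = 1 := by
      rw [← hθ, hy, ← MonoidHom.mem_ker, hker]
      exact mem_zpowers z
    obtain ⟨v, rfl⟩ := (ker_proj w hF hw h2).2 y hyp
    rw [hval] at hy
    have h1 := congrArg (fun x => x ^ 2) hy
    simp only [← pow_mul] at h1
    rw [pow_eq_pow_iff_modEq, hz, ← ZMod.natCast_eq_natCast_iff, Nat.cast_mul, ZMod.natCast_zmod_val,
      Nat.cast_ofNat] at h1
    rw [show (a * v.2.1 + c * v.2.2) * 2 = 2 * a * v.2.1 + 2 * c * v.2.2 by ring, ha, hc', zero_mul,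
      zero_mul, add_zero] at h1
    exact absurd h1 (by decide)
  obtain ⟨b, i, u, hu, hau, hcu⟩ := chi_cover a c hodd
  obtain ⟨δ, -, hδ⟩ := exists_diag w hF hw h2 d_ok
  obtain ⟨πb, hπbs, hπbg, hπbk, hπbc, hbperf, -⟩ :=
    KData.exists_pi (kd_checked b) w hF hw h2 d_ok (chi_first b)
  obtain ⟨θ', hθ's, hθ', hz1, hz2⟩ := exists_theta w hF hw h2 b πb hπbs hπbg hπbc hbperf δ hδ i
  have hiff' := theta_char w hF hw h2 b i πb hπbk _ θ' hθ' hz1 hz2
  have hk : θ'.ker = θ.ker := by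
    ext y
    rw [MonoidHom.mem_ker, MonoidHom.mem_ker, hiff, hiff']
    refine exists_congr fun v => and_congr_right fun _ => ?_
    rw [hau, hcu, show u * (chiZ b i).1 * v.2.1 + u * (chiZ b i).2 * v.2.2 =
      u * ((chiZ b i).1 * v.2.1 + (chiZ b i).2 * v.2.2) by ring]
    refine ⟨fun h => by rw [h, mul_zero], fun h => ?_⟩
    have := congrArg (u * ·) h
    simpa [← mul_assoc, hu] using this
  exact ⟨b, ⟨((QuotientGroup.quotientKerEquivOfSurjective θ' hθ's).symm.trans
    (QuotientGroup.quotientMulEquivOfEq hk)).trans (QuotientGroup.quotientKerEquivOfSurjective θ hθs)⟩⟩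

end Cfsg.Agent.ONUniq
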