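import Cfsg.Agent.ONUniq.DModel

/-!
The finite classification of the automorphisms of `D` that an element exchanging `t` and `f` induces.
-/

set_option autoImplicit false
set_option maxRecDepth 100000
set_option Elab.async false

namespace Cfsg.Agent.ONUniq

open Cfsg.Agent.ONOut Cfsg.Agent.CosetCert

/-- A map on the letters given by three indices. -/
def imF (x y z : Nat) (l : Nat) : Nat :=
  if l = 3 then x else if l = 4 then y else if l = 0 then z else invD z

/-- The image of a word. -/
def subD (im : Nat → Nat) (w : List Nat) : Nat := w.foldl (fun p l => mulD p (im l)) 0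

/-- The image of an index. -/
def fA (im : Nat → Nat) (i : Nat) : Nat := subD im (dW i)

/-- An element of `C(a)` exchanging `f` and `a f`. -/
def kSwap : List Nat := [5, 4, 3, 4, 3, 5, 4, 3, 7, 5, 4, 0, 5]

/-- Its action on the letters. -/
def ckW (l : Nat) : List Nat :=
  if l = 3 then [3, 4, 7, 3, 4] else if l = 4 then [3, 4, 3] else
    if l = 0 then [4, 3, 0, 4, 7] else [0, 4, 7, 3, 4]

/-- Its action on the indices. -/
def fK (i : Nat) : Nat := evD 0 ((dW i).flatMap ckW)

/-- The three images in one number. -/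
def keyT (a b c : Nat) : Nat := a + 256 * (b + 256 * c)

/-- A map acts on `c`, `d`, `g` as an inner automorphism. -/
noncomputable def innOK (f : Nat → Nat) : Bool := memN (keyT (f 1) (f 2) (f 3)) innKeys

/-- The action of the element of order three. -/
noncomputable def rLook (i : Nat) : Nat :=
  rMap.foldl (fun acc e => bif Nat.beq e.1 i then e.2 else acc) 256

/-- One step: exchange, conjugate, rotate. -/
noncomputable def stW (im : Nat → Nat) (y i : Nat) : Nat :=
  bif Nat.blt i 256 then rLook (conjD y (fA im i)) else 256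

/-- Three steps. -/
noncomputable def it3 (im : Nat → Nat) (y i : Nat) : Nat := stW im y (stW im y (stW im y i))

/-- Three steps fix `E` and move `W`: impossible. -/
noncomputable def wBad (im : Nat → Nat) (y : Nat) : Bool :=
  Nat.beq (it3 im y 240) 240 && (Nat.beq (it3 im y 241) 241 && (Nat.beq (it3 im y 171) 171 &&
    wList.any fun w => Nat.blt (it3 im y w) 256 && !(Nat.beq (it3 im y w) w)))

/-- All the tests on a triple of images. -/
noncomputable def cand (x y z : Nat) : Bool :=
  Nat.beq (fA (imF x y z) 240) 241 && (Nat.beq (fA (imF x y z) 241) 240 &&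
    (Nat.beq (subD (imF x y z) [3, 7, 4, 7, 4, 3, 4, 0, 4, 0]) 0 &&
    (Nat.beq (subD (imF x y z) [4, 7, 3, 7, 3, 4, 3, 0, 3, 0]) 0 &&
    (innOK (fun i => fA (imF x y z) (fA (imF x y z) i)) &&
    (innOK (fun i => fA (imF x y z) (fK (fA (imF x y z) (fK (fA (imF x y z) (fK i)))))) &&
    (!(wBad (imF x y z) 1) && !(wBad (imF x y z) 2)))))))

/-- The first image is reduced. -/
noncomputable def checkX (x : Nat) : Bool :=
  !(Nat.beq (mulD x x) 0) || (Nat.beq x 0 || xConj.any fun e =>
    Nat.beq e.1 x && (Nat.blt e.2 256 && memN (conjD e.2 x) xReps))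

/-- The second image is reduced. -/
noncomputable def checkY (x y : Nat) : Bool :=
  !(Nat.beq (mulD y y) 0 &&
      Nat.beq (mulD (mulD (mulD (mulD (mulD (mulD (mulD x y) x) y) x) y) x) y) 13) ||
    yConj.any fun e => Nat.beq e.1 x && (Nat.beq e.2.1 y && (Nat.blt e.2.2 256 &&
      (Nat.beq (conjD e.2.2 x) x &&
        xyReps.any fun p => Nat.beq p.1 x && Nat.beq p.2 (conjD e.2.2 y))))

theorem x_ok : allFrom checkX 0 256 = true := by decide +kernel

theorem y_ok : xReps.all (fun x => allFrom (checkY x) 0 256) = true := by decide +kernel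

theorem z_ok : allFrom (fun z => !(Nat.beq (mulD z z) 13) || memN z zList) 0 256 = true := by
  decide +kernel

theorem inn_ok : allFrom (fun h => memN (keyT (conjD h 1) (conjD h 2) (conjD h 3)) innKeys) 0 256 =
    true := by decide +kernel

theorem w_comm_ok : allFrom (fun i => !(Nat.beq (mulD i 171) (mulD 171 i)) ||
    wList.all fun w => Nat.blt w 256 && Nat.beq (mulD i w) (mulD w i)) 0 256 = true := by
  decide +kernel

theorem r_ok : rMap.all (fun e => Nat.blt e.1 256 && (Nat.blt e.2 256 &&
    eqW (rWord ++ dW e.1) (dW e.2 ++ rWord))) = true := by decide +kernel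

theorem k_ok : [3, 4, 0, 7].all (fun l =>
    (ckW l).all isD && eqW (kSwap ++ [l]) (ckW l ++ kSwap)) = true ∧
    (fK 240 = 240 ∧ fK 241 = 13 ∧ fK 13 = 241) := by decide +kernel

theorem idx_ok : dW 1 = [3] ∧ dW 2 = [4] ∧ dW 3 = [0] ∧ dW 4 = [7] ∧
    eqW (dW 240) [1] = true ∧ eqW (dW 241) [6] = true ∧ mulD 240 241 = 13 ∧ mulD 241 240 = 13 := by
  decide +kernel

/-- Two triples survive. -/
theorem final_ok : (xyReps.all fun p => zList.all fun z => !(cand p.1 p.2 z) ||
    (Nat.beq p.1 2 && (Nat.beq p.2 1 && (Nat.beq z 3 || Nat.beq z 99)))) = true := by decide +kernel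

/-- The twist on a letter. -/
def psiL (l : Nat) : List Nat :=
  if l = 3 then [3, 3, 0, 3, 7] else if l = 4 then [4] else
    if l = 0 then [0, 3, 0, 3, 7] else [0, 3, 7, 3, 7]

/-- The twist on an index. -/
def pMap (i : Nat) : Nat := evD 0 ((dW i).flatMap psiL)

theorem twist_ok : fA (imF 2 1 99) (pMap 1) = pMap (conjD 99 2) ∧
    fA (imF 2 1 99) (pMap 2) = pMap (conjD 99 1) ∧
    fA (imF 2 1 99) (pMap 3) = pMap (conjD 99 3) := by decide +kernel

end Cfsg.Agent.ONUniq
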