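import Cfsg.Agent.ONUniq.Chart
import Cfsg.Agent.ONUniq.DTests

/-!
An element exchanging `t` and `f` may be taken to act on `D` as the path reversal, after twisting the
identification.
-/

set_option autoImplicit false
set_option maxRecDepth 100000
set_option Elab.async false

namespace Cfsg.Agent.ONUniq

open Cfsg.Agent.ONOut Cfsg.Agent.CosetCert

theorem isC_of_isD {w : List Nat} (h : w.all isD = true) : w.all isC = true := by
  rw [List.all_eq_true] at h ⊢
  intro x hx
  have h' := h x hx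
  simp only [isD, Bool.or_eq_true, Nat.beq_eq] at h'
  rcases h' with ((rfl | rfl) | rfl) | rfl <;> rfl

theorem letter_mem {l : Nat} (h : isD l = true) : l = 3 ∨ l = 4 ∨ l = 0 ∨ l = 7 := by
  simp only [isD, Bool.or_eq_true, Nat.beq_eq] at h
  tauto

theorem dEl_letters : dEl 1 = el [3] ∧ dEl 2 = el [4] ∧ dEl 3 = el [0] ∧ dEl 4 = el [7] ∧
    dEl 240 = onA ∧ dEl 241 = onF := by
  obtain ⟨h1, h2, h3, h4, h5, h6, -⟩ := idx_ok
  refine ⟨?_, ?_, ?_, ?_, ?_, ?_⟩
  · rw [dEl, h1]
  · rw [dEl, h2]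
  · rw [dEl, h3]
  · rw [dEl, h4]
  · exact (eq_iff (dW_spec (by norm_num)).2.1 okW_one.1).1 h5
  · exact (eq_iff (dW_spec (by norm_num)).2.1 okW_one.2).1 h6

variable {G : Type*} [Group G] {t : G} {S : Emb0 t} {X : G} {im : Nat → Nat}

/-- `X` exchanges `t` and the image of `f`. -/
structure IsSwap (S : Emb0 t) (X : G) : Prop where
  fwd : X * t * X⁻¹ = S.E onF
  bwd : X * S.E onF * X⁻¹ = t

/-- `X` acts on the letters by `im`. -/
structure Sw (S : Emb0 t) (X : G) (im : Nat → Nat) : Prop extends IsSwap S X where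
  lt : ∀ l, isD l = true → im l < 256
  act : ∀ l, isD l = true → X * S.E (el [l]) * X⁻¹ = S.E (dEl (im l))

theorem Sw.sub (h : Sw S X im) : ∀ w : List Nat, w.all isD = true →
    subD im w < 256 ∧ X * S.E (el w) * X⁻¹ = S.E (dEl (subD im w)) := by
  intro w
  induction w using List.reverseRecOn with
  | nil =>
    intro _
    refine ⟨by show (0 : Nat) < 256; norm_num, ?_⟩
    show _ = S.E (dEl 0)
    rw [el_nil, dEl_zero, S.map_one, mul_one, mul_inv_cancel]
  | append_singleton p l ih =>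
    intro hw
    simp only [List.all_append, List.all_cons, List.all_nil, Bool.and_true, Bool.and_eq_true] at hw
    obtain ⟨h1, h2⟩ := ih hw.1
    obtain ⟨h3, h4⟩ := mulD_spec h1 (h.lt l hw.2)
    have e : subD im (p ++ [l]) = mulD (subD im p) (im l) := by simp [subD, List.foldl_append]
    refine ⟨e ▸ h3, ?_⟩
    rw [e, h4, S.mul (dEl_mem h1) (dEl_mem (h.lt l hw.2)), ← h2, ← h.act l hw.2, el_append,
      S.mul (el_mem_C0 (isC_of_isD hw.1)) (el_mem_C0 (isC_of_isD (by simp [hw.2])))]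
    group

theorem Sw.apply (h : Sw S X im) {i : Nat} (hi : i < 256) :
    fA im i < 256 ∧ X * S.E (dEl i) * X⁻¹ = S.E (dEl (fA im i)) :=
  h.sub (dW i) (dW_spec hi).1

theorem Sw.fA_eq (h : Sw S X im) {i j : Nat} (hi : i < 256) (hj : j < 256)
    (e : X * S.E (dEl i) * X⁻¹ = S.E (dEl j)) : fA im i = j :=
  dEl_inj (h.apply hi).1 hj
    (S.inj (dEl_mem (h.apply hi).1) (dEl_mem hj) ((h.apply hi).2.symm.trans e))

theorem Sw.fA_swap (h : Sw S X im) : fA im 240 = 241 ∧ fA im 241 = 240 ∧ fA im 13 = 13 := by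
  obtain ⟨-, -, -, -, hA, hF⟩ := dEl_letters
  obtain ⟨-, -, -, -, -, -, h13, h13'⟩ := idx_ok
  refine ⟨h.fA_eq (by norm_num) (by norm_num) ?_, h.fA_eq (by norm_num) (by norm_num) ?_,
    h.fA_eq (by norm_num) (by norm_num) ?_⟩
  · rw [hA, hF, S.map_a, h.fwd]
  · rw [hA, hF, S.map_a, h.bwd]
  · conv_lhs => rw [← h13, (mulD_spec (by norm_num) (by norm_num)).2,
      S.mul (dEl_mem (by norm_num)) (dEl_mem (by norm_num)), hA, hF, S.map_a]
    conv_rhs => rw [← h13', (mulD_spec (by norm_num) (by norm_num)).2,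
      S.mul (dEl_mem (by norm_num)) (dEl_mem (by norm_num)), hA, hF, S.map_a]
    rw [show X * (t * S.E onF) * X⁻¹ = X * t * X⁻¹ * (X * S.E onF * X⁻¹) by group, h.fwd, h.bwd]

theorem conj_comm {H : Type*} [Group H] {Y u v w : H} (c : u * v = v * u) (e : Y * v * Y⁻¹ = w) :
    Y * u * Y⁻¹ * w = w * (Y * u * Y⁻¹) := by
  subst e
  rw [show Y * u * Y⁻¹ * (Y * v * Y⁻¹) = Y * (u * v) * Y⁻¹ by group, c]
  group

theorem IsSwap.exists_im (h : IsSwap S X) : ∃ x y z, Sw S X (imF x y z) := by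
  have key : ∀ {u : Spor.ON}, u ∈ C0 → u * onF = onF * u →
      ∃ i, i < 256 ∧ S.E (dEl i) = X * S.E u * X⁻¹ := fun {u} hu hf =>
    S.mem_D (conj_comm ((S.comm_iff hu onF_mem).2 hf) h.bwd) (conj_comm (S.commute hu) h.fwd)
  obtain ⟨e1, e2, e3, e4, -, -⟩ := dEl_letters
  obtain ⟨x, hx, ex⟩ := key (u := el [3]) (el_mem_C0 (by decide))
    (e1 ▸ (dEl_comm (by norm_num)).2)
  obtain ⟨y, hy, ey⟩ := key (u := el [4]) (el_mem_C0 (by decide))
    (e2 ▸ (dEl_comm (by norm_num)).2)
  obtain ⟨z, hz, ez⟩ := key (u := el [0]) (el_mem_C0 (by decide))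
    (e3 ▸ (dEl_comm (by norm_num)).2)
  refine ⟨x, y, z, { toIsSwap := h, lt := ?_, act := ?_ }⟩
  · intro l hl
    rcases letter_mem hl with rfl | rfl | rfl | rfl
    exacts [hx, hy, hz, (invD_spec hz).1]
  · intro l hl
    rcases letter_mem hl with rfl | rfl | rfl | rfl
    · exact ex.symm
    · exact ey.symm
    · exact ez.symm
    · show _ = S.E (dEl (invD z))
      rw [el_seven, (invD_spec hz).2, S.map_inv (el_mem_C0 (by decide)), S.map_inv (dEl_mem hz), ez]
      group

theorem conj_step {Y Z : G} {i j k : Nat} (h1 : Z * S.E (dEl i) * Z⁻¹ = S.E (dEl j))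
    (h2 : Y * S.E (dEl j) * Y⁻¹ = S.E (dEl k)) :
    Y * Z * S.E (dEl i) * (Y * Z)⁻¹ = S.E (dEl k) := by
  rw [← h2, ← h1]; group

theorem conj_eq_iff_comm {Y Z : G} (h : Y * Z * Y⁻¹ = Z) : Y * Z = Z * Y := mul_inv_eq_iff_eq_mul.1 h

theorem inner_of_fix {Y : G} {F : Nat → Nat} (hF : ∀ i, i < 256 → F i < 256 ∧
    Y * S.E (dEl i) * Y⁻¹ = S.E (dEl (F i))) (h240 : F 240 = 240) (h241 : F 241 = 241) :
    innOK F = true := by
  obtain ⟨-, -, -, -, hA, hB⟩ := dEl_letters
  have c1 := (hF 240 (by norm_num)).2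
  have c2 := (hF 241 (by norm_num)).2
  rw [h240, hA, S.map_a] at c1
  rw [h241, hB] at c2
  obtain ⟨d, hd, rfl⟩ := S.mem_D (conj_eq_iff_comm c1) (conj_eq_iff_comm c2)
  have e : ∀ i, i < 256 → F i = conjD d i := fun i hi => by
    obtain ⟨h1, h2⟩ := hF i hi
    obtain ⟨h3, h4⟩ := conjD_spec hd hi
    refine dEl_inj h1 h3 (S.inj (dEl_mem h1) (dEl_mem h3) ?_)
    rw [← h2, h4, S.conj (dEl_mem hd) (dEl_mem hi)]
  rw [innOK, e 1 (by norm_num), e 2 (by norm_num), e 3 (by norm_num)]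
  exact (allFrom_iff _ _ _).1 inn_ok d (Nat.zero_le _) (by omega)

theorem Sw.sq_inner (h : Sw S X im) : innOK (fun i => fA im (fA im i)) = true := by
  obtain ⟨e1, e2, -⟩ := h.fA_swap
  refine inner_of_fix (S := S) (Y := X * X) (fun i hi => ?_) (by simp [e1, e2]) (by simp [e1, e2])
  obtain ⟨a1, a2⟩ := h.apply hi
  obtain ⟨b1, b2⟩ := h.apply a1
  exact ⟨b1, conj_step a2 b2⟩

theorem fK_spec {i : Nat} (hi : i < 256) : fK i < 256 ∧
    S.E (el kSwap) * S.E (dEl i) * (S.E (el kSwap))⁻¹ = S.E (dEl (fK i)) := by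
  have hk := k_ok.1
  have hl : ∀ l, isD l = true → (ckW l).all isD = true ∧
      el kSwap * el [l] * (el kSwap)⁻¹ = el (ckW l) := fun l hl => by
    have hm : l ∈ [3, 4, 0, 7] := by
      rcases letter_mem hl with rfl | rfl | rfl | rfl <;> decide
    have h' := List.all_eq_true.1 hk l hm
    simp only [Bool.and_eq_true] at h'
    refine ⟨h'.1, ?_⟩
    have e := (eq_iff (okW_append (by decide) (okW_of_isD (by simp [hl])))
      (okW_append (okW_of_isD h'.1) (by decide))).1 h'.2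
    rw [el_append, el_append] at e
    rw [e, mul_inv_cancel_right]
  have hw := (dW_spec hi).1
  have hall : ((dW i).flatMap ckW).all isD = true := by
    rw [List.all_flatMap, List.all_eq_true]
    exact fun l hl' => (hl l (List.all_eq_true.1 hw l hl')).1
  obtain ⟨h1, h2⟩ := evD_zero hall
  refine ⟨h1, ?_⟩
  rw [fK, h2, ← map_el (MulAut.conj (el kSwap)).toMonoidHom ckW (dW i) fun l hl' =>
      (MulAut.conj_apply _ _).trans (hl l (List.all_eq_true.1 hw l hl')).2]
  exact (S.conj (el_mem_C0 (by decide)) (dEl_mem hi)).symm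

theorem Sw.cube_inner (h : Sw S X im) :
    innOK (fun i => fA im (fK (fA im (fK (fA im (fK i)))))) = true := by
  obtain ⟨e1, e2, e3⟩ := h.fA_swap
  obtain ⟨-, k1, k2, k3⟩ := k_ok
  refine inner_of_fix (S := S)
    (Y := X * (S.E (el kSwap) * (X * (S.E (el kSwap) * (X * S.E (el kSwap))))))
    (fun i hi => ?_) (by simp [e1, e2, e3, k1, k2, k3]) (by simp [e1, e2, e3, k1, k2, k3])
  obtain ⟨a1, a2⟩ := fK_spec (S := S) hi
  obtain ⟨b1, b2⟩ := h.apply a1
  obtain ⟨c1, c2⟩ := fK_spec (S := S) b1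
  obtain ⟨d1, d2⟩ := h.apply c1
  obtain ⟨g1, g2⟩ := fK_spec (S := S) d1
  obtain ⟨i1, i2⟩ := h.apply g1
  exact ⟨i1, conj_step (conj_step (conj_step (conj_step (conj_step a2 b2) c2) d2) g2) i2⟩

theorem rLook_spec {i : Nat} (h : rLook i < 256) :
    i < 256 ∧ el rWord * dEl i * (el rWord)⁻¹ = dEl (rLook i) := by
  suffices ∀ (l : List (Nat × Nat)) (acc : Nat), (∀ e ∈ l, e ∈ rMap) →
      l.foldl (fun acc e => bif Nat.beq e.1 i then e.2 else acc) acc = acc ∨
        (i, l.foldl (fun acc e => bif Nat.beq e.1 i then e.2 else acc) acc) ∈ rMap by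
    rcases this rMap 256 (fun e he => he) with e | e
    · rw [show rLook i = 256 from e] at h; omega
    · have h' := List.all_eq_true.1 r_ok _ e
      simp only [Bool.and_eq_true] at h'
      obtain ⟨h1, h2, h3⟩ := h'
      have hi := Nat.ble_eq.mp h1
      have e2 := (eq_iff (okW_append (by decide) (dW_spec hi).2.1)
        (okW_append (dW_spec (Nat.ble_eq.mp h2)).2.1 (by decide))).1 h3
      rw [el_append, el_append] at e2
      exact ⟨hi, mul_inv_eq_iff_eq_mul.2 e2⟩
  intro l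
  induction l with
  | nil => intro acc _; exact Or.inl rfl
  | cons p l ih =>
    intro acc hl
    rw [List.foldl_cons]
    cases hb : Nat.beq p.1 i with
    | false => exact ih acc fun e he => hl e (List.mem_cons_of_mem _ he)
    | true =>
      rcases ih p.2 (fun e he => hl e (List.mem_cons_of_mem _ he)) with e | e
      · exact Or.inr (by
          simp only [cond_true, e]
          rw [← Nat.eq_of_beq_eq_true hb]
          exact hl p List.mem_cons_self)
      · exact Or.inr e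

theorem Sw.stW_spec (h : Sw S X im) {y i : Nat} (hy : y < 256) (hs : stW im y i < 256) :
    i < 256 ∧ S.E (el rWord) * (S.E (dEl y) * X) * S.E (dEl i) *
      (S.E (el rWord) * (S.E (dEl y) * X))⁻¹ = S.E (dEl (stW im y i)) := by
  cases hb : Nat.blt i 256 with
  | false => simp [stW, hb] at hs
  | true =>
    have hi : i < 256 := Nat.ble_eq.mp hb
    simp only [stW, hb, cond_true] at hs ⊢
    obtain ⟨a1, a2⟩ := h.apply hi
    obtain ⟨b1, b2⟩ := conjD_spec hy a1
    obtain ⟨c1, c2⟩ := rLook_spec hs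
    refine ⟨hi, conj_step (j := conjD y (fA im i)) (conj_step (j := fA im i) a2 ?_) ?_⟩
    · rw [b2, S.conj (dEl_mem hy) (dEl_mem a1)]
    · rw [← c2, S.conj (el_mem_C0 (by decide)) (dEl_mem b1)]

theorem Sw.not_wBad (h : Sw S X im) {y : Nat} (hy : y < 256) : wBad im y = false := by
  rw [Bool.eq_false_iff]
  intro hb
  simp only [wBad, Bool.and_eq_true, Nat.beq_eq, List.any_eq_true, Bool.not_eq_true'] at hb
  obtain ⟨hA, hF, hZ, w, hw, hlt, hne⟩ := hb
  set R := S.E (el rWord) * (S.E (dEl y) * X)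
  have key : ∀ i, it3 im y i < 256 →
      i < 256 ∧ R * (R * R) * S.E (dEl i) * (R * (R * R))⁻¹ = S.E (dEl (it3 im y i)) := fun i hi => by
    obtain ⟨a1, a2⟩ := h.stW_spec hy hi
    obtain ⟨b1, b2⟩ := h.stW_spec hy a1
    obtain ⟨c1, c2⟩ := h.stW_spec hy b1
    exact ⟨c1, conj_step (conj_step c2 b2) a2⟩
  obtain ⟨-, -, -, -, eA, eF⟩ := dEl_letters
  have c1 := (key 240 (by rw [hA]; norm_num)).2
  have c2 := (key 241 (by rw [hF]; norm_num)).2
  have c3 := (key 171 (by rw [hZ]; norm_num)).2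
  rw [hA, eA, S.map_a] at c1
  rw [hF, eF] at c2
  rw [hZ] at c3
  obtain ⟨d, hd, hdY⟩ := S.mem_D (conj_eq_iff_comm c1) (conj_eq_iff_comm c2)
  have hcz : mulD d 171 = mulD 171 d := by
    obtain ⟨p1, p2⟩ := mulD_spec hd (show 171 < 256 by norm_num)
    obtain ⟨q1, q2⟩ := mulD_spec (show 171 < 256 by norm_num) hd
    refine dEl_inj p1 q1 ?_
    rw [p2, q2]
    exact (S.comm_iff (dEl_mem hd) (dEl_mem (by norm_num))).1 (by rw [hdY]; exact conj_eq_iff_comm c3)
  have hw' := (allFrom_iff _ _ _).1 w_comm_ok d (Nat.zero_le _) (by omega)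
  simp only [Nat.beq_eq.mpr hcz, Bool.not_true, Bool.false_or, List.all_eq_true, Bool.and_eq_true,
    Nat.beq_eq] at hw'
  obtain ⟨hw1, hw2⟩ := hw' w hw
  have hwlt : w < 256 := Nat.ble_eq.mp hw1
  have hlt' : it3 im y w < 256 := Nat.ble_eq.mp hlt
  have hcom : dEl d * dEl w = dEl w * dEl d := by
    rw [← (mulD_spec hd hwlt).2, ← (mulD_spec hwlt hd).2, hw2]
  refine (Nat.ne_of_beq_eq_false hne) (dEl_inj hlt' hwlt (S.inj (dEl_mem hlt') (dEl_mem hwlt) ?_))
  rw [← (key w hlt').2, ← hdY, (S.comm_iff (dEl_mem hd) (dEl_mem hwlt)).2 hcom, mul_inv_cancel_right]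

theorem Sw.sub_congr (h : Sw S X im) {u v : List Nat} (hu : u.all isD = true) (hv : v.all isD = true)
    (h0 : evD 0 u = evD 0 v) : subD im u = subD im v := by
  obtain ⟨h1, h2⟩ := h.sub u hu
  obtain ⟨h3, h4⟩ := h.sub v hv
  have e : el u = el v := by rw [← (evD_zero hu).2, ← (evD_zero hv).2, h0]
  rw [e, h4] at h2
  exact dEl_inj h1 h3 (S.inj (dEl_mem h1) (dEl_mem h3) h2.symm)

theorem Sw.sub_rel (h : Sw S X im) {w : List Nat} (hw : w.all isD = true) (h0 : evD 0 w = 0) :
    subD im w = 0 :=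
  h.sub_congr hw (v := []) rfl h0

theorem mulD_zero {i : Nat} (hi : i < 256) : mulD 0 i = i := by
  obtain ⟨h1, h2⟩ := mulD_spec (show 0 < 256 by norm_num) hi
  exact dEl_inj h1 hi (by rw [h2, dEl_zero, one_mul])

theorem Sw.letters (h : Sw S X im) {l : Nat} (hl : isD l = true) (w : List Nat) :
    subD im (l :: w) = w.foldl (fun p l => mulD p (im l)) (im l) := by
  rw [subD, List.foldl_cons, mulD_zero (h.lt l hl)]

theorem Sw.cand_true {x y z : Nat} (h : Sw S X (imF x y z)) : cand x y z = true := by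
  obtain ⟨e1, e2, -⟩ := h.fA_swap
  simp only [cand, e1, e2, h.sub_rel (w := [3, 7, 4, 7, 4, 3, 4, 0, 4, 0]) (by decide) (by decide +kernel),
    h.sub_rel (w := [4, 7, 3, 7, 3, 4, 3, 0, 3, 0]) (by decide) (by decide +kernel), h.sq_inner,
    h.cube_inner, h.not_wBad (show 1 < 256 by norm_num), h.not_wBad (show 2 < 256 by norm_num),
    Nat.beq_refl, Bool.not_false, Bool.and_self]

theorem Sw.left_mul {x y z : Nat} (h : Sw S X (imF x y z)) {d : Nat} (hd : d < 256) :
    Sw S (S.E (dEl d) * X) (imF (conjD d x) (conjD d y) (conjD d z)) := by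
  have hc := dEl_comm hd
  have h1 := S.commute (dEl_mem hd)
  have h2 := (S.comm_iff (dEl_mem hd) onF_mem).2 hc.2
  have hx : x < 256 := h.lt 3 rfl
  have hy : y < 256 := h.lt 4 rfl
  have hz : z < 256 := h.lt 0 rfl
  refine { fwd := ?_, bwd := ?_, lt := ?_, act := ?_ }
  · rw [show S.E (dEl d) * X * t * (S.E (dEl d) * X)⁻¹ = S.E (dEl d) * (X * t * X⁻¹) * (S.E (dEl d))⁻¹
      by group, h.fwd, h2, mul_inv_cancel_right]
  · rw [show S.E (dEl d) * X * S.E onF * (S.E (dEl d) * X)⁻¹ =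
      S.E (dEl d) * (X * S.E onF * X⁻¹) * (S.E (dEl d))⁻¹ by group, h.bwd, h1, mul_inv_cancel_right]
  · intro l hl
    rcases letter_mem hl with rfl | rfl | rfl | rfl
    exacts [(conjD_spec hd hx).1, (conjD_spec hd hy).1, (conjD_spec hd hz).1,
      (invD_spec (conjD_spec hd hz).1).1]
  · intro l hl
    have key : ∀ i, i < 256 → S.E (dEl d) * S.E (dEl i) * (S.E (dEl d))⁻¹ = S.E (dEl (conjD d i)) :=
      fun i hi => by rw [(conjD_spec hd hi).2, S.conj (dEl_mem hd) (dEl_mem hi)]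
    rw [show S.E (dEl d) * X * S.E (el [l]) * (S.E (dEl d) * X)⁻¹ =
      S.E (dEl d) * (X * S.E (el [l]) * X⁻¹) * (S.E (dEl d))⁻¹ by group, h.act l hl]
    rcases letter_mem hl with rfl | rfl | rfl | rfl
    · exact key x hx
    · exact key y hy
    · exact key z hz
    · show S.E (dEl d) * S.E (dEl (invD z)) * _ = S.E (dEl (invD (conjD d z)))
      rw [(invD_spec hz).2, (invD_spec (conjD_spec hd hz).1).2, S.map_inv (dEl_mem hz),
        S.map_inv (dEl_mem (conjD_spec hd hz).1), ← key z hz]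
      group

/-- An element exchanging `t` and `f` can be chosen so that its action on `D` is one of two. -/
theorem IsSwap.normal_form (h : IsSwap S X) :
    ∃ Y, Sw S Y (imF 2 1 3) ∨ Sw S Y (imF 2 1 99) := by
  obtain ⟨x, y, z, h⟩ := h.exists_im
  have hxx : mulD x x = 0 :=
    (h.letters (l := 3) rfl [3]).symm.trans (h.sub_rel (by decide) (by decide +kernel))
  have hx0 : x ≠ 0 := fun e => by
    have e1 := h.act 3 rfl
    rw [show imF x y z 3 = x from rfl, e, dEl_zero, S.map_one, conj_eq_one_iff, ← S.map_one] at e1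
    have e2 := S.inj (el_mem_C0 (by decide)) (one_mem _) e1
    rw [← el_nil] at e2
    exact el_ne (by decide +kernel) (by decide) (by decide) e2
  have hX := (allFrom_iff _ _ _).1 x_ok x (Nat.zero_le _) (by have : x < 256 := h.lt 3 rfl; omega)
  simp only [checkX, Nat.beq_eq.mpr hxx, Bool.not_true, Bool.false_or, Bool.or_eq_true, Nat.beq_eq,
    List.any_eq_true, Bool.and_eq_true] at hX
  obtain ⟨e, -, he1, hd, hm⟩ := hX.resolve_left hx0
  replace h := h.left_mul (Nat.ble_eq.mp hd)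
  rw [← he1] at h hm
  clear he1 hxx hx0 hX
  revert hm h
  generalize conjD e.2 e.1 = x, conjD e.2 y = y, conjD e.2 z = z
  intro hm h
  have hy2 : mulD y y = 0 :=
    (h.letters (l := 4) rfl [4]).symm.trans (h.sub_rel (by decide) (by decide +kernel))
  have hxy : mulD (mulD (mulD (mulD (mulD (mulD (mulD x y) x) y) x) y) x) y = 13 :=
    ((h.letters (l := 3) rfl [4, 3, 4, 3, 4, 3, 4]).symm.trans
      (h.sub_congr (by decide) (dW_spec (p := 13) (by norm_num)).1 (by decide +kernel))).trans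
      h.fA_swap.2.2
  have hY := (allFrom_iff _ _ _).1 (List.all_eq_true.1 y_ok x (memN_iff.1 hm)) y (Nat.zero_le _)
    (by have : y < 256 := h.lt 4 rfl; omega)
  simp only [checkY, Nat.beq_eq.mpr hy2, Nat.beq_eq.mpr hxy, Bool.and_self, Bool.not_true,
    Bool.false_or, List.any_eq_true, Bool.and_eq_true, Nat.beq_eq] at hY
  obtain ⟨c, -, -, -, hc, hcx, p, hp, hpx, hpy⟩ := hY
  replace h := h.left_mul (Nat.ble_eq.mp hc)
  rw [hcx, ← hpy, ← hpx] at h
  revert h
  generalize conjD c.2.2 z = z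
  intro h
  have hzz : mulD z z = 13 :=
    ((h.letters (l := 0) rfl [0]).symm.trans
      (h.sub_congr (by decide) (dW_spec (p := 13) (by norm_num)).1 (by decide +kernel))).trans
      h.fA_swap.2.2
  have hZ := (allFrom_iff _ _ _).1 z_ok z (Nat.zero_le _) (by have : z < 256 := h.lt 0 rfl; omega)
  simp only [Nat.beq_eq.mpr hzz, Bool.not_true, Bool.false_or, memN_iff] at hZ
  have hF := List.all_eq_true.1 (List.all_eq_true.1 final_ok p hp) z hZ
  simp only [h.cand_true, Bool.not_true, Bool.false_or, Bool.and_eq_true, Bool.or_eq_true,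
    Nat.beq_eq] at hF
  obtain ⟨e1, e2, e3⟩ := hF
  rw [e1, e2] at h
  rcases e3 with rfl | rfl
  · exact ⟨_, Or.inl h⟩
  · exact ⟨_, Or.inr h⟩

theorem psi_word : ∀ {w : List Nat}, w.all isD = true →
    (w.flatMap psiL).all isD = true ∧ psi (el w) = el (w.flatMap psiL) := by
  have hl : ∀ l, isD l = true → (psiL l).all isD = true ∧ psi (el [l]) = el (psiL l) := by
    have hz : eqW [0, 3, 7, 3, 7] [7, 3, 0, 3, 7] = true := by decide +kernel
    have ne : ∀ l, okW [l] = true → com [l] [3, 0, 3, 7] = false →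
        psi (el [l]) = el ([l] ++ [3, 0, 3, 7]) := fun l hl hc => by
      rw [psi, if_neg, el_append]
      intro e
      rw [(com_iff hl (by decide)).2 e] at hc
      cases hc
    intro l hl'
    rcases letter_mem hl' with rfl | rfl | rfl | rfl
    · exact ⟨by decide, ne 3 (by decide) (by decide +kernel)⟩
    · exact ⟨by decide, if_pos ((com_iff (by decide) (by decide)).1 (by decide +kernel))⟩
    · exact ⟨by decide, ne 0 (by decide) (by decide +kernel)⟩
    · exact ⟨by decide, (ne 7 (by decide) (by decide +kernel)).trans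
        ((eq_iff (by decide) (by decide)).1 hz).symm⟩
  intro w
  induction w with
  | nil =>
    intro _
    exact ⟨rfl, by rw [List.flatMap_nil, el_nil]; exact if_pos (by rw [one_mul, mul_one])⟩
  | cons x t ih =>
    intro h
    simp only [List.all_cons, Bool.and_eq_true] at h
    obtain ⟨h1, h2⟩ := ih h.2
    refine ⟨by rw [List.flatMap_cons, List.all_append, (hl x h.1).1, h1]; rfl, ?_⟩
    rw [List.flatMap_cons, el_append, ← h2, ← (hl x h.1).2, show el (x :: t) = el [x] * el t from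
      el_append [x] t, psi_mul (el_mem_C0 (isC_of_isD (by simp [h.1]))) (el_mem_C0 (isC_of_isD h.2))]

theorem pMap_spec {i : Nat} (hi : i < 256) : pMap i < 256 ∧ dEl (pMap i) = psi (dEl i) := by
  obtain ⟨h1, h2⟩ := psi_word (dW_spec hi).1
  obtain ⟨h3, h4⟩ := evD_zero h1
  exact ⟨h3, h4.trans h2.symm⟩

/-- `X` exchanges `t` and `f` and reverses the path on `D`. -/
structure RevSwap (S : Emb0 t) (X : G) : Prop extends IsSwap S X where
  act : ∀ l, l ∈ [3, 4, 0] → X * S.E (el [l]) * X⁻¹ = S.E (el [revL l])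

/-- After twisting the identification some element exchanges `t` and `f` reversing the path on `D`. -/
theorem IsSwap.exists_rev (h : IsSwap S X) : ∃ (S' : Emb0 t) (Y : G), RevSwap S' Y := by
  obtain ⟨e1, e2, e3, -, -, -⟩ := dEl_letters
  obtain ⟨Y, h | h⟩ := h.normal_form
  · refine ⟨S, Y, { toIsSwap := h.toIsSwap, act := ?_ }⟩
    intro l hl
    simp only [List.mem_cons, List.not_mem_nil, or_false] at hl
    rcases hl with rfl | rfl | rfl
    exacts [(h.act 3 rfl).trans (congrArg S.E e2), (h.act 4 rfl).trans (congrArg S.E e1),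
      (h.act 0 rfl).trans (congrArg S.E e3)]
  · obtain ⟨t1, t2, t3⟩ := twist_ok
    have h99 : (99 : Nat) < 256 := by norm_num
    have hm := psi_mem (dEl_mem h99)
    have hE : S.twist.E onF = S.E onF := congrArg S.E psi_onF
    have c1 : S.twist.E (dEl 99) * t = t * S.twist.E (dEl 99) := S.twist.commute (dEl_mem h99)
    have c2 : S.twist.E (dEl 99) * S.E onF = S.E onF * S.twist.E (dEl 99) :=
      hE ▸ (S.twist.comm_iff (dEl_mem h99) onF_mem).2 (dEl_comm h99).2
    refine ⟨S.twist, (S.twist.E (dEl 99))⁻¹ * Y, { fwd := ?_, bwd := ?_, act := ?_ }⟩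
    · rw [hE, show (S.twist.E (dEl 99))⁻¹ * Y * t * ((S.twist.E (dEl 99))⁻¹ * Y)⁻¹ =
        (S.twist.E (dEl 99))⁻¹ * (Y * t * Y⁻¹) * S.twist.E (dEl 99) by group, h.fwd, mul_assoc, ← c2,
        inv_mul_cancel_left]
    · rw [hE, show (S.twist.E (dEl 99))⁻¹ * Y * S.E onF * ((S.twist.E (dEl 99))⁻¹ * Y)⁻¹ =
        (S.twist.E (dEl 99))⁻¹ * (Y * S.E onF * Y⁻¹) * S.twist.E (dEl 99) by group, h.bwd, mul_assoc,
        ← c1, inv_mul_cancel_left]
    · have key : ∀ i j, i < 256 → j < 256 → fA (imF 2 1 99) (pMap i) = pMap (conjD 99 j) →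
          (S.twist.E (dEl 99))⁻¹ * Y * S.twist.E (dEl i) * ((S.twist.E (dEl 99))⁻¹ * Y)⁻¹ =
            S.twist.E (dEl j) := fun i j hi hj he => by
        obtain ⟨q1, q2⟩ := conjD_spec h99 hj
        have e : Y * S.twist.E (dEl i) * Y⁻¹ = S.twist.E (dEl (conjD 99 j)) := by
          show Y * S.E (psi (dEl i)) * Y⁻¹ = S.E (psi (dEl (conjD 99 j)))
          rw [← (pMap_spec hi).2, ← (pMap_spec q1).2, (h.apply (pMap_spec hi).1).2, he]
        rw [q2, S.twist.conj (dEl_mem h99) (dEl_mem hj)] at e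
        rw [show (S.twist.E (dEl 99))⁻¹ * Y * S.twist.E (dEl i) * ((S.twist.E (dEl 99))⁻¹ * Y)⁻¹ =
          (S.twist.E (dEl 99))⁻¹ * (Y * S.twist.E (dEl i) * Y⁻¹) * S.twist.E (dEl 99) by group, e]
        group
      intro l hl
      simp only [List.mem_cons, List.not_mem_nil, or_false] at hl
      rcases hl with rfl | rfl | rfl
      · rw [← e1]; exact (key 1 2 (by norm_num) (by norm_num) t1).trans (congrArg _ e2)
      · rw [← e2]; exact (key 2 1 (by norm_num) (by norm_num) t2).trans (congrArg _ e1)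
      · rw [← e3]; exact (key 3 3 (by norm_num) (by norm_num) t3).trans (congrArg _ e3)

end Cfsg.Agent.ONUniq
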