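import Cfsg.Agent.ONOut.Classes

/-!
The interfaces of the recognition of O'Nan's group by the centraliser of an involution.
-/

set_option autoImplicit false

namespace Cfsg.Agent.ONUniq

open Cfsg Cfsg.Agent.ONOut

/-- The marked involution `a` of the presented group. -/
noncomputable abbrev onA : Spor.ON := el [1]

/-- The second marked involution `f`: it commutes with `a`. -/
noncomputable abbrev onF : Spor.ON := el [6]

/-- The centraliser of `a`. -/
noncomputable abbrev C0 : Subgroup Spor.ON := Subgroup.centralizer ({onA} : Set Spor.ON)

theorem onA_mem : onA ∈ C0 := Subgroup.mem_centralizer_singleton_iff.2 rfl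

theorem onF_mem : onF ∈ C0 :=
  Subgroup.mem_centralizer_singleton_iff.2
    ((com_iff (u := [6]) (v := [1]) (by decide +kernel) (by decide +kernel)).1 (by decide +kernel))

/-- What the identification of the centraliser and the fusion test hand over: the centraliser of `t`
is that of `a`, and some element exchanges `t` with the image of `f`. -/
structure CentData {G : Type*} [Group G] (t : G) where
  /-- the identification -/
  e : ↥C0 ≃* ↥(Subgroup.centralizer ({t} : Set G))
  map_a : (e ⟨onA, onA_mem⟩ : G) = t
  swap : ∃ g : G, g * t * g⁻¹ = (e ⟨onF, onF_mem⟩ : G) ∧ g * (e ⟨onF, onF_mem⟩ : G) * g⁻¹ = t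

/-- What the amalgam hands over to the endgame. -/
structure ModelMap {G : Type*} [Group G] (t : G) where
  /-- the map out of the presented group -/
  θ : Spor.ON →* G
  inj : Function.Injective θ
  map_a : θ onA = t
  cent_le : Subgroup.centralizer ({t} : Set G) ≤ θ.range

end Cfsg.Agent.ONUniq
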