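import Cfsg.Agent.ONUniq.DData
import Cfsg.Agent.ONUniq.Defs
import Cfsg.Agent.ONOut.Omega

/-!
The group `D` of order 256 centralising `a` and `f`, computed on indices.
-/

set_option autoImplicit false
set_option maxRecDepth 100000
set_option Elab.async false

namespace Cfsg.Agent.ONUniq

open Cfsg.Agent.ONOut Cfsg.Agent.CosetCert

/-- The position of a letter of `D`. -/
def liD (x : Nat) : Nat := if x = 3 then 0 else if x = 4 then 1 else if x = 0 then 2 else 3

/-- A letter of `D`. -/
def isD (x : Nat) : Bool := Nat.beq x 3 || Nat.beq x 4 || Nat.beq x 0 || Nat.beq x 7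

/-- Right multiplication by a letter. -/
def stepD (p x : Nat) : Nat := Nat.land (Nat.shiftRight tblD (8 * (4 * p + liD x))) 255

/-- The index reached by a word. -/
def evD (p : Nat) (w : List Nat) : Nat := w.foldl stepD p

/-- The word of an index. -/
def dW (i : Nat) : List Nat := dWords.getD i []

/-- The element of an index. -/
noncomputable def dEl (i : Nat) : Spor.ON := el (dW i)

/-- The product of two indices. -/
def mulD (i j : Nat) : Nat := evD i (dW j)

/-- The inverse of an index. -/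
def invD (i : Nat) : Nat := evD 0 (invWord (dW i))

/-- The conjugate `h i h⁻¹`. -/
def conjD (h i : Nat) : Nat := evD 0 (dW h ++ dW i ++ invWord (dW h))

theorem step_ok : allFrom (fun p => [3, 4, 0, 7].all fun x =>
    Nat.blt (stepD p x) 256 && Nat.beq (kW (dW p ++ [x])) (kW (dW (stepD p x)))) 0 256 = true := by
  decide +kernel

theorem dW_ok : allFrom (fun p => (dW p).all isD && (okW (dW p) && (com (dW p) [1] && com (dW p) [6])))
    0 256 = true := by decide +kernel

theorem dW_nodup : ((List.range 256).map fun i => kW (dW i)).Nodup := by decide +kernel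

theorem caf_ok : (cafWords.zip cafIdx).all (fun e =>
    Nat.blt e.2 256 && Nat.beq (kW e.1) (kW (dW e.2))) = true ∧
    cafIdx.length = cafWords.length := by
  constructor <;> decide +kernel

theorem inv_ok : allFrom (fun i => (invWord (dW i)).all isD &&
    Nat.beq (evD i (invWord (dW i))) 0) 0 256 = true := by decide +kernel

theorem okW_of_isD {w : List Nat} (h : w.all isD = true) : okW w = true := by
  rw [okW, List.all_eq_true]
  intro x hx
  have h' := List.all_eq_true.1 h x hx
  simp only [isD, Bool.or_eq_true, Nat.beq_eq] at h'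
  rcases h' with ((rfl | rfl) | rfl) | rfl <;> rfl

theorem dW_spec {p : Nat} (hp : p < 256) :
    (dW p).all isD = true ∧ okW (dW p) = true ∧ com (dW p) [1] = true ∧ com (dW p) [6] = true := by
  have h := (allFrom_iff _ _ _).1 dW_ok p (Nat.zero_le _) (by omega)
  simp only [Bool.and_eq_true] at h
  exact ⟨h.1, h.2.1, h.2.2.1, h.2.2.2⟩

theorem dEl_inj {i j : Nat} (hi : i < 256) (hj : j < 256) (h : dEl i = dEl j) : i = j := by
  have hk : kW (dW i) = kW (dW j) := by
    rw [keyE_el (dW_spec hi).2.1, keyE_el (dW_spec hj).2.1]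
    exact congrArg keyE h
  refine (List.Nodup.getElem_inj_iff dW_nodup (hi := by simpa using hi) (hj := by simpa using hj)).1 ?_
  simpa using hk

theorem dEl_zero : dEl 0 = 1 := by
  rw [dEl, show dW 0 = [] by rfl, el_nil]

theorem stepD_spec {p x : Nat} (hp : p < 256) (hx : isD x = true) :
    stepD p x < 256 ∧ dEl (stepD p x) = dEl p * el [x] := by
  have h := (allFrom_iff _ _ _).1 step_ok p (Nat.zero_le _) (by omega)
  have hm : x ∈ [3, 4, 0, 7] := by
    simp only [isD, Bool.or_eq_true, Nat.beq_eq] at hx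
    simp only [List.mem_cons, List.not_mem_nil, or_false]
    tauto
  have h' := List.all_eq_true.1 h x hm
  simp only [Bool.and_eq_true, Nat.beq_eq] at h'
  obtain ⟨hlt, hk⟩ := h'
  have hlt' : stepD p x < 256 := Nat.ble_eq.mp hlt
  refine ⟨hlt', keyE_inj ?_⟩
  have hok : okW (dW p ++ [x]) = true :=
    okW_append (dW_spec hp).2.1 (okW_of_isD (by simp [hx]))
  rw [dEl, ← keyE_el (dW_spec hlt').2.1, ← hk, keyE_el hok, el_append]
  rfl

theorem evD_spec : ∀ {w : List Nat} {p : Nat}, p < 256 → w.all isD = true →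
    evD p w < 256 ∧ dEl (evD p w) = dEl p * el w := by
  intro w
  induction w with
  | nil => intro p hp _; exact ⟨hp, by rw [el_nil, mul_one]; rfl⟩
  | cons x t ih =>
    intro p hp h
    simp only [List.all_cons, Bool.and_eq_true] at h
    obtain ⟨h1, h2⟩ := stepD_spec hp h.1
    obtain ⟨h3, h4⟩ := ih h1 h.2
    refine ⟨h3, ?_⟩
    show dEl (evD (stepD p x) t) = _
    rw [h4, h2, mul_assoc, ← el_append]
    rfl

theorem evD_zero {w : List Nat} (h : w.all isD = true) : evD 0 w < 256 ∧ dEl (evD 0 w) = el w := by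
  obtain ⟨h1, h2⟩ := evD_spec (p := 0) (by norm_num) h
  exact ⟨h1, by rw [h2, dEl_zero, one_mul]⟩

theorem mulD_spec {i j : Nat} (hi : i < 256) (hj : j < 256) :
    mulD i j < 256 ∧ dEl (mulD i j) = dEl i * dEl j :=
  evD_spec hi (dW_spec hj).1

theorem invW_spec {i : Nat} (hi : i < 256) :
    (invWord (dW i)).all isD = true ∧ el (invWord (dW i)) = (dEl i)⁻¹ := by
  have h := (allFrom_iff _ _ _).1 inv_ok i (Nat.zero_le _) (by omega)
  simp only [Bool.and_eq_true, Nat.beq_eq] at h
  refine ⟨h.1, eq_inv_of_mul_eq_one_right ?_⟩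
  rw [← (evD_spec hi h.1).2, h.2, dEl_zero]

theorem invD_spec {i : Nat} (hi : i < 256) : invD i < 256 ∧ dEl (invD i) = (dEl i)⁻¹ := by
  obtain ⟨h1, h2⟩ := invW_spec hi
  obtain ⟨h3, h4⟩ := evD_zero h1
  exact ⟨h3, h4.trans h2⟩

theorem conjD_spec {h i : Nat} (hh : h < 256) (hi : i < 256) :
    conjD h i < 256 ∧ dEl (conjD h i) = dEl h * dEl i * (dEl h)⁻¹ := by
  have hw : (dW h ++ dW i ++ invWord (dW h)).all isD = true := by
    simp only [List.all_append, Bool.and_eq_true]
    exact ⟨⟨(dW_spec hh).1, (dW_spec hi).1⟩, (invW_spec hh).1⟩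
  obtain ⟨h1, h2⟩ := evD_zero hw
  exact ⟨h1, h2.trans (by rw [el_append, el_append, (invW_spec hh).2]; rfl)⟩

theorem dEl_comm {i : Nat} (hi : i < 256) :
    dEl i * onA = onA * dEl i ∧ dEl i * onF = onF * dEl i :=
  ⟨(com_iff (dW_spec hi).2.1 okW_one.1).1 (dW_spec hi).2.2.1,
    (com_iff (dW_spec hi).2.1 okW_one.2).1 (dW_spec hi).2.2.2⟩

theorem dEl_mem {i : Nat} (hi : i < 256) : dEl i ∈ C0 :=
  Subgroup.mem_centralizer_singleton_iff.2 (dEl_comm hi).1

/-- The elements commuting with `a` and `f` are listed. -/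
theorem mem_D {g : Spor.ON} (ha : g * onA = onA * g) (hf : g * onF = onF * g) :
    ∃ i, i < 256 ∧ dEl i = g := by
  obtain ⟨w, hw, rfl⟩ := mem_cafWords ha hf
  obtain ⟨j, hj, rfl⟩ := List.getElem_of_mem hw
  have hj' : j < cafIdx.length := caf_ok.2 ▸ hj
  have h := List.all_eq_true.1 caf_ok.1 (cafWords[j], cafIdx[j])
    (List.mem_iff_getElem.2 ⟨j, by simpa using ⟨hj, hj'⟩, List.getElem_zip⟩)
  simp only [Bool.and_eq_true, Nat.beq_eq] at h
  have hlt : cafIdx[j] < 256 := Nat.ble_eq.mp h.1
  refine ⟨cafIdx[j], hlt, keyE_inj ?_⟩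
  rw [dEl, ← keyE_el (dW_spec hlt).2.1, ← h.2]
  exact keyE_el (words ok_lists.2.2.2.2.1 hw)

end Cfsg.Agent.ONUniq
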