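import Cfsg.Agent.Compute.Perm

/-! The diagonal automorphism of PSL(3,4) on the 21 points and its words. -/

set_option autoImplicit false
set_option maxRecDepth 100000
set_option maxHeartbeats 0
set_option linter.all false

namespace Cfsg.Agent.ONUniq.DataL

open Cfsg.Agent.Compute

noncomputable section

def dperm : ℕ := 0x149ca3052568314e4735ec10460

def dwords : List (List (List ℕ)) := [[[4, 0, 1, 3, 1, 0, 2], [2, 3, 2, 4, 3, 2, 4, 0], [1, 4, 4, 3, 4, 1], [1, 0, 2, 1, 4, 0, 0], [2, 3, 4, 3, 4, 1, 4]], [[2, 4, 2, 3, 2, 0, 1], [3, 0, 4, 0, 0, 1, 0], [4, 3, 0, 2, 3, 2], [4, 1, 4, 2, 4, 1], [2, 1, 4, 3, 1, 0, 0]]]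

end

end Cfsg.Agent.ONUniq.DataL
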