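import Cfsg.Agent.ONUniq.Cand
import Cfsg.Agent.ONUniq.CertFus
import Cfsg.Agent.ONUniq.ChkVA
import Cfsg.Agent.ONUniq.ChkVB
import Cfsg.Agent.ONUniq.ChkA0
import Cfsg.Agent.ONUniq.ChkA1
import Cfsg.Agent.ONUniq.ChkA2
import Cfsg.Agent.ONUniq.ChkB0
import Cfsg.Agent.ONUniq.ChkB1
import Cfsg.Agent.ONUniq.ChkB2

/-!
The centraliser of the involution in a simple group of O'Nan type is one explicit extension, and
some element of the group exchanges its central involution with an inner one.
-/

set_option autoImplicit false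
set_option maxHeartbeats 1000000
set_option maxRecDepth 10000
set_option linter.style.haveILetI false

namespace Cfsg.Agent.ONUniq

open Cfsg.Agent Cfsg.Agent.Compute Subgroup

attribute [local irreducible] compCode idCode canonC powC SLMult.L34.codes SLMult.L34.centPairs
  DataL.dperm DataL.dwords DataA.chain DataA.gs DataA.gis DataA.zeta DataA.mask DataA.sig
  DataB.chain DataB.gs DataB.gis DataB.zeta DataB.mask DataB.sig

theorem kd_bases : ∀ b, (kd b).chain.map Level.base = [0, 4, 8] := by
  intro b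
  cases b
  · show DataA.chain.map Level.base = _
    unfold DataA.chain DataA.lev0 DataA.lev1 DataA.lev2
    rfl
  · show DataB.chain.map Level.base = _
    unfold DataB.chain DataB.lev0 DataB.lev1 DataB.lev2
    rfl

theorem good_of_cand {b : Bool} {a : Fin 3} {k : Fin 2} {D : ExtData (kd b).Mg}
    (h : IsCandData b a k D) : Good (kd b) D (mkCtx (kd b) a k) := by
  have hK := kd_checked b
  have hs := allBelow_eq_true.mp hK.sig a a.2
  simp only [sigB, Bool.and_eq_true, Nat.beq_eq] at hs
  obtain ⟨⟨⟨⟨⟨⟨h1, h2⟩, h3⟩, -⟩, -⟩, -⟩, -⟩ := hs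
  have o1 := rep224.okb_sound _ h1
  have o2 := rep224.okb_sound _ h2
  obtain ⟨hz, -, -, -⟩ := KData.zeta_spec hK
  have hk : cond (Nat.beq ((kd b).eps.getD a 0) 1) (k : ℕ) (Nat.mul 2 k) = kVal ((kd b).eps.getD a 0) k := by
    unfold kVal
    rcases eps_cases b a with he | he <;> rw [he] <;> rfl
  refine ⟨hK, kd_bases b, h.1, o1, o2, eq_inv_of_mul_eq_one_left ?_, ?_, ?_⟩
  · show rep224.den ((kd b).sig.getD a (0, 0)).2 * rep224.den ((kd b).sig.getD a (0, 0)).1 = 1
    rw [← rep224.den_mul _ _ o2 o1, rep224_mul, h3, ← rep224_one, rep224.den_one]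
  · exact (hz.pow _).1
  · show (kd b).el (powC (kd b).zeta (cond (Nat.beq ((kd b).eps.getD a 0) 1) (k : ℕ) (Nat.mul 2 k))) = _
    rw [hk, (hz.pow _).2, h.2]

/-- The twelve candidates but one are wrong. -/
theorem eq_good {b : Bool} {a : Fin 3} {k : Fin 2} {D : ExtData (kd b).Mg} (h : IsCandData b a k D)
    {G : Type*} [Group G] [Finite G] [IsSimpleGroup G] {t : G} (ht : orderOf t = 2)
    (e : Ext D ≃* centralizer ({t} : Set G)) (he : (e (tX D) : G) = t) : b = false ∧ a = 2 ∧ k = 0 := by
  have hG := good_of_cand h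
  have key : ∀ {V : CertV} {S : CertS} {W : CertW} {n : ℕ}, vB (kd b) V = true →
      sB (kd b) V (mkCtx (kd b) a 0) S = true → candB (kd b) (mkCtx (kd b) a k) V S W = true →
      badB (kd b) (mkCtx (kd b) a k) V S n = true → False := fun hV hS hW hbad =>
    false_of_bad hG hV hS ⟨rfl, rfl⟩ hW hbad ht e he
  cases b
  · fin_cases a <;> fin_cases k
    · exact (key vA_ok sA0_ok wA00_ok badA00).elim
    · exact (key vA_ok sA0_ok wA01_ok badA01).elim
    · exact (key vA_ok sA1_ok wA10_ok badA10).elim
    · exact (key vA_ok sA1_ok wA11_ok badA11).elim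
    · exact ⟨rfl, rfl, rfl⟩
    · exact (key vA_ok sA2_ok wA21_ok badA21).elim
  · fin_cases a <;> fin_cases k
    · exact (key vB_ok sB0_ok wB00_ok badB00).elim
    · exact (key vB_ok sB0_ok wB01_ok badB01).elim
    · exact (key vB_ok sB1_ok wB10_ok badB10).elim
    · exact (key vB_ok sB1_ok wB11_ok badB11).elim
    · exact (key vB_ok sB2_ok wB20_ok badB20).elim
    · exact (key vB_ok sB2_ok wB21_ok badB21).elim

theorem candData_unique {b : Bool} {a : Fin 3} {k : Fin 2} {D D' : ExtData (kd b).Mg}
    (h : IsCandData b a k D) (h' : IsCandData b a k D') : D = D' := by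
  obtain ⟨σ, z, _, _, _⟩ := D
  obtain ⟨σ', z', _, _, _⟩ := D'
  obtain rfl : σ = σ' := MulEquiv.ext fun m => Subtype.ext ((h.1 m).trans (h'.1 m).symm)
  obtain rfl : z = z' := h.2.trans h'.2.symm
  rfl

theorem exists_goodData : ∃ D : ExtData (kd false).Mg, IsCandData false 2 0 D := by
  haveI : Fact (Nat.Prime 2) := ⟨Nat.prime_two⟩
  let F := GaloisField 2 2
  haveI : Fintype F := Fintype.ofFinite F
  have hF : Fintype.card F = 4 := by
    rw [← Nat.card_eq_fintype_card]
    exact (GaloisField.card 2 2 (by norm_num)).trans (by norm_num)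
  obtain ⟨w, hw, h2⟩ := SLMult.L34.exists_omega hF
  obtain ⟨σ, hσ, -, hσσ, hzen, -, -⟩ := aut_cases w hF hw h2 false
  have hp : pA false 3 = rep224.den ((kd false).sig.getD ((2 : Fin 3) : ℕ) (0, 0)).1 := by
    rw [pA, if_neg (by decide)]
    rfl
  refine ⟨{ σ := σ 3
            z := (kd false).el (kd false).zeta ^ kVal ((kd false).eps.getD ((2 : Fin 3) : ℕ) 0) 0
            zc := fun m => ((Commute.pow_left (hzen m) _).eq).symm
            fix := ?_
            sq := hσσ 3 }, fun m => ?_, rfl⟩
  · rw [show kVal ((kd false).eps.getD ((2 : Fin 3) : ℕ) 0) 0 = 0 from rfl, pow_zero, map_one]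
  · rw [← hp]
    exact hσ 3 m

/-- The extension data of the involution centraliser of the O'Nan group. -/
noncomputable def goodData : ExtData (kd false).Mg := exists_goodData.choose

theorem goodData_spec : IsCandData false 2 0 goodData := exists_goodData.choose_spec

/-- The model of the involution centraliser of the O'Nan group. -/
abbrev CGood : Type := Ext goodData

/-- The central involution of the model. -/
noncomputable def tGood : CGood := tX goodData

/-- The inner involution of the model. -/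
noncomputable def vGood : CGood := elX goodData CertVA.cert.v false

/-- Identification of the centraliser, and the element exchanging the two involutions. -/
theorem exists_good {G : Type*} [Group G] [Finite G] [IsSimpleGroup G] (t : G) (ht : orderOf t = 2)
    (M : Subgroup (centralizer ({t} : Set G))) [M.Normal] (hM : M.index = 2)
    (hout : centralizer (M : Set (centralizer ({t} : Set G))) ≤ M)
    (hZc : IsCyclic (center M)) (hZ4 : Nat.card (center M) = 4) (hperf : commutator M = ⊤)
    (F : Type) [Field F] [Fintype F] (hF : Fintype.card F = 4)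
    (e : M ⧸ center M ≃* Matrix.ProjectiveSpecialLinearGroup (Fin 3) F) :
    ∃ ψ : CGood ≃* centralizer ({t} : Set G), (ψ tGood : G) = t ∧
      ∃ g : G, g * (ψ vGood : G) * g⁻¹ = t ∧ g * t * g⁻¹ = (ψ vGood : G) := by
  let tC : centralizer ({t} : Set G) := ⟨t, mem_centralizer_singleton_iff.2 rfl⟩
  obtain ⟨b, a, k, D, hD, ψ, hψ⟩ := exists_cand tC (by rw [← orderOf_coe]; exact ht)
    (fun x => Subtype.ext (mem_centralizer_singleton_iff.1 x.2)) M hM hout hZc hZ4 hperf F hF e
  have he : (ψ (tX D) : G) = t := congrArg Subtype.val hψ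
  obtain ⟨rfl, rfl, rfl⟩ := eq_good hD ht ψ he
  obtain rfl : D = goodData := candData_unique hD goodData_spec
  refine ⟨ψ, he, ?_⟩
  obtain ⟨d, hdt, hdv⟩ := exists_data (good_of_cand goodData_spec) vA_ok
    (S := CertSA2.cert) (C₀ := mkCtx (kd false) 2 0) sA2_ok ⟨rfl, rfl⟩ wA20_ok
  have hdt' : (ψ d.t : G) = t := by rw [hdt]; exact he
  obtain ⟨g, hg1, hg2⟩ := exists_swap (Emb.ofEquiv d ht ψ hdt')
  refine ⟨g, ?_, ?_⟩
  · show g * ((ψ (elX goodData CertVA.cert.v false) : centralizer ({t} : Set G)) : G) * g⁻¹ = t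
    rw [← hdv]
    exact hg1.trans hdt'
  · show g * t * g⁻¹ = ((ψ (elX goodData CertVA.cert.v false) : centralizer ({t} : Set G)) : G)
    rw [← hdv]
    exact (congrArg (fun x => g * x * g⁻¹) hdt').symm.trans hg2

end Cfsg.Agent.ONUniq
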