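import Cfsg.Agent.Invol.ZStar

/-!
The fusion test for a candidate involution centraliser in a simple group (O'Nan recognition):
if a group `C` with central involution `t` is the centraliser of an involution of a simple group and
every involution of `C` is either conjugate to `v` or is an outer one with two small witnesses, then
the centraliser of `v` in `C` has an automorphism exchanging `t` and `v`.
-/

set_option autoImplicit false

namespace Cfsg.Agent.ONUniq

open Subgroup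

/-- The certificate on a candidate centraliser. -/
structure FusData (C : Type*) [Group C] where
  /-- the central involution -/
  t : C
  /-- the inner involution -/
  v : C
  /-- the inner part -/
  M : Subgroup C
  /-- a subgroup meeting every class of involutions -/
  S : Subgroup C
  sq_mem : ∀ x : C, x * x ∈ M
  t_mem : t ∈ M
  v_nc : ∃ x : C, x * v ≠ v * x
  into : ∀ u : C, u * u = 1 → ∃ c : C, c * u * c⁻¹ ∈ S
  sort : ∀ s ∈ S, s * s = 1 → s = 1 ∨ s = t ∨ (∃ c : C, c * s * c⁻¹ = v) ∨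
    (s ∉ M ∧
      (∃ a a₂ c : C, a * s = s * a ∧ a₂ * s = s * a₂ ∧ a * a * (a₂ * a₂) ≠ 1 ∧
        a * a * (a₂ * a₂) * (a * a * (a₂ * a₂)) = 1 ∧ c * s * c⁻¹ = a * a * (a₂ * a₂) * s) ∧
      ∃ b : C, b * s = s * b ∧ b ^ 256 ≠ 1)
  two : ∀ x : C, x * v = v * x → x ^ 256 = 1

/-- `C` is embedded as the centraliser of an involution. -/
structure Emb {C : Type*} [Group C] (D : FusData C) (G : Type*) [Group G] where
  /-- the embedding -/
  f : C →* G
  inj : Function.Injective f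
  inv : orderOf (f D.t) = 2
  comm : ∀ x : C, x * D.t = D.t * x
  cent : ∀ g : G, g * f D.t = f D.t * g → ∃ x, f x = g

section

variable {C : Type*} [Group C] {D : FusData C} {G : Type*} [Group G]

/-- An isomorphism with the centraliser gives the embedding. -/
def Emb.ofEquiv (D : FusData C) {t : G} (ht : orderOf t = 2)
    (e : C ≃* centralizer ({t} : Set G)) (he : (e D.t : G) = t) : Emb D G where
  f := (centralizer ({t} : Set G)).subtype.comp e.toMonoidHom
  inj := (centralizer ({t} : Set G)).subtype_injective.comp e.injective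
  inv := by simpa [he] using ht
  comm x := by
    refine e.injective (Subtype.ext ?_)
    rw [map_mul, map_mul, coe_mul, coe_mul, he]
    exact mem_centralizer_singleton_iff.1 (e x).2
  cent g hg := by
    refine ⟨e.symm ⟨g, mem_centralizer_singleton_iff.2 ?_⟩, by simp⟩
    simpa [he] using hg

theorem conj_mem_iff (D : FusData C) (c u : C) : c * u * c⁻¹ ∈ D.M ↔ u ∈ D.M := by
  have h : c * u * c⁻¹ = (c * u) * (c * u) * u⁻¹ * (c⁻¹ * c⁻¹) := by group
  rw [h, Subgroup.mul_mem_cancel_right _ (D.sq_mem _), Subgroup.mul_mem_cancel_left _ (D.sq_mem _),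
    inv_mem_iff]

theorem conj_ne {u w c : C} (hw : ∀ x : C, x * w = w * x) (h : u ≠ w) : c * u * c⁻¹ ≠ w := by
  intro h'
  refine h ?_
  rw [show u = c⁻¹ * (c * u * c⁻¹) * c by group, h', mul_assoc, ← hw, inv_mul_cancel_left]

/-- The witnesses moved to an arbitrary involution. -/
theorem sort_all (E : Emb D G) {u : C} (hu : u * u = 1) (h1 : u ≠ 1) (ht : u ≠ D.t) :
    ∃ c : C, c * u * c⁻¹ = D.v ∨ (c * u * c⁻¹ ∉ D.M ∧
      (∃ a a₂ c' : C, a * (c * u * c⁻¹) = (c * u * c⁻¹) * a ∧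
        a₂ * (c * u * c⁻¹) = (c * u * c⁻¹) * a₂ ∧ a * a * (a₂ * a₂) ≠ 1 ∧
        a * a * (a₂ * a₂) * (a * a * (a₂ * a₂)) = 1 ∧
        c' * (c * u * c⁻¹) * c'⁻¹ = a * a * (a₂ * a₂) * (c * u * c⁻¹)) ∧
      ∃ b : C, b * (c * u * c⁻¹) = (c * u * c⁻¹) * b ∧ b ^ 256 ≠ 1) := by
  obtain ⟨c, hc⟩ := D.into u hu
  have h2 : c * u * c⁻¹ * (c * u * c⁻¹) = 1 := by
    rw [show c * u * c⁻¹ * (c * u * c⁻¹) = c * (u * u) * c⁻¹ by group, hu, mul_one, mul_inv_cancel]
  rcases D.sort _ hc h2 with h | h | ⟨d, h⟩ | h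
  · exact absurd h (conj_ne (fun x => by rw [mul_one, one_mul]) h1)
  · exact absurd h (conj_ne E.comm ht)
  · exact ⟨d * c, .inl (by rw [← h]; group)⟩
  · exact ⟨c, .inr h⟩

theorem v_ne_t (E : Emb D G) : D.v ≠ D.t := by
  intro h
  obtain ⟨x, hx⟩ := D.v_nc
  exact hx (by rw [h]; exact E.comm x)

variable [Finite G] [IsSimpleGroup G]

/-- Glauberman: `t` has another conjugate in its centraliser. -/
theorem exists_other (E : Emb D G) :
    ∃ (g : G) (u : C), g * E.f D.t * g⁻¹ = E.f u ∧ u * u = 1 ∧ u ≠ 1 ∧ u ≠ D.t := by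
  obtain ⟨x, hx⟩ := D.v_nc
  have hz : ¬ Cfsg.IsIsolatedInvolution (E.f D.t) := by
    intro hz
    have hab : ¬ ∀ a b : G, a * b = b * a := fun h =>
      hx (E.inj (by rw [map_mul, map_mul, h]))
    have hO : oddCore G = ⊥ := by
      rcases (Core.pPrimeCore_normal (p := 2) (G := G)).eq_bot_or_eq_top with h | h
      · exact h
      · exfalso
        have h1 := Core.not_dvd_card_pPrimeCore (p := 2) (G := G)
        rw [h, card_top] at h1
        exact h1 (E.inv ▸ orderOf_dvd_natCard _)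
    have hzc : E.f D.t ∈ center G := mem_center_iff.2 fun g => by
      have h := Invol.zstar hz g
      rw [hO, mem_bot, mul_inv_eq_one, mul_inv_eq_iff_eq_mul] at h
      exact h.symm
    rcases (inferInstance : (center G).Normal).eq_bot_or_eq_top with h | h
    · rw [h, mem_bot] at hzc
      exact Invol.ne_one E.inv hzc
    · exact hab fun a b => mem_center_iff.1 (h ▸ mem_top b) a
  have hz' : ¬ ∀ g : G, Commute (E.f D.t) (g * E.f D.t * g⁻¹) →
      g * E.f D.t * g⁻¹ = E.f D.t := fun h => hz ⟨E.inv, h⟩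
  push Not at hz'
  obtain ⟨g, hg, hne⟩ := hz'
  obtain ⟨u, hu⟩ := E.cent _ hg.eq.symm
  refine ⟨g, u, hu.symm, E.inj ?_, fun h => ?_, fun h => hne (by rw [← hu, h])⟩
  · rw [map_mul, hu, map_one,
      show g * E.f D.t * g⁻¹ * (g * E.f D.t * g⁻¹) = g * (E.f D.t * E.f D.t) * g⁻¹ by group,
      Invol.mul_self_eq_one E.inv, mul_one, mul_inv_cancel]
  · rw [h, map_one] at hu
    refine Invol.ne_one E.inv ?_
    rw [show E.f D.t = g⁻¹ * (g * E.f D.t * g⁻¹) * g by group, ← hu, mul_one, inv_mul_cancel]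

/-- `t` is conjugate to `v`. -/
theorem exists_fuse (E : Emb D G) : ∃ g : G, g * E.f D.v * g⁻¹ = E.f D.t := by
  obtain ⟨g, u, hg, hu, hu1, hut⟩ := exists_other E
  obtain ⟨c, h | ⟨hM, ⟨a, a₂, c', ha, ha', hx1, hx2, hc'⟩, -⟩⟩ := sort_all E hu hu1 hut
  · refine ⟨(E.f c * g)⁻¹, ?_⟩
    rw [← h, map_mul, map_mul, map_inv, ← hg]
    group
  set s := c * u * c⁻¹ with hs
  set k := (E.f c * g)⁻¹ with hk
  set x := a * a * (a₂ * a₂) with hx
  have hks : k * E.f s * k⁻¹ = E.f D.t := by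
    rw [hk, hs, map_mul, map_mul, map_inv, ← hg]
    group
  have move : ∀ {b : C}, b * s = s * b → ∃ b', E.f b' = k * E.f b * k⁻¹ := fun {b} hb =>
    E.cent (k * E.f b * k⁻¹) (by
      rw [← hks, show k * E.f b * k⁻¹ * (k * E.f s * k⁻¹) = k * (E.f b * E.f s) * k⁻¹ by group,
        show k * E.f s * k⁻¹ * (k * E.f b * k⁻¹) = k * (E.f s * E.f b) * k⁻¹ by group,
        ← map_mul, ← map_mul, hb])
  obtain ⟨b₁, hb₁⟩ := move ha
  obtain ⟨b₂, hb₂⟩ := move ha'
  set y := b₁ * b₁ * (b₂ * b₂) with hyd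
  have hyM : y ∈ D.M := mul_mem (D.sq_mem b₁) (D.sq_mem b₂)
  have hyx : E.f y = k * E.f x * k⁻¹ := by
    simp only [hyd, hx, map_mul, hb₁, hb₂]
    group
  have hy : E.f (y * D.t) = k * E.f (x * s) * k⁻¹ := by
    rw [map_mul, hyx, ← hks, map_mul E.f x s]
    group
  have htt : D.t * D.t = 1 := E.inj (by
    rw [map_mul, map_one, Invol.mul_self_eq_one E.inv])
  have hxx : y * y = 1 := E.inj (by
    rw [map_mul, hyx, show k * E.f x * k⁻¹ * (k * E.f x * k⁻¹) = k * (E.f x * E.f x) * k⁻¹ by group,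
      ← map_mul, hx2, map_one, mul_one, mul_inv_cancel])
  have hy2 : y * D.t * (y * D.t) = 1 := by
    rw [mul_assoc y, ← mul_assoc D.t, ← E.comm, mul_assoc y, htt, mul_one, hxx]
  have hy1 : y * D.t ≠ 1 := fun h => by
    rw [h, map_one, eq_comm, conj_eq_one_iff, map_eq_one_iff _ E.inj,
      mul_eq_one_iff_eq_inv'] at hy
    exact hM (hy ▸ inv_mem (mul_mem (D.sq_mem a) (D.sq_mem a₂)))
  have hyt : y * D.t ≠ D.t := fun h => by
    rw [h, ← hks, mul_left_inj, mul_right_inj] at hy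
    exact hx1 (mul_eq_right.1 (E.inj hy).symm)
  obtain ⟨c'', h | ⟨h, -⟩⟩ := sort_all E hy2 hy1 hyt
  · refine ⟨(E.f c'' * k * E.f c' * k⁻¹)⁻¹, ?_⟩
    rw [← h, map_mul, map_mul, map_inv, hy, ← hc', map_mul, map_mul, map_inv, ← hks]
    group
  · exact absurd ((conj_mem_iff D c'' _).2 (mul_mem hyM D.t_mem)) h

/-- Some element exchanges `t` and `v`. -/
theorem exists_swap (E : Emb D G) :
    ∃ g : G, g * E.f D.v * g⁻¹ = E.f D.t ∧ g * E.f D.t * g⁻¹ = E.f D.v := by
  obtain ⟨g, hg⟩ := exists_fuse E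
  obtain ⟨v', hv'⟩ := E.cent (g * E.f D.t * g⁻¹) (by
    suffices h : g * E.f D.t * g⁻¹ * (g * E.f D.v * g⁻¹) =
        g * E.f D.v * g⁻¹ * (g * E.f D.t * g⁻¹) by rwa [hg] at h
    rw [show g * E.f D.t * g⁻¹ * (g * E.f D.v * g⁻¹) = g * (E.f D.t * E.f D.v) * g⁻¹ by group,
      show g * E.f D.v * g⁻¹ * (g * E.f D.t * g⁻¹) = g * (E.f D.v * E.f D.t) * g⁻¹ by group,
      ← map_mul, ← map_mul, E.comm])
  have h2 : v' * v' = 1 := E.inj (by
    rw [map_mul, hv', show g * E.f D.t * g⁻¹ * (g * E.f D.t * g⁻¹) =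
      g * (E.f D.t * E.f D.t) * g⁻¹ by group, Invol.mul_self_eq_one E.inv, mul_one, mul_inv_cancel,
      map_one])
  have h1 : v' ≠ 1 := fun h => by
    rw [h, map_one, eq_comm, conj_eq_one_iff] at hv'
    exact Invol.ne_one E.inv hv'
  have ht : v' ≠ D.t := fun h => by
    rw [h] at hv'
    rw [hv', mul_left_inj, mul_right_inj] at hg
    exact v_ne_t E (E.inj hg)
  obtain ⟨c, h | ⟨-, -, b, hb, hb1⟩⟩ := sort_all E h2 h1 ht
  · refine ⟨E.f c * g, ?_, ?_⟩
    · rw [show E.f c * g * E.f D.v * (E.f c * g)⁻¹ = E.f c * (g * E.f D.v * g⁻¹) * (E.f c)⁻¹ by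
        group, hg, ← map_mul, E.comm, map_mul, mul_inv_cancel_right]
    · rw [show E.f c * g * E.f D.t * (E.f c * g)⁻¹ = E.f c * (g * E.f D.t * g⁻¹) * (E.f c)⁻¹ by
        group, ← hv', ← h, map_mul, map_mul, map_inv]
  exfalso
  set b' := c⁻¹ * b * c with hb'
  have hbv : b' * v' = v' * b' := by
    have h := congrArg (fun z => c⁻¹ * z * c) hb
    simp only [← mul_assoc, inv_mul_cancel, inv_mul_cancel_right, one_mul] at h ⊢
    rw [hb']
    simpa only [← mul_assoc] using h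
  obtain ⟨x, hx⟩ := E.cent (g⁻¹ * E.f b' * g) (by
    have h := congrArg (fun z => g⁻¹ * E.f z * g) hbv
    simp only [map_mul, hv'] at h
    group at h ⊢
    exact h)
  have hxv : x * D.v = D.v * x := E.inj (by
    have h := congrArg (fun z => g⁻¹ * E.f z * g) (E.comm b')
    simp only [map_mul, ← hg] at h
    rw [map_mul, map_mul, hx]
    group at h ⊢
    exact h)
  have hp := congrArg E.f (D.two x hxv)
  rw [map_pow, hx, map_one,
    show g⁻¹ * E.f b' * g = g⁻¹ * E.f b' * (g⁻¹)⁻¹ by rw [inv_inv], conj_pow, conj_eq_one_iff,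
    ← map_pow, map_eq_one_iff _ E.inj, hb', show c⁻¹ * b * c = c⁻¹ * b * (c⁻¹)⁻¹ by rw [inv_inv],
    conj_pow, conj_eq_one_iff] at hp
  exact hb1 hp

omit [Finite G] [IsSimpleGroup G] in
theorem swap_mem (E : Emb D G) {g : G} (hv : g * E.f D.v * g⁻¹ = E.f D.t)
    (ht : g * E.f D.t * g⁻¹ = E.f D.v) (x : centralizer ({D.v} : Set C)) :
    ∃ y : centralizer ({D.v} : Set C), E.f y = g * E.f x * g⁻¹ := by
  have hxv := mem_centralizer_singleton_iff.1 x.2
  obtain ⟨y, hy⟩ := E.cent (g * E.f x * g⁻¹) (by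
    rw [← hv, show g * E.f x * g⁻¹ * (g * E.f D.v * g⁻¹) = g * (E.f x * E.f D.v) * g⁻¹ by group,
      show g * E.f D.v * g⁻¹ * (g * E.f x * g⁻¹) = g * (E.f D.v * E.f x) * g⁻¹ by group,
      ← map_mul, ← map_mul, hxv])
  refine ⟨⟨y, mem_centralizer_singleton_iff.2 (E.inj ?_)⟩, hy⟩
  rw [map_mul, map_mul, hy, ← ht,
    show g * E.f x * g⁻¹ * (g * E.f D.t * g⁻¹) = g * (E.f x * E.f D.t) * g⁻¹ by group,
    show g * E.f D.t * g⁻¹ * (g * E.f x * g⁻¹) = g * (E.f D.t * E.f x) * g⁻¹ by group,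
    ← map_mul, ← map_mul, E.comm]

/-- The centraliser of `v` in `C` has an automorphism exchanging `t` and `v`. -/
theorem exists_aut (E : Emb D G) : ∃ τ : centralizer ({D.v} : Set C) ≃* centralizer ({D.v} : Set C),
    ((τ ⟨D.t, mem_centralizer_singleton_iff.2 (E.comm D.v).symm⟩ : C) = D.v) ∧
      ((τ ⟨D.v, mem_centralizer_singleton_iff.2 rfl⟩ : C) = D.t) := by
  obtain ⟨g, hv, ht⟩ := exists_swap E
  have hv' : g⁻¹ * E.f D.v * g⁻¹⁻¹ = E.f D.t := by rw [← ht]; group
  have ht' : g⁻¹ * E.f D.t * g⁻¹⁻¹ = E.f D.v := by rw [← hv]; group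
  choose φ hφ using swap_mem E hv ht
  choose ψ hψ using swap_mem E hv' ht'
  refine ⟨MulEquiv.mk ⟨φ, ψ, fun x => ?_, fun x => ?_⟩ fun x y => ?_, E.inj ?_, E.inj ?_⟩
  · refine Subtype.ext (E.inj ?_)
    rw [hψ, hφ]
    group
  · refine Subtype.ext (E.inj ?_)
    rw [hφ, hψ]
    group
  · refine Subtype.ext (E.inj ?_)
    show E.f (φ (x * y) : C) = E.f ((φ x : C) * φ y)
    rw [hφ, map_mul, hφ, hφ, coe_mul, map_mul]
    group
  · exact (hφ _).trans ht
  · exact (hφ _).trans hv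

/-- The number of square roots of `w` in a table whose centraliser has at least `n` elements. -/
def rootCount {m : ℕ} (mm : Fin m → Fin m → Fin m) (n : ℕ) (w : Fin m) : ℕ :=
  (Finset.univ.filter fun i => mm i i = w ∧
    n ≤ (Finset.univ.filter fun j => mm j i = mm i j).card).card

theorem rootCount_map {m : ℕ} (mm : Fin m → Fin m → Fin m) (π : Equiv.Perm (Fin m))
    (h : ∀ i j, π (mm i j) = mm (π i) (π j)) (n : ℕ) (w : Fin m) :
    rootCount mm n (π w) = rootCount mm n w := by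
  have hc : ∀ i, (Finset.univ.filter fun j => mm j (π i) = mm (π i) j).card =
      (Finset.univ.filter fun j => mm j i = mm i j).card := fun i => by
    refine (Finset.card_equiv π fun j => ?_).symm
    simp only [Finset.mem_filter, Finset.mem_univ, true_and, ← h, π.injective.eq_iff]
  refine (Finset.card_equiv π fun i => ?_).symm
  simp only [Finset.mem_filter, Finset.mem_univ, true_and, ← h, π.injective.eq_iff, hc]

/-- A candidate is excluded by a table of the centraliser of `v`. -/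
theorem false_of_table (E : Emb D G) {m : ℕ} (k : Fin m → C) (hk : Function.Injective k)
    (hran : ∀ x : C, x * D.v = D.v * x ↔ ∃ i, k i = x) (mm : Fin m → Fin m → Fin m)
    (hmm : ∀ i j, k (mm i j) = k i * k j) {it iv : Fin m} (hit : k it = D.t) (hiv : k iv = D.v)
    (n : ℕ) (hne : rootCount mm n it ≠ rootCount mm n iv) : False := by
  obtain ⟨τ, hτt, hτv⟩ := exists_aut E
  let emb : Fin m → centralizer ({D.v} : Set C) := fun i =>
    ⟨k i, mem_centralizer_singleton_iff.2 ((hran _).2 ⟨i, rfl⟩)⟩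
  have hbij : Function.Bijective emb := by
    refine ⟨fun i j h => hk (congrArg Subtype.val h), fun x => ?_⟩
    obtain ⟨i, hi⟩ := (hran _).1 (mem_centralizer_singleton_iff.1 x.2)
    exact ⟨i, Subtype.ext hi⟩
  set ee := Equiv.ofBijective emb hbij with hee
  let π : Equiv.Perm (Fin m) := ee.trans (τ.toEquiv.trans ee.symm)
  have key : ∀ i, emb (π i) = τ (emb i) := fun i => ee.apply_symm_apply _
  have hπ : ∀ i j, π (mm i j) = mm (π i) (π j) := fun i j => by
    refine hbij.1 ?_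
    have e1 : ∀ a b, emb (mm a b) = emb a * emb b := fun a b => Subtype.ext (hmm a b)
    rw [key, e1, e1, key, key, map_mul]
  have hw : π it = iv := by
    refine hbij.1 (Subtype.ext ?_)
    rw [key]
    exact ((congrArg (fun z => (τ z : C)) (Subtype.ext hit)).trans hτt).trans hiv.symm
  exact hne (by rw [← hw, rootCount_map mm π hπ])

end

end Cfsg.Agent.ONUniq
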