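import Cfsg.Agent.ONOut.Out

/-!
Every embedding of `⟨a, …, f⟩` into the presented O'Nan group has, up to an automorphism,
image `⟨a, …, f⟩` itself.
-/

set_option autoImplicit false
set_option maxHeartbeats 1000000
set_option maxRecDepth 100000

namespace Cfsg.Agent.ONUniq

open Cfsg.Agent.CosetCert Cfsg.Agent.ONOut

/-- All letters stand for `a, …, f`. -/
noncomputable def innW (u : List Nat) : Bool := u.all fun x => Nat.ble 1 x && Nat.blt x 7

theorem innW_iff {u : List Nat} : innW u = true ↔ ∀ x ∈ u, 1 ≤ x ∧ x < 7 := by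
  simp [innW, List.all_eq_true]

theorem okW_of_innW {u : List Nat} (h : innW u = true) : okW u = true :=
  List.all_eq_true.2 fun x hx => Nat.ble_eq.mpr (by have := innW_iff.1 h x hx; omega)

/-- The product of the images of the letters. -/
noncomputable def pr (I : Nat → Spor.ON) (u : List Nat) : Spor.ON := (u.map I).prod

/-- Six elements with exactly the relations of `a, …, f`. -/
def Frame (I : Nat → Spor.ON) : Prop :=
  ∀ u v, innW u = true → innW v = true → (pr I u = pr I v ↔ el u = el v)

theorem Frame.rel {I : Nat → Spor.ON} (hI : Frame I) {u v : List Nat} (h : eqW u v = true)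
    (hu : innW u = true := by decide +kernel) (hv : innW v = true := by decide +kernel) :
    pr I u = pr I v :=
  (hI u v hu hv).2 ((eq_iff (okW_of_innW hu) (okW_of_innW hv)).1 h)

theorem Frame.rne {I : Nat → Spor.ON} (hI : Frame I) {u v : List Nat} (h : eqW u v = false)
    (hu : innW u = true := by decide +kernel) (hv : innW v = true := by decide +kernel) :
    pr I u ≠ pr I v := fun e => by
  rw [(eq_iff (okW_of_innW hu) (okW_of_innW hv)).2 ((hI u v hu hv).1 e)] at h
  cases h

theorem Frame.sq {I : Nat → Spor.ON} (hI : Frame I) (x : Nat) (h : eqW [x, x] [] = true)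
    (hu : innW [x, x] = true := by decide +kernel) : I x * I x = 1 := by
  simpa [pr] using hI.rel h hu

theorem Frame.ne_one {I : Nat → Spor.ON} (hI : Frame I) (x : Nat) (h : eqW [x] [] = false)
    (hu : innW [x] = true := by decide +kernel) : I x ≠ 1 := by
  simpa [pr] using hI.rne h hu

theorem Frame.comm {I : Nat → Spor.ON} (hI : Frame I) (x y : Nat) (h : eqW [x, y] [y, x] = true)
    (hu : innW [x, y] = true := by decide +kernel) (hv : innW [y, x] = true := by decide +kernel) :
    I x * I y = I y * I x := by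
  simpa [pr] using hI.rel h hu hv

theorem Frame.comp {I : Nat → Spor.ON} (hI : Frame I) (α : MulAut Spor.ON) :
    Frame (fun x => α (I x)) := by
  intro u v hu hv
  have e : ∀ w, pr (fun x => α (I x)) w = α (pr I w) := fun w => by
    rw [pr, pr, map_list_prod, List.map_map]; rfl
  rw [e, e, EmbeddingLike.apply_eq_iff_eq]
  exact hI u v hu hv

theorem Frame.reverse {I : Nat → Spor.ON} (hI : Frame I) :
    Frame (fun x => sigma (I (revL x))) := by
  have hr : ∀ w, innW w = true → innW (w.map revL) = true := fun w hw => innW_iff.2 fun y hy => by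
    obtain ⟨x, hx, rfl⟩ := List.mem_map.1 hy
    obtain ⟨h1, h7⟩ := innW_iff.1 hw x hx
    interval_cases x <;> decide
  have he : ∀ w, innW w = true → el (w.map revL) = sigma (el w) := fun w hw => by
    rw [show sigma (el w) = sigma.toMonoidHom (el w) from rfl,
      map_el sigma.toMonoidHom (fun x => [revL x]) w fun x hx =>
        sigma_el (innW_iff.1 hw x hx).2]
    rw [List.map_eq_flatMap]
  have hp : ∀ w, pr (fun x => sigma (I (revL x))) w = sigma (pr I (w.map revL)) := fun w => by
    rw [pr, pr, map_list_prod, List.map_map, List.map_map]; rfl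
  intro u v hu hv
  rw [hp, hp, EmbeddingLike.apply_eq_iff_eq, hI _ _ (hr u hu) (hr v hv), he u hu, he v hv,
    EmbeddingLike.apply_eq_iff_eq]

/-- The candidates for the image of `e`. -/
theorem exists_eWord' {I : Nat → Spor.ON} (hI : Frame I) (ha : I 1 = el [1]) (hf : I 6 = el [6])
    (c' d' : List Nat) (hc' : okW c' = true) (hd' : okW d' = true)
    (hc : I 3 = el c') (hd : I 4 = el d') :
    ∃ v ∈ eWords, el v = I 5 ∧ eFits c' d' v = true := by
  have hcomm : I 5 * el [1] = el [1] * I 5 := by
    rw [← ha]; exact hI.comm 5 1 (by decide +kernel)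
  obtain ⟨w, hw, hwe, ht⟩ := cent_search [] testE (by simp) (fun t ht => by
    obtain ⟨i, hi, rfl⟩ := List.getElem_of_mem ht
    have h := esearch_ok i (lengths.1 ▸ hi)
    simpa only [List.getD_eq_getElem _ _ hi] using h) hcomm (by simp)
  have h2 : eqW (w ++ w) [] = true := (eq_iff (okW_append hw hw) okW_nil).2 (by
    rw [el_append, hwe, el_nil]; exact hI.sq 5 (by decide +kernel))
  have h3 : eqW (w ++ [6] ++ w ++ [6] ++ w ++ [6]) [] = true :=
    (eq_iff (okW_append (okW_append (okW_append (okW_append (okW_append hw okW_one.2) hw)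
      okW_one.2) hw) okW_one.2) okW_nil).2 (by
      rw [el_append, el_append, el_append, el_append, el_append, hwe, el_nil, ← hf]
      simpa [pr, mul_assoc] using hI.rel (u := [5, 6, 5, 6, 5, 6]) (v := []) (by decide +kernel))
  have h4 : eqW w [] = false := eq_false_of_ne_true fun h => by
    have := (eq_iff hw okW_nil).1 h
    rw [hwe, el_nil] at this
    exact hI.ne_one 5 (by decide +kernel) (by decide +kernel) this
  have h5 : eqW w [6] = false := eq_false_of_ne_true fun h => by
    have := (eq_iff hw okW_one.2).1 h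
    rw [hwe, ← hf] at this
    exact hI.rne (u := [5]) (v := [6]) (by decide +kernel) (by decide +kernel) (by decide +kernel)
      (by simpa [pr] using this)
  simp only [testE, h2, h3, h4, h5, Bool.not_true, Bool.false_or] at ht
  obtain ⟨v, hv, hve⟩ := memK_spec hw ok_lists.2.2.2.2.2.1 u_keys.2.2.1 ht
  have hvw := words ok_lists.2.2.2.2.2.1 hv
  refine ⟨v, hv, hve.trans hwe, ?_⟩
  simp only [eFits, Bool.and_eq_true, Bool.not_eq_true']
  refine ⟨(com_iff hvw hc').2 ?_, (eq_iff ?_ okW_nil).2 ?_, eq_false_of_ne_true fun h => ?_⟩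
  · rw [hve, hwe, ← hc]; exact hI.comm 5 3 (by decide +kernel)
  · exact okW_append (okW_append (okW_append (okW_append (okW_append hd' hvw) hd') hvw) hd') hvw
  · rw [el_append, el_append, el_append, el_append, el_append, hve, hwe, el_nil, ← hd]
    simpa [pr, mul_assoc] using hI.rel (u := [4, 5, 4, 5, 4, 5]) (v := []) (by decide +kernel)
  · have := (eq_iff hvw hd').1 h
    rw [hve, hwe, ← hd] at this
    exact hI.rne (u := [5]) (v := [4]) (by decide +kernel) (by decide +kernel) (by decide +kernel)
      (by simpa [pr] using this)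

/-- With `a`, `c`, `d`, `f` fixed, `e` goes to `e` or to `fef`. -/
theorem e_cases' {I : Nat → Spor.ON} (hI : Frame I) (ha : I 1 = el [1]) (hc : I 3 = el [3])
    (hd : I 4 = el [4]) (hf : I 6 = el [6]) : I 5 = el [5] ∨ I 5 = el [6, 5, 6] := by
  obtain ⟨v, hv, hve, hfit⟩ :=
    exists_eWord' hI ha hf [3] [4] (by decide +kernel) (by decide +kernel) hc hd
  have h := List.all_eq_true.1 e_target v hv
  have hvw := words ok_lists.2.2.2.2.2.1 hv
  simp only [hfit, Bool.not_true, Bool.false_or, Bool.or_eq_true] at h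
  rw [← hve]
  rcases h with h | h
  · exact Or.inl ((eq_iff hvw (by decide +kernel)).1 h)
  · exact Or.inr ((eq_iff hvw (by decide +kernel)).1 h)

/-- With `a`, `c`, `d`, `f` fixed, `b` goes to `b` or to `aba`. -/
theorem b_cases' {I : Nat → Spor.ON} (hI : Frame I) (ha : I 1 = el [1]) (hc : I 3 = el [3])
    (hd : I 4 = el [4]) (hf : I 6 = el [6]) : I 2 = el [2] ∨ I 2 = el [1, 2, 1] := by
  rcases e_cases' hI.reverse (by show sigma (I 6) = _; rw [hf]; exact sigma_el (by norm_num))
    (by show sigma (I 4) = _; rw [hd]; exact sigma_el (by norm_num))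
    (by show sigma (I 3) = _; rw [hc]; exact sigma_el (by norm_num))
    (by show sigma (I 1) = _; rw [ha]; exact sigma_el (by norm_num)) with h | h
  · left
    apply sigma.injective
    rw [sigma_el (by norm_num)]
    exact h
  · right
    apply sigma.injective
    rw [show [1, 2, 1] = [1] ++ [2] ++ [1] from rfl, el_append, el_append, map_mul, map_mul,
      sigma_el (by norm_num), sigma_el (by norm_num), ← el_append, ← el_append]
    exact h

theorem el_mem_subL {u : List Nat} (hu : innW u = true) : el u ∈ subL := by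
  induction u with
  | nil => rw [el_nil]; exact one_mem _
  | cons x t ih =>
    have hx := innW_iff.1 hu x (List.mem_cons_self ..)
    rw [show x :: t = [x] ++ t from rfl, el_append]
    refine mul_mem ?_ (ih (innW_iff.2 fun y hy => innW_iff.1 hu y (List.mem_cons_of_mem _ hy)))
    rw [mem_subL_iff, img_el (lt_of_okW (by
      exact okW_of_innW (innW_iff.2 fun y hy => by
        rw [List.mem_singleton] at hy; subst hy; exact hx))) (by norm_num)]
    obtain ⟨h1, h7⟩ := hx
    interval_cases x <;> decide +kernel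

/-- A frame whose `a`, `c`, `d`, `f` are fixed lies in `⟨a, …, f⟩`. -/
theorem mem_of_fixed {I : Nat → Spor.ON} (hI : Frame I) (ha : I 1 = el [1]) (hc : I 3 = el [3])
    (hd : I 4 = el [4]) (hf : I 6 = el [6]) : ∀ x, 1 ≤ x → x < 7 → I x ∈ subL := by
  intro x h1 h7
  interval_cases x
  · rw [ha]; exact el_mem_subL (by decide +kernel)
  · rcases b_cases' hI ha hc hd hf with h | h <;> rw [h] <;> exact el_mem_subL (by decide +kernel)
  · rw [hc]; exact el_mem_subL (by decide +kernel)
  · rw [hd]; exact el_mem_subL (by decide +kernel)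
  · rcases e_cases' hI ha hc hd hf with h | h <;> rw [h] <;> exact el_mem_subL (by decide +kernel)
  · rw [hf]; exact el_mem_subL (by decide +kernel)

/-- The test for a square root of `ac`. -/
noncomputable def testRoot (w : List Nat) : Bool := !(eqW (w ++ w) [1, 3])

theorem root_ok : (tWords.all fun t => centTest [[3]] testRoot t) = true := by decide +kernel

/-- `ac` is no square in the centraliser of `a` and `c`. -/
theorem sq_ne {g : Spor.ON} (ha : g * el [1] = el [1] * g) (hc : g * el [3] = el [3] * g) :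
    g * g ≠ el [1, 3] := fun h => by
  obtain ⟨w, hw, hwe, ht⟩ := cent_search [[3]] testRoot
    (fun y hy => by
      rw [List.mem_singleton] at hy; subst hy; constructor <;> decide +kernel)
    (fun t ht => List.all_eq_true.1 root_ok t ht) ha
    (fun y hy => by rw [List.mem_singleton] at hy; subst hy; exact hc)
  have h1 : eqW (w ++ w) [1, 3] = true := (eq_iff (okW_append hw hw) (by decide +kernel)).2 (by
    rw [el_append, hwe]; exact h)
  simp [testRoot, h1] at ht

/-- Up to an automorphism a frame lies in `⟨a, …, f⟩`. -/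
theorem exists_frame_aut {I : Nat → Spor.ON} (hI : Frame I) :
    ∃ α : MulAut Spor.ON, ∀ x, 1 ≤ x → x < 7 → α (I x) ∈ subL := by
  have conjI : ∀ (g y : Spor.ON), MulAut.conj g⁻¹ y = g⁻¹ * y * g := fun g y => by
    rw [MulAut.conj_apply, inv_inv]
  have fixI : ∀ (g : Spor.ON) (y : Spor.ON), g * y = y * g → MulAut.conj g⁻¹ y = y := fun g y h => by
    rw [conjI, mul_assoc, ← h, inv_mul_cancel_left]
  -- `a`
  obtain ⟨m, hm⟩ := involution_conj (hI.sq 1 (by decide +kernel)) (hI.ne_one 1 (by decide +kernel))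
  set β₁ : MulAut Spor.ON := MulAut.conj m⁻¹ with hβ₁
  have hI₁ := hI.comp β₁
  have a1 : β₁ (I 1) = el [1] := (conjI m _).trans hm
  -- `f`
  obtain ⟨n, r, hn, hnr⟩ := cent_involution
    (y := β₁ (I 6)) (by rw [← a1]; exact hI₁.comm 6 1 (by decide +kernel))
    (hI₁.sq 6 (by decide +kernel)) (hI₁.ne_one 6 (by decide +kernel))
  set β₂ : MulAut Spor.ON := MulAut.conj n⁻¹ * β₁ with hβ₂
  have hI₂ := hI.comp β₂
  have a2 : β₂ (I 1) = el [1] := by rw [hβ₂, MulAut.mul_apply, a1]; exact fixI n _ hn
  have hf2 : β₂ (I 6) = el (repInv r) := by rw [hβ₂, MulAut.mul_apply]; exact (conjI n _).trans hnr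
  have f2 : β₂ (I 6) = el [6] := by
    unfold repInv at hf2
    split_ifs at hf2 with h0 h1
    · exfalso
      refine hI₂.rne (u := [6]) (v := [1]) (by decide +kernel) (by decide +kernel)
        (by decide +kernel) ?_
      simp only [pr, List.map_cons, List.map_nil, List.prod_cons, List.prod_nil, mul_one]
      rw [hf2, a2]
    · exact hf2
    · exfalso
      refine sq_ne (g := pr (fun x => β₂ (I x)) [3, 4, 3, 4]) ?_ ?_ ?_
      · have := hI₂.rel (u := [3, 4, 3, 4, 1]) (v := [1, 3, 4, 3, 4]) (by decide +kernel)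
        rw [← a2]
        simpa [pr, mul_assoc] using this
      · have := hI₂.rel (u := [3, 4, 3, 4, 6]) (v := [6, 3, 4, 3, 4]) (by decide +kernel)
        rw [← hf2]
        simpa [pr, mul_assoc] using this
      · have := hI₂.rel (u := [3, 4, 3, 4, 3, 4, 3, 4]) (v := [1, 6]) (by decide +kernel)
        rw [show [1, 3] = [1] ++ [3] from rfl, el_append, ← a2, ← hf2]
        simpa [pr, mul_assoc] using this
  -- `c` and `d`
  obtain ⟨-, -, -, -, hC, -, -, -, -, hR, -⟩ := ok_lists
  obtain ⟨wc, hwc, ec⟩ : ∃ w ∈ cafWords, el w = β₂ (I 3) := by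
    refine mem_cafWords ?_ ?_
    · rw [← a2]; exact hI₂.comm 3 1 (by decide +kernel)
    · rw [← f2]; exact hI₂.comm 3 6 (by decide +kernel)
  have hwcok := words hC hwc
  have hc := List.all_eq_true.1 cinv_ok wc hwc
  have hc1 : eqW (wc ++ wc) [] = true := (eq_iff (okW_append hwcok hwcok) okW_nil).2 (by
    rw [el_append, ec, el_nil]; exact hI₂.sq 3 (by decide +kernel))
  have hc2 : eqW wc [] = false := eq_false_of_ne_true fun h => by
    have := (eq_iff hwcok okW_nil).1 h
    rw [ec, el_nil] at this
    exact hI₂.ne_one 3 (by decide +kernel) (by decide +kernel) this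
  simp only [checkCInv, hc1, hc2, Bool.not_true, Bool.false_or, List.any_eq_true,
    Bool.and_eq_true] at hc
  obtain ⟨e, hem, hce, hk, hlen, hk1, hk6, hconj⟩ := hc
  have hlen' : e.2.2 < cReps.length := Nat.ble_eq.mp hlen
  have he1 : okW e.1 = true := by
    have : (cInv.all fun e => okW e.1) = true := by decide +kernel
    exact List.all_eq_true.1 this e hem
  rw [List.getD_eq_getElem _ _ hlen'] at hconj
  set β₃ : MulAut Spor.ON := MulAut.conj (el e.2.1)⁻¹ * β₂ with hβ₃
  have hI₃ := hI.comp β₃
  have a3 : β₃ (I 1) = el [1] := by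
    rw [hβ₃, MulAut.mul_apply, a2]; exact fixI _ _ ((com_iff hk okW_one.1).1 hk1)
  have f3 : β₃ (I 6) = el [6] := by
    rw [hβ₃, MulAut.mul_apply, f2]; exact fixI _ _ ((com_iff hk okW_one.2).1 hk6)
  have hRok := words hR (List.getElem_mem hlen')
  have c3 : β₃ (I 3) = el cReps[e.2.2] := by
    have h := (eq_iff (okW_append he1 hk) (okW_append hk hRok)).1 hconj
    rw [el_append, el_append] at h
    rw [hβ₃, MulAut.mul_apply, conjI, ← ec, (eq_iff hwcok he1).1 hce, mul_assoc, h,
      inv_mul_cancel_left]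
  obtain ⟨wd, hwd, ed⟩ : ∃ w ∈ cafWords, el w = β₃ (I 4) := by
    refine mem_cafWords ?_ ?_
    · rw [← a3]; exact hI₃.comm 4 1 (by decide +kernel)
    · rw [← f3]; exact hI₃.comm 4 6 (by decide +kernel)
  have hwdok := words hC hwd
  have hp := List.all_eq_true.1 (pair_ok e.2.2 (lengths.2.1 ▸ hlen')) wd hwd
  have hp1 : eqW (cReps[e.2.2] ++ wd ++ cReps[e.2.2] ++ wd ++ cReps[e.2.2] ++ wd ++
      cReps[e.2.2] ++ wd) [1, 6] = true := by
    refine (eq_iff (okW_append (okW_append (okW_append (okW_append (okW_append (okW_append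
      (okW_append hRok hwdok) hRok) hwdok) hRok) hwdok) hRok) hwdok) (by decide +kernel)).2 ?_
    have h := hI₃.rel (u := [3, 4, 3, 4, 3, 4, 3, 4]) (v := [1, 6]) (by decide +kernel)
    rw [show [1, 6] = [1] ++ [6] from rfl]
    simp only [el_append, ← c3, ed, ← a3, ← f3]
    simpa [pr, mul_assoc] using h
  have hp2 : eqW (wd ++ wd) [] = true := (eq_iff (okW_append hwdok hwdok) okW_nil).2 (by
    rw [el_append, ed, el_nil]; exact hI₃.sq 4 (by decide +kernel))
  simp only [checkPair, force_eq, List.getD_eq_getElem _ _ hlen', hp1, hp2, Bool.not_true,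
    Bool.false_or, List.any_eq_true, Bool.and_eq_true] at hp
  obtain ⟨q, hqm, hqi, hqd, hl, hn', hl1, hl6, hqc, hqq⟩ := hp
  have hn'' : q.2.2.2 < cdTargets.length := Nat.ble_eq.mp hn'
  have hq1 : okW q.2.1 = true := by
    have : (cdPairs.all fun e => okW e.2.1) = true := by decide +kernel
    exact List.all_eq_true.1 this q hqm
  rw [List.getD_eq_getElem _ _ hn''] at hqc hqq
  obtain ⟨htc, htd⟩ : okW cdTargets[q.2.2.2].1 = true ∧ okW cdTargets[q.2.2.2].2 = true := by
    have : (cdTargets.all fun e => okW e.1 && okW e.2) = true := by decide +kernel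
    simpa using List.all_eq_true.1 this _ (List.getElem_mem hn'')
  set β₄ : MulAut Spor.ON := MulAut.conj (el q.2.2.1)⁻¹ * β₃ with hβ₄
  have hI₄ := hI.comp β₄
  have a4 : β₄ (I 1) = el [1] := by
    rw [hβ₄, MulAut.mul_apply, a3]; exact fixI _ _ ((com_iff hl okW_one.1).1 hl1)
  have f4 : β₄ (I 6) = el [6] := by
    rw [hβ₄, MulAut.mul_apply, f3]; exact fixI _ _ ((com_iff hl okW_one.2).1 hl6)
  have c4 : β₄ (I 3) = el cdTargets[q.2.2.2].1 := by
    have h := (eq_iff (okW_append hRok hl) (okW_append hl htc)).1 hqc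
    rw [el_append, el_append] at h
    rw [hβ₄, MulAut.mul_apply, conjI, c3, mul_assoc, h, inv_mul_cancel_left]
  have d4 : β₄ (I 4) = el cdTargets[q.2.2.2].2 := by
    have h := (eq_iff (okW_append hq1 hl) (okW_append hl htd)).1 hqq
    rw [el_append, el_append] at h
    rw [hβ₄, MulAut.mul_apply, conjI, ← ed, (eq_iff hwdok hq1).1 hqd, mul_assoc, h,
      inv_mul_cancel_left]
  -- the target
  have hsmall : q.2.2.2 < 2 := by
    by_contra hge
    obtain ⟨v, hv, -, hfit⟩ := exists_eWord' hI₄ a4 f4 _ _ htc htd c4 d4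
    have hmem : cdTargets[q.2.2.2] ∈ cdTargets.drop 2 := by
      rw [List.mem_iff_getElem]
      exact ⟨q.2.2.2 - 2, by rw [List.length_drop]; omega,
        (List.getElem_drop ..).trans (getElem_congr_idx (by omega))⟩
    have h := List.all_eq_true.1 (List.all_eq_true.1 bad_pairs _ hmem) v hv
    rw [hfit] at h
    simp at h
  have key : ∀ (i : Nat) (h : i < cdTargets.length), i = q.2.2.2 →
      β₄ (I 3) = el cdTargets[i].1 ∧ β₄ (I 4) = el cdTargets[i].2 := by
    rintro i h rfl
    exact ⟨c4, d4⟩
  rcases (show q.2.2.2 = 0 ∨ q.2.2.2 = 1 by omega) with h0 | h1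
  · obtain ⟨c5, d5⟩ := key 0 (by decide +kernel) h0.symm
    exact ⟨β₄, mem_of_fixed hI₄ a4 c5 d5 f4⟩
  · obtain ⟨c5, d5⟩ := key 1 (by decide +kernel) h1.symm
    have t1 : ∀ x, x < 7 → β₄ (I x) = el (omImg x) → (omega⁻¹ * β₄) (I x) = el [x] :=
      fun x hx h => by rw [MulAut.mul_apply, h, ← omega_el hx, MulAut.inv_apply_self]
    exact ⟨omega⁻¹ * β₄, mem_of_fixed (hI.comp (omega⁻¹ * β₄))
      (t1 1 (by norm_num) (a4.trans (el_eq (by decide +kernel))))
      (t1 3 (by norm_num) (c5.trans (el_eq (by decide +kernel))))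
      (t1 4 (by norm_num) (d5.trans (el_eq (by decide +kernel))))
      (t1 6 (by norm_num) (f4.trans (el_eq (by decide +kernel))))⟩

/-- A subgroup containing `a, …, f` contains `⟨a, …, f⟩`. -/
theorem subL_le {T : Subgroup Spor.ON} (h : ∀ x, 1 ≤ x → x < 7 → el [x] ∈ T) : subL ≤ T := by
  show Subgroup.map _ (Subgroup.closure _) ≤ T
  rw [Subgroup.map_le_iff_le_comap, Subgroup.closure_le]
  intro s hs
  simp only [ONIndex122760.subGens, Set.mem_ofPred_eq, List.mem_cons, List.not_mem_nil,
    or_false] at hs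
  show PresentedGroup.mk _ s ∈ T
  rcases hs with rfl | rfl | rfl | rfl | rfl | rfl
  all_goals
    show PresentedGroup.of _ ∈ T
    rw [← el_enc]
    exact h _ (by decide) (by decide)

/-- An injective map of `⟨a, …, f⟩` into the group has, up to an automorphism, the same image. -/
theorem range_eq_map (φ : subL →* Spor.ON) (hφ : Function.Injective φ) :
    ∃ α : MulAut Spor.ON, φ.range = subL.map α.toMonoidHom := by
  classical
  let I : Nat → Spor.ON := fun x => if h : el [x] ∈ subL then φ ⟨el [x], h⟩ else 1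
  have hpr : ∀ u (hu : innW u = true), pr I u = φ ⟨el u, el_mem_subL hu⟩ := by
    intro u
    induction u with
    | nil =>
      intro hu
      rw [show (⟨el [], el_mem_subL hu⟩ : subL) = 1 from Subtype.ext el_nil, map_one]
      rfl
    | cons x t ih =>
      intro hu
      have hx : innW [x] = true := innW_iff.2 fun y hy => by
        rw [List.mem_singleton] at hy; subst hy; exact innW_iff.1 hu _ (List.mem_cons_self ..)
      have ht : innW t = true := innW_iff.2 fun y hy => innW_iff.1 hu y (List.mem_cons_of_mem _ hy)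
      rw [show pr I (x :: t) = I x * pr I t from rfl, ih ht,
        show I x = φ ⟨el [x], el_mem_subL hx⟩ from dif_pos (el_mem_subL hx), ← map_mul]
      congr 1
  have hI : Frame I := fun u v hu hv => by
    rw [hpr u hu, hpr v hv, hφ.eq_iff, Subtype.mk.injEq]
  obtain ⟨α, hα⟩ := exists_frame_aut hI
  refine ⟨α⁻¹, Subgroup.eq_of_le_of_card_ge ?_ ?_⟩
  · let T : Subgroup subL := subL.comap (α.toMonoidHom.comp φ)
    have hT : subL ≤ T.map subL.subtype := subL_le fun x h1 h7 => by
      have hx : el [x] ∈ subL := el_mem_subL (innW_iff.2 fun y hy => by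
        rw [List.mem_singleton] at hy; subst hy; exact ⟨h1, h7⟩)
      refine ⟨⟨el [x], hx⟩, ?_, rfl⟩
      have := hα x h1 h7
      rw [show I x = φ ⟨el [x], hx⟩ from dif_pos hx] at this
      exact this
    rintro _ ⟨y, rfl⟩
    obtain ⟨z, hz, hzy⟩ := hT y.2
    rw [← show z = y from Subtype.ext hzy]
    exact ⟨α (φ z), hz, by show α⁻¹ (α (φ z)) = φ z; simp⟩
  · rw [Subgroup.card_map_of_injective (MulEquiv.injective _), ← Nat.card_congr
      (MonoidHom.ofInjective hφ).toEquiv]

end Cfsg.Agent.ONUniq
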