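import Cfsg.Agent.ONUniq.SevenSub
import Cfsg.Agent.Invol.SEPairs
import Mathlib.GroupTheory.Sylow
import Mathlib.GroupTheory.Perm.Cycle.Type

/-!
An embedded O'Nan group containing the centraliser of one of its involutions is the whole simple
group: otherwise it would be strongly embedded, and then a subgroup of odd order would be
transitive on its 2857239 involutions, which the normalisers of elements of order 19 forbid.
-/

set_option autoImplicit false
set_option maxHeartbeats 1000000
set_option maxRecDepth 100000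

namespace Cfsg.Agent.ONUniq

open Cfsg.Agent.CosetCert Cfsg.Agent.ONOut
open scoped Matrix

instance fact_nineteen : Fact (Nat.Prime 19) := ⟨by norm_num⟩

/-- A permutation of order dividing 19 fixes as many points as there are, modulo 19. -/
theorem fixed_mod {α : Type*} [Finite α] (σ : Equiv.Perm α) (h : σ ^ 19 = 1) :
    Nat.card {x // σ x = x} % 19 = Nat.card α % 19 := by
  classical
  have : Fintype α := Fintype.ofFinite α
  have hp : IsPGroup 19 (Subgroup.zpowers σ) := by
    obtain ⟨k, -, hk⟩ := (Nat.dvd_prime_pow (by norm_num : Nat.Prime 19)).1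
      (show orderOf σ ∣ 19 ^ 1 by rw [pow_one]; exact orderOf_dvd_of_pow_eq_one h)
    exact IsPGroup.of_card (n := k) (by rw [Nat.card_zpowers, hk])
  have h1 := hp.card_modEq_card_fixedPoints α
  rw [h1]
  refine congrArg (· % 19) (Nat.card_congr (Equiv.subtypeEquivRight fun x => ?_))
  rw [MulAction.mem_fixedPoints]
  refine ⟨fun hx g => ?_, fun hx => hx ⟨σ, Subgroup.mem_zpowers σ⟩⟩
  obtain ⟨_, n, rfl⟩ := g
  exact Equiv.Perm.zpow_apply_eq_self_of_apply_eq_self hx n

/-- The permutation of vectors of a matrix. -/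
def vecPerm : ONSevenIso.S →* Equiv.Perm (Fin 3 → ZMod 7) where
  toFun A :=
    { toFun := fun v => A.1 *ᵥ v
      invFun := fun v => (A⁻¹).1 *ᵥ v
      left_inv := fun v => by
        show (A⁻¹).1 *ᵥ (A.1 *ᵥ v) = v
        have e : (A⁻¹).1 * A.1 = 1 := congrArg Subtype.val (inv_mul_cancel A)
        rw [Matrix.mulVec_mulVec, e, Matrix.one_mulVec]
      right_inv := fun v => by
        show A.1 *ᵥ ((A⁻¹).1 *ᵥ v) = v
        have e : A.1 * (A⁻¹).1 = 1 := congrArg Subtype.val (mul_inv_cancel A)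
        rw [Matrix.mulVec_mulVec, e, Matrix.one_mulVec] }
  map_one' := Equiv.ext fun v => Matrix.one_mulVec v
  map_mul' A B := Equiv.ext fun v => by
    show (A * B).1 *ᵥ v = A.1 *ᵥ (B.1 *ᵥ v)
    rw [Matrix.mulVec_mulVec, ← Matrix.SpecialLinearGroup.coe_mul]

/-- In `SL(3, 7)` nothing of order 7 commutes with anything of order 19. -/
theorem sl_no_commute {Y Z : ONSevenIso.S} (hY : orderOf Y = 19) (hZ : orderOf Z = 7)
    (h : Y * Z = Z * Y) : False := by
  classical
  let V := Fin 3 → ZMod 7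
  have hY19 : vecPerm Y ^ 19 = 1 := by rw [← map_pow, ← hY, pow_orderOf_eq_one, map_one]
  let K : AddSubgroup V :=
    { carrier := {v | Z.1 *ᵥ v = v}
      zero_mem' := Matrix.mulVec_zero _
      add_mem' := fun {a b} (ha : _ = a) (hb : _ = b) => by
        show _ = a + b; rw [Matrix.mulVec_add, ha, hb]
      neg_mem' := fun {a} (ha : _ = a) => by show _ = -a; rw [Matrix.mulVec_neg, ha] }
  let F : AddSubgroup V :=
    { carrier := {v | Y.1 *ᵥ v = v}
      zero_mem' := Matrix.mulVec_zero _
      add_mem' := fun {a b} (ha : _ = a) (hb : _ = b) => by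
        show _ = a + b; rw [Matrix.mulVec_add, ha, hb]
      neg_mem' := fun {a} (ha : _ = a) => by show _ = -a; rw [Matrix.mulVec_neg, ha] }
  have hV : Nat.card V = 343 := by
    rw [Nat.card_eq_fintype_card, Fintype.card_fun, Fintype.card_fin, ZMod.card]; norm_num
  have hdvd : ∀ A : AddSubgroup V, Nat.card A = 1 ∨ Nat.card A = 7 ∨ Nat.card A = 49 ∨
      Nat.card A = 343 := by
    intro A
    have h1 : Nat.card A ∣ 7 ^ 3 := by
      rw [show 7 ^ 3 = Nat.card V by rw [hV]; norm_num]
      exact AddSubgroup.card_addSubgroup_dvd_card A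
    obtain ⟨k, hk, hk'⟩ := (Nat.dvd_prime_pow (by norm_num : Nat.Prime 7)).1 h1
    rw [hk']
    interval_cases k <;> norm_num
  have hall : ∀ (A : ONSevenIso.S) (W : AddSubgroup V), (∀ v, v ∈ W ↔ A.1 *ᵥ v = v) →
      Nat.card W = 343 → A = 1 := by
    intro A W hW hc
    have htop : W = ⊤ := AddSubgroup.eq_top_of_card_eq W (hc.trans hV.symm)
    refine Subtype.ext (Matrix.ext fun i j => ?_)
    have h1 := congrFun ((hW (Pi.single j 1)).1 (htop ▸ AddSubgroup.mem_top _)) i
    rw [Matrix.mulVec_single_one] at h1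
    simpa [Matrix.one_apply, Pi.single_apply, eq_comm] using h1
  have hK : Nat.card K = 7 ∨ Nat.card K = 49 := by
    rcases hdvd K with hc | hc | hc | hc
    · exfalso
      have hp : IsPGroup 7 (Subgroup.zpowers (vecPerm Z)) := by
        have : vecPerm Z ^ 7 ^ 1 = 1 := by
          rw [pow_one, ← map_pow, orderOf_dvd_iff_pow_eq_one.1 hZ.dvd, map_one]
        obtain ⟨k, -, hk⟩ := (Nat.dvd_prime_pow (by norm_num : Nat.Prime 7)).1
          (orderOf_dvd_of_pow_eq_one this)
        exact IsPGroup.of_card (n := k) (by rw [Nat.card_zpowers, hk])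
      have h1 := hp.card_modEq_card_fixedPoints V
      have h2 : Nat.card (MulAction.fixedPoints (Subgroup.zpowers (vecPerm Z)) V) = Nat.card K := by
        refine Nat.card_congr (Equiv.subtypeEquivRight fun v => ?_)
        rw [MulAction.mem_fixedPoints]
        refine ⟨fun hx => hx ⟨_, Subgroup.mem_zpowers _⟩, fun hx g => ?_⟩
        obtain ⟨_, n, rfl⟩ := g
        exact Equiv.Perm.zpow_apply_eq_self_of_apply_eq_self
          (show vecPerm Z v = v from hx) n
      rw [h2, hc, hV] at h1
      exact absurd h1 (by decide)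
    · exact Or.inl hc
    · exact Or.inr hc
    · exfalso
      rw [hall Z K (fun v => Iff.rfl) hc, orderOf_one] at hZ
      cases hZ
  have hF : Nat.card F = 1 := by
    have h1 : Nat.card F % 19 = 343 % 19 := hV ▸ fixed_mod (vecPerm Y) hY19
    rcases hdvd F with hc | hc | hc | hc
    · exact hc
    · rw [hc] at h1; norm_num at h1
    · rw [hc] at h1; norm_num at h1
    · rw [hall Y F (fun v => Iff.rfl) hc, orderOf_one] at hY
      cases hY
  have hinv : ∀ v, v ∈ K ↔ vecPerm Y v ∈ K := by
    intro v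
    have e : Z.1 *ᵥ (Y.1 *ᵥ v) = Y.1 *ᵥ (Z.1 *ᵥ v) := by
      rw [Matrix.mulVec_mulVec, Matrix.mulVec_mulVec, ← Matrix.SpecialLinearGroup.coe_mul, ← h,
        Matrix.SpecialLinearGroup.coe_mul]
    show Z.1 *ᵥ v = v ↔ Z.1 *ᵥ (Y.1 *ᵥ v) = Y.1 *ᵥ v
    rw [e]
    exact ⟨fun h => by rw [h], fun h => (vecPerm Y).injective h⟩
  let σ : Equiv.Perm {v // v ∈ K} := (vecPerm Y).subtypePerm (fun v => (hinv v).symm)
  have hσ : σ ^ 19 = 1 := by
    refine Equiv.ext fun v => Subtype.ext ?_
    rw [Equiv.Perm.subtypePerm_pow]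
    show (vecPerm Y ^ 19) v.1 = v.1
    rw [hY19, Equiv.Perm.one_apply]
  have h1 := fixed_mod σ hσ
  have h2 : Nat.card {x // σ x = x} ≤ Nat.card F := by
    refine Nat.card_le_card_of_injective (fun x => (⟨x.1.1, congrArg Subtype.val x.2⟩ : F)) ?_
    intro a b hab
    exact Subtype.ext (Subtype.ext (congrArg (fun w : F => (w : V)) hab))
  rw [hF] at h2
  have h3 : Nat.card {v // v ∈ K} = Nat.card K := rfl
  omega

/-- In `L₃(7)` nothing of order 7 commutes with anything of order 19. -/
theorem psl_no_commute {y z : P37} (hy : orderOf y = 19) (hz : orderOf z = 7)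
    (h : y * z = z * y) : False := by
  obtain ⟨Y, rfl⟩ := QuotientGroup.mk_surjective y
  obtain ⟨Z, rfl⟩ := QuotientGroup.mk_surjective z
  set Z0 := Subgroup.center ONSevenIso.S with hZ0
  let c := Y * Z * Y⁻¹ * Z⁻¹
  have hc : c ∈ Subgroup.center ONSevenIso.S := by
    rw [← QuotientGroup.eq_one_iff]
    show ((Y * Z * Y⁻¹ * Z⁻¹ : ONSevenIso.S) : P37) = 1
    simp only [QuotientGroup.mk_mul, QuotientGroup.mk_inv]
    rw [h]; group
  have hcc : ∀ g, g * c = c * g := Subgroup.mem_center_iff.1 hc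
  have e1 : Y * Z * Y⁻¹ = c * Z := by show _ = Y * Z * Y⁻¹ * Z⁻¹ * Z; group
  have hn : ∀ n : ℕ, Y ^ n * Z * (Y ^ n)⁻¹ = c ^ n * Z := by
    intro n
    induction n with
    | zero => simp
    | succ n ih =>
      calc Y ^ (n + 1) * Z * (Y ^ (n + 1))⁻¹
          = Y * (Y ^ n * Z * (Y ^ n)⁻¹) * Y⁻¹ := by rw [pow_succ']; group
        _ = (Y * c ^ n) * Z * Y⁻¹ := by rw [ih]; group
        _ = c ^ n * (Y * Z * Y⁻¹) := by
            rw [show Y * c ^ n = c ^ n * Y from (Commute.pow_right (hcc Y) n).eq]; group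
        _ = c ^ (n + 1) * Z := by rw [e1, pow_succ]; group
  have hY19 : Y ^ 19 ∈ Subgroup.center ONSevenIso.S := by
    rw [← QuotientGroup.eq_one_iff, QuotientGroup.mk_pow]
    exact orderOf_dvd_iff_pow_eq_one.1 hy.dvd
  have hZ7 : Z ^ 7 ∈ Subgroup.center ONSevenIso.S := by
    rw [← QuotientGroup.eq_one_iff, QuotientGroup.mk_pow]
    exact orderOf_dvd_iff_pow_eq_one.1 hz.dvd
  have c19 : c ^ 19 = 1 := by
    have := hn 19
    rw [← Subgroup.mem_center_iff.1 hY19 Z, mul_inv_cancel_right] at this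
    exact mul_eq_right.1 this.symm
  have c7 : c ^ 7 = 1 := by
    have e : (Y * Z * Y⁻¹) ^ 7 = Z ^ 7 := by
      rw [conj_pow, Subgroup.mem_center_iff.1 hZ7 Y, mul_inv_cancel_right]
    rw [e1, (show Commute c Z from (hcc Z).symm).mul_pow] at e
    exact mul_eq_right.1 e
  have c1 : c = 1 := orderOf_eq_one_iff.1 (Nat.dvd_one.1
    ((Nat.dvd_gcd (orderOf_dvd_of_pow_eq_one c19) (orderOf_dvd_of_pow_eq_one c7)).trans
      (by norm_num)))
  have hcomm : Commute Y Z := by
    have := e1
    rw [c1, one_mul] at this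
    exact mul_inv_eq_iff_eq_mul.1 this
  have h19 : 19 ∣ orderOf Y :=
    hy.symm.dvd.trans (orderOf_map_dvd (QuotientGroup.mk' (Subgroup.center _)) Y)
  have h7 : 7 ∣ orderOf Z :=
    hz.symm.dvd.trans (orderOf_map_dvd (QuotientGroup.mk' (Subgroup.center _)) Z)
  exact sl_no_commute (orderOf_pow_orderOf_div (orderOf_pos Y).ne' h19)
    (orderOf_pow_orderOf_div (orderOf_pos Z).ne' h7) (hcomm.pow_pow _ _).eq

/-- An element of order 19 of `subL` fixes only the point of `subL`. -/
theorem fixed_base {y : Spor.ON} (hy : y ∈ subL) (ho : orderOf y = 19) {q : Spor.ON ⧸ subL}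
    (hq : y • q = q) : q = QuotientGroup.mk 1 := by
  classical
  obtain ⟨M, hM, hM2, ⟨eM⟩⟩ := ONSevenIso.exists_normal
  have := hM
  obtain ⟨hidx, q₁, q₂, q₃, q₄, h₁, h₂, h₃, h₄⟩ :=
    index_orbits (G := Spor.ON) ⟨MulEquiv.refl _⟩ subL M hM2 eM
  by_contra hne
  let O : Spor.ON ⧸ subL → Set (Spor.ON ⧸ subL) := fun x => MulAction.orbit subL x
  let b : Spor.ON ⧸ subL := QuotientGroup.mk 1
  have hb : (O b).ncard = 1 := by
    rw [show O b = {b} from ?_, Set.ncard_singleton]
    refine Set.eq_singleton_iff_unique_mem.2 ⟨MulAction.mem_orbit_self b, ?_⟩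
    rintro _ ⟨⟨g, hg⟩, rfl⟩
    show (QuotientGroup.mk (g * 1) : Spor.ON ⧸ subL) = QuotientGroup.mk 1
    rw [mul_one, QuotientGroup.eq]
    exact subL.mul_mem (subL.inv_mem hg) subL.one_mem
  have disj : ∀ x z, (O x).ncard ≠ (O z).ncard → Disjoint (O x) (O z) := by
    intro x z hxz
    rw [Set.disjoint_left]
    intro w hwx hwz
    exact hxz (congrArg Set.ncard
      ((MulAction.orbit_eq_iff.2 hwx).symm.trans (MulAction.orbit_eq_iff.2 hwz)))
  replace h₁ : (O q₁).ncard = 6384 := h₁
  replace h₂ : (O q₂).ncard = 5586 := h₂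
  replace h₃ : (O q₃).ncard = 58653 := h₃
  replace h₄ : (O q₄).ncard = 52136 := h₄
  have hsum : (O b ∪ O q₁ ∪ O q₂ ∪ O q₃ ∪ O q₄).ncard = 122760 := by
    have d1 := disj b q₁ (by omega)
    have d2 : Disjoint (O b ∪ O q₁) (O q₂) :=
      (disj b q₂ (by omega)).union_left (disj q₁ q₂ (by omega))
    have d3 : Disjoint (O b ∪ O q₁ ∪ O q₂) (O q₃) :=
      ((disj b q₃ (by omega)).union_left (disj q₁ q₃ (by omega))).union_left
        (disj q₂ q₃ (by omega))
    have d4 : Disjoint (O b ∪ O q₁ ∪ O q₂ ∪ O q₃) (O q₄) :=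
      (((disj b q₄ (by omega)).union_left (disj q₁ q₄ (by omega))).union_left
        (disj q₂ q₄ (by omega))).union_left (disj q₃ q₄ (by omega))
    rw [Set.ncard_union_eq d4, Set.ncard_union_eq d3, Set.ncard_union_eq d2, Set.ncard_union_eq d1,
      hb, h₁, h₂, h₃, h₄]
  have huniv : O b ∪ O q₁ ∪ O q₂ ∪ O q₃ ∪ O q₄ = Set.univ :=
    by
    by_contra hh
    have hlt := Set.ncard_lt_card hh
    rw [hsum, show Nat.card (Spor.ON ⧸ subL) = 122760 from hidx] at hlt
    omega
  have hqb : q ∉ O b := fun h => hne (by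
    obtain ⟨⟨g, hg⟩, rfl⟩ := h
    show (QuotientGroup.mk (g * 1) : Spor.ON ⧸ subL) = QuotientGroup.mk 1
    rw [mul_one, QuotientGroup.eq]
    exact subL.mul_mem (subL.inv_mem hg) subL.one_mem)
  have hq' : q ∈ O b ∪ O q₁ ∪ O q₂ ∪ O q₃ ∪ O q₄ := huniv ▸ Set.mem_univ q
  have hn : (O q).ncard ∈ [6384, 5586, 58653, 52136] := by
    simp only [Set.mem_union] at hq'
    rcases hq' with (((h | h) | h) | h) | h
    · exact absurd h hqb
    all_goals rw [show O q = _ from MulAction.orbit_eq_iff.2 h]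
    · exact List.mem_cons.2 (Or.inl h₁)
    · exact List.mem_cons_of_mem _ (List.mem_cons.2 (Or.inl h₂))
    · exact List.mem_cons_of_mem _ (List.mem_cons_of_mem _ (List.mem_cons.2 (Or.inl h₃)))
    · exact List.mem_cons_of_mem _ (List.mem_cons_of_mem _ (List.mem_cons_of_mem _
        (List.mem_cons.2 (Or.inl h₄))))
  have hs : (O q).ncard * Nat.card (MulAction.stabilizer subL q) = 3753792 := by
    rw [← card_subL, ← (MulAction.stabilizer subL q).index_mul_card, MulAction.index_stabilizer]
  have h19 : 19 ∣ Nat.card (MulAction.stabilizer subL q) := by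
    have hm : (⟨y, hy⟩ : subL) ∈ MulAction.stabilizer subL q := hq
    have := Subgroup.orderOf_dvd_natCard _ hm
    rwa [← Subgroup.orderOf_coe, show ((⟨y, hy⟩ : subL) : Spor.ON) = y from rfl, ho] at this
  obtain ⟨k, hk⟩ := h19
  rw [hk] at hs
  simp only [List.mem_cons, List.not_mem_nil, or_false] at hn
  rcases hn with h | h | h | h <;> rw [h] at hs <;> omega

/-- An element of prime order 7, 11 or 31 commutes with none of order 19. -/
theorem no_commute_19 {y z : Spor.ON} (hy : orderOf y = 19)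
    (hz : orderOf z = 7 ∨ orderOf z = 11 ∨ orderOf z = 31) (h : y * z = z * y) : False := by
  classical
  have hfix : ∃ q : Spor.ON ⧸ subL, y • q = q := by
    have h1 := fixed_mod (MulAction.toPermHom Spor.ON (Spor.ON ⧸ subL) y)
      (by rw [← map_pow, ← hy, pow_orderOf_eq_one, map_one])
    have h2 : Nat.card (Spor.ON ⧸ subL) = 122760 := ONIndex122760.index_val
    rw [h2] at h1
    obtain ⟨⟨q, hq⟩⟩ : Nonempty {q // MulAction.toPermHom Spor.ON (Spor.ON ⧸ subL) y q = q} :=
      (Nat.card_pos_iff.1 (by omega)).1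
    exact ⟨q, hq⟩
  obtain ⟨q, hq⟩ := hfix
  obtain ⟨g, rfl⟩ := QuotientGroup.mk_surjective q
  have hy' : g⁻¹ * y * g ∈ subL := by
    have := QuotientGroup.eq.1 (show ((g : Spor.ON) : Spor.ON ⧸ subL) = ((y * g : Spor.ON) : _) from
      hq.symm)
    rwa [← mul_assoc] at this
  have oy : orderOf (g⁻¹ * y * g) = 19 := by
    rw [show g⁻¹ * y * g = MulAut.conj g⁻¹ y by simp, MulEquiv.orderOf_eq, hy]
  have hc : g⁻¹ * y * g * (g⁻¹ * z * g) = g⁻¹ * z * g * (g⁻¹ * y * g) := by
    calc g⁻¹ * y * g * (g⁻¹ * z * g) = g⁻¹ * (y * z) * g := by group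
      _ = g⁻¹ * (z * y) * g := by rw [h]
      _ = _ := by group
  have oz : orderOf (g⁻¹ * z * g) = orderOf z := by
    rw [show g⁻¹ * z * g = MulAut.conj g⁻¹ z by simp, MulEquiv.orderOf_eq]
  rw [← oz] at hz
  generalize g⁻¹ * y * g = Y, g⁻¹ * z * g = Z at hy' oy hc hz
  have hZ : Z ∈ subL := by
    have hb : (Y : Spor.ON) • (QuotientGroup.mk 1 : Spor.ON ⧸ subL) = QuotientGroup.mk 1 := by
      show (QuotientGroup.mk (Y * 1) : Spor.ON ⧸ subL) = QuotientGroup.mk 1
      rw [mul_one, QuotientGroup.eq]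
      exact subL.mul_mem (subL.inv_mem hy') subL.one_mem
    have hf : Y • (Z • (QuotientGroup.mk 1 : Spor.ON ⧸ subL)) = Z • QuotientGroup.mk 1 := by
      rw [← mul_smul, hc, mul_smul, hb]
    have := fixed_base hy' oy hf
    rw [show Z • (QuotientGroup.mk 1 : Spor.ON ⧸ subL) = QuotientGroup.mk (Z * 1) from rfl,
      mul_one, QuotientGroup.eq] at this
    simpa using subL.inv_mem this
  have hd : orderOf Z ∣ 3753792 := card_subL ▸ Subgroup.orderOf_dvd_natCard _ hZ
  rcases hz with hz | hz | hz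
  · obtain ⟨M, hM, hM2, ⟨eM⟩⟩ := ONSevenIso.exists_normal
    have := hM
    have key : ∀ x : subL, Odd (orderOf x) → x ∈ M := by
      intro x ⟨m, hm⟩
      have h2 : x * x ∈ M := Subgroup.mul_self_mem_of_index_two hM2 x
      have : x = (x * x) ^ (m + 1) := by
        rw [← pow_two, ← pow_mul, show 2 * (m + 1) = 2 * m + 1 + 1 by ring, pow_succ, ← hm,
          pow_orderOf_eq_one, one_mul]
      rw [this]
      exact M.pow_mem h2 _
    have m1 := key ⟨Y, hy'⟩ (by rw [← Subgroup.orderOf_coe]; show Odd (orderOf Y); rw [oy]; decide)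
    have m2 := key ⟨Z, hZ⟩ (by rw [← Subgroup.orderOf_coe]; show Odd (orderOf Z); rw [hz]; decide)
    refine psl_no_commute (y := eM ⟨⟨Y, hy'⟩, m1⟩) (z := eM ⟨⟨Z, hZ⟩, m2⟩) ?_ ?_ ?_
    · rw [MulEquiv.orderOf_eq, ← Subgroup.orderOf_coe, ← Subgroup.orderOf_coe]; exact oy
    · rw [MulEquiv.orderOf_eq, ← Subgroup.orderOf_coe, ← Subgroup.orderOf_coe]; exact hz
    · rw [← map_mul, ← map_mul]
      exact congrArg eM (Subtype.ext (Subtype.ext hc))
  · rw [hz] at hd; norm_num at hd
  · rw [hz] at hd; norm_num at hd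

/-- All entries differ. -/
noncomputable def distinctN : List Nat → Bool
  | [] => true
  | x :: t => !(memN x t) && distinctN t

theorem distinctN_nodup : ∀ {l : List Nat}, distinctN l = true → l.Nodup
  | [], _ => List.nodup_nil
  | x :: t, h => by
    simp only [distinctN, Bool.and_eq_true, Bool.not_eq_true'] at h
    refine List.nodup_cons.2 ⟨fun hm => ?_, distinctN_nodup h.2⟩
    rw [memN_iff.2 hm] at h
    exact Bool.noConfusion h.1

theorem u_com : (uWords.all fun u => com u [1] && Nat.beq (tab.fwd u 0) 0) = true := by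
  decide +kernel

theorem u_distinct : distinctN uKeys = true := by decide +kernel

theorem good_distinct : distinctN goodPts = true := by decide +kernel

theorem u_length : uWords.length = 672 := by decide +kernel

/-- The order of the centraliser of `a`. -/
theorem card_cent : Nat.card (Subgroup.centralizer ({el [1]} : Set Spor.ON)) = 161280 := by
  have hu := u_com
  have hk := distinctN_nodup u_distinct
  have hg := distinctN_nodup good_distinct
  have hl := u_length
  obtain ⟨hU, hT, -⟩ := ok_lists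
  let C := Subgroup.centralizer ({el [1]} : Set Spor.ON)
  have hCe : Nat.card C = Nat.card {g : Spor.ON // g * el [1] = el [1] * g} :=
    Nat.card_congr (Equiv.subtypeEquivRight fun g => Subgroup.mem_centralizer_singleton_iff)
  refine le_antisymm ?_ ?_
  · rw [hCe]
    refine card_cent_le.trans ?_
    rw [hl, lengths.1]
  · have mu : ∀ i : Fin uWords.length, okW uWords[i.1] = true ∧
        el uWords[i.1] * el [1] = el [1] * el uWords[i.1] ∧ img (el uWords[i.1]) 0 = 0 := by
      intro i
      have h := List.all_eq_true.1 hu _ (List.getElem_mem i.2)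
      rw [Bool.and_eq_true] at h
      have ok := words hU (List.getElem_mem i.2)
      exact ⟨ok, (com_iff ok okW_one.1).1 h.1,
        (img_el (lt_of_okW ok) (by norm_num)).trans (Nat.eq_of_beq_eq_true h.2)⟩
    have mt : ∀ j : Fin tWords.length, okW tWords[j.1] = true ∧
        el tWords[j.1] * el [1] = el [1] * el tWords[j.1] ∧
        img (el tWords[j.1]) 0 = tab.fwd tWords[j.1] 0 := by
      intro j
      have ok := words hT (List.getElem_mem j.2)
      exact ⟨ok, (com_iff ok okW_one.1).1 (List.all_eq_true.1 t_spec.2 _ (List.getElem_mem j.2)),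
        img_el (lt_of_okW ok) (by norm_num)⟩
    let f : Fin uWords.length × Fin tWords.length → C := fun p =>
      ⟨el uWords[p.1.1] * el tWords[p.2.1], Subgroup.mem_centralizer_singleton_iff.2
        (show Commute _ _ from (mu p.1).2.1 |> fun a => Commute.mul_left a (mt p.2).2.1).eq⟩
    have hf : Function.Injective f := by
      rintro ⟨i, j⟩ ⟨i', j'⟩ he
      have e : el uWords[i.1] * el tWords[j.1] = el uWords[i'.1] * el tWords[j'.1] :=
        congrArg Subtype.val he
      have e0 := congrArg (fun g => img g 0) e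
      simp only [img_mul, (mu i).2.2, (mu i').2.2, (mt j).2.2, (mt j').2.2] at e0
      have hj : j = j' := by
        apply Fin.ext
        have hn : (tWords.map fun t => tab.fwd t 0).Nodup := t_spec.1 ▸ hg
        exact (List.Nodup.getElem_inj_iff hn (hi := by simp)
          (hj := by simp)).1 (by simpa using e0)
      subst hj
      have ei : el uWords[i.1] = el uWords[i'.1] := mul_right_cancel e
      have hi : i = i' := by
        apply Fin.ext
        have hn : (uWords.map kW).Nodup := u_keys.1 ▸ hk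
        exact (List.Nodup.getElem_inj_iff hn (hi := by simp)
          (hj := by simp)).1 (by
            simp only [List.getElem_map]
            rw [keyE_el (mu i).1, keyE_el (mu i').1, ei])
      subst hi
      rfl
    have := Nat.card_le_card_of_injective f hf
    rw [Nat.card_prod, Nat.card_fin, Nat.card_fin, hl, lengths.1] at this
    exact this

/-- No subgroup of odd order is transitive on the involutions. -/
theorem no_odd_transitive (D : Subgroup Spor.ON) (hodd : Odd (Nat.card D))
    (htr : ∀ g : Spor.ON, ∃ d ∈ D, d * el [1] * d⁻¹ = g * el [1] * g⁻¹) : False := by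
  classical
  let C := Subgroup.centralizer ({el [1]} : Set Spor.ON)
  have hON : Nat.card Spor.ON = 460815505920 := ONOrder.order_and_simple.2
  have hidx : C.index = 2857239 := by
    have := C.card_mul_index
    rw [card_cent, hON] at this
    omega
  have hdvd : 2857239 ∣ Nat.card D := by
    have horb : MulAction.orbit D (QuotientGroup.mk 1 : Spor.ON ⧸ C) = Set.univ := by
      refine Set.eq_univ_of_forall fun q => ?_
      obtain ⟨g, rfl⟩ := QuotientGroup.mk_surjective q
      obtain ⟨d, hd, hde⟩ := htr g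
      refine ⟨⟨d, hd⟩, ?_⟩
      show (QuotientGroup.mk (d * 1) : Spor.ON ⧸ C) = QuotientGroup.mk g
      rw [mul_one, QuotientGroup.eq, Subgroup.mem_centralizer_singleton_iff]
      calc d⁻¹ * g * el [1] = d⁻¹ * (g * el [1] * g⁻¹) * g := by group
        _ = d⁻¹ * (d * el [1] * d⁻¹) * g := by rw [hde]
        _ = el [1] * (d⁻¹ * g) := by group
    have h1 : (MulAction.stabilizer D (QuotientGroup.mk 1 : Spor.ON ⧸ C)).index = 2857239 := by
      rw [MulAction.index_stabilizer, horb, Set.ncard_univ, ← hidx]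
      rfl
    exact h1 ▸ Subgroup.index_dvd_card _
  have hle : Nat.card D ∣ 900030285 := by
    have h := Subgroup.card_subgroup_dvd_card D
    rw [hON, show (460815505920 : ℕ) = 2 ^ 9 * 900030285 by norm_num] at h
    exact (Nat.Coprime.pow_right 9 (Nat.coprime_two_right.2 hodd)).dvd_of_dvd_mul_left h
  obtain ⟨P⟩ : Nonempty (Sylow 19 D) := inferInstance
  have hP : Nat.card (P : Subgroup D) = 19 := by
    obtain ⟨k, hk⟩ := IsPGroup.iff_card.1 P.2
    have hd : 19 ∣ Nat.card (P : Subgroup D) :=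
      P.dvd_card_of_dvd_card ((show 19 ∣ 2857239 by norm_num).trans hdvd)
    match k with
    | 0 => rw [hk, pow_zero] at hd; norm_num at hd
    | 1 => simpa using hk
    | k + 2 =>
      exfalso
      have h2 : 19 ^ 2 ∣ 900030285 :=
        ((pow_dvd_pow 19 (show 2 ≤ k + 2 by omega)).trans
          (hk ▸ Subgroup.card_subgroup_dvd_card (P : Subgroup D))).trans hle
      norm_num at h2
  set N := Subgroup.normalizer ((P : Subgroup D) : Set D) with hN
  obtain ⟨x, hx⟩ := exists_prime_orderOf_dvd_card' (G := (P : Subgroup D)) 19 (by rw [hP])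
  have hgen : Subgroup.zpowers (x : D) = (P : Subgroup D) :=
    Subgroup.eq_of_le_of_card_ge (Subgroup.zpowers_le.2 x.2)
      (by rw [Nat.card_zpowers, hP, Subgroup.orderOf_coe, hx])
  have hx19 : orderOf (x : D) = 19 := by rw [Subgroup.orderOf_coe, hx]
  have key : ∀ q : ℕ, q.Prime → (q = 7 ∨ q = 11 ∨ q = 31) → ¬ q ∣ Nat.card N := by
    intro q hqp hq hdiv
    have := Fact.mk hqp
    obtain ⟨z, hz⟩ := exists_prime_orderOf_dvd_card' (G := N) q hdiv
    have hzo : orderOf ((z : D) : Spor.ON) = q := by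
      rw [Subgroup.orderOf_coe, Subgroup.orderOf_coe, hz]
    have hmem : (z : D) * x * (z : D)⁻¹ ∈ (P : Subgroup D) :=
      (Subgroup.mem_normalizer_iff.1 z.2 x).1 x.2
    obtain ⟨j, hj⟩ := (SetLike.ext_iff.1 hgen _).2 hmem
    replace hj : (z : D) * x * (z : D)⁻¹ = (x : D) ^ j := hj.symm
    have hjn : ∀ n : ℕ, (z : D) ^ n * x * ((z : D) ^ n)⁻¹ = (x : D) ^ (j ^ n) := by
      intro n
      induction n with
      | zero => simp
      | succ n ih =>
        calc (z : D) ^ (n + 1) * x * ((z : D) ^ (n + 1))⁻¹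
            = (z : D) * ((z : D) ^ n * x * ((z : D) ^ n)⁻¹) * (z : D)⁻¹ := by
              rw [pow_succ']; group
          _ = ((z : D) * x * (z : D)⁻¹) ^ (j ^ n) := by rw [ih, conj_zpow]
          _ = (x : D) ^ (j ^ (n + 1)) := by rw [hj, ← zpow_mul, pow_succ']
    have hq1 := hjn q
    rw [show (z : D) ^ q = 1 by rw [← hz, ← Subgroup.orderOf_coe, pow_orderOf_eq_one], one_mul,
      inv_one, mul_one] at hq1
    have hj19 : ((j : ℤ) : ZMod 19) ^ q = 1 := by
      have h1 : (x : D) ^ (j ^ q - 1) = 1 := by rw [zpow_sub_one, ← hq1, mul_inv_cancel]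
      have h2 := orderOf_dvd_iff_zpow_eq_one.2 h1
      rw [hx19] at h2
      have h3 := (ZMod.intCast_zmod_eq_zero_iff_dvd (j ^ q - 1) 19).2 h2
      push_cast at h3
      exact sub_eq_zero.1 h3
    have hj1 : ((j : ℤ) : ZMod 19) = 1 := by
      have hall : ∀ u : ZMod 19, (u ^ 7 = 1 → u = 1) ∧ (u ^ 11 = 1 → u = 1) ∧
          (u ^ 31 = 1 → u = 1) := by decide +kernel
      rcases hq with rfl | rfl | rfl
      · exact (hall _).1 hj19
      · exact (hall _).2.1 hj19
      · exact (hall _).2.2 hj19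
    have hcomm : (z : D) * x = x * (z : D) := by
      have h2 : (19 : ℤ) ∣ j - 1 := by
        refine (ZMod.intCast_zmod_eq_zero_iff_dvd (j - 1) 19).1 ?_
        push_cast
        rw [hj1, sub_self]
      have h3 : (x : D) ^ (j - 1) = 1 := orderOf_dvd_iff_zpow_eq_one.1 (by rw [hx19]; exact h2)
      rw [zpow_sub_one, mul_inv_eq_one] at h3
      rw [h3] at hj
      exact mul_inv_eq_iff_eq_mul.1 hj
    exact no_commute_19 (y := ((x : D) : Spor.ON)) (z := ((z : D) : Spor.ON))
      (by rw [Subgroup.orderOf_coe, hx19]) (by rwa [hzo])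
      (congrArg Subtype.val hcomm.symm)
  have hn1 : N.index % 19 = 1 := by
    have h := card_sylow_modEq_one 19 D
    rw [Sylow.card_eq_index_normalizer P] at h
    exact h
  have hmul := N.card_mul_index
  have h19N : 19 ∣ Nat.card N := hP ▸ Subgroup.card_dvd_of_le Subgroup.le_normalizer
  obtain ⟨r, hr⟩ := h19N
  have hn : N.index ∣ 47370015 := by
    have h : 19 * (N.index * r) ∣ 19 * 47370015 := by
      have := hle
      rw [← hmul, hr] at this
      convert this using 1
      ring
    exact (Dvd.intro r rfl).trans (Nat.dvd_of_mul_dvd_mul_left (by norm_num) h)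
  have h16 : 16709 ∣ N.index := by
    refine Nat.Coprime.dvd_of_dvd_mul_left ?_ (hmul.symm ▸
      (show 16709 ∣ 2857239 by norm_num).trans hdvd)
    have c7 := (Nat.Prime.coprime_iff_not_dvd (by norm_num : Nat.Prime 7)).2
      (key 7 (by norm_num) (by norm_num))
    have c11 := (Nat.Prime.coprime_iff_not_dvd (by norm_num : Nat.Prime 11)).2
      (key 11 (by norm_num) (by norm_num))
    have c31 := (Nat.Prime.coprime_iff_not_dvd (by norm_num : Nat.Prime 31)).2
      (key 31 (by norm_num) (by norm_num))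
    rw [show 16709 = 7 * 7 * 11 * 31 by norm_num]
    exact ((c7.mul_left c7).mul_left c11).mul_left c31
  obtain ⟨m, hm⟩ := h16
  have hall : ∀ m ∈ Nat.divisors 2835, 16709 * m % 19 ≠ 1 := by decide +kernel
  refine hall m (Nat.mem_divisors.2 ⟨?_, by norm_num⟩) (hm ▸ hn1)
  rw [hm, show (47370015 : ℕ) = 16709 * 2835 by norm_num] at hn
  exact Nat.dvd_of_mul_dvd_mul_left (by norm_num) hn

/-- An embedded copy containing the centraliser of an involution is everything. -/
theorem range_eq_top_of {G : Type*} [Group G] [Finite G] [IsSimpleGroup G] (θ : Spor.ON →* G)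
    (inj : Function.Injective θ)
    (cent_le : Subgroup.centralizer ({θ (el [1])} : Set G) ≤ θ.range) : θ.range = ⊤ := by
  classical
  by_contra hne
  set t := θ (el [1]) with htdef
  have ha2 : orderOf (el [1] : Spor.ON) = 2 := by
    have h1 : eqW [1, 1] [] = true := by decide +kernel
    have h2 : eqW [1] [] = false := by decide +kernel
    refine orderOf_eq_prime ?_ fun h => ?_
    · rw [pow_two, ← el_append, ← el_nil]
      exact (eq_iff (okW_append okW_one.1 okW_one.1) okW_nil).1 h1
    · rw [(eq_iff okW_one.1 okW_nil).2 (h.trans el_nil.symm)] at h2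
      cases h2
  have ht : orderOf t = 2 := by rw [htdef, orderOf_injective θ inj, ha2]
  have hconj : ∀ x ∈ θ.range, orderOf x = 2 → ∃ m, x = θ m * t * (θ m)⁻¹ := by
    rintro _ ⟨y, rfl⟩ hx
    rw [orderOf_injective θ inj] at hx
    obtain ⟨m, hm⟩ := involution_conj (y := y)
      (by rw [← pow_two, ← hx, pow_orderOf_eq_one])
      (fun h => by rw [h, orderOf_one] at hx; cases hx)
    refine ⟨m, ?_⟩
    rw [htdef, ← hm, ← map_inv, ← map_mul, ← map_mul]
    congr 1
    group
  have hse : Cfsg.IsStronglyEmbedded θ.range := by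
    refine ⟨hne, ?_, ?_⟩
    · rw [← Nat.card_congr (MonoidHom.ofInjective inj).toEquiv, even_iff_two_dvd, ← ha2]
      exact orderOf_dvd_natCard _
    intro g hg
    by_contra hev
    rw [Nat.not_odd_iff_even, even_iff_two_dvd] at hev
    have : Fact (Nat.Prime 2) := ⟨Nat.prime_two⟩
    obtain ⟨⟨x, hx1, hx2⟩, hx⟩ := exists_prime_orderOf_dvd_card' 2 hev
    replace hx : orderOf x = 2 := by rw [← hx, ← Subgroup.orderOf_coe]
    obtain ⟨x', hx', hxe⟩ := hx2
    replace hxe : g * x' * g⁻¹ = x := hxe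
    obtain ⟨m, hm⟩ := hconj x hx1 hx
    obtain ⟨n, hn⟩ := hconj x' hx' (by
      rw [← hx, ← hxe]; exact (Invol.orderOf_conj g x').symm)
    have hc : (θ m)⁻¹ * g * θ n ∈ θ.range := by
      refine cent_le (Subgroup.mem_centralizer_singleton_iff.2 ?_)
      calc (θ m)⁻¹ * g * θ n * t = (θ m)⁻¹ * (g * (θ n * t * (θ n)⁻¹) * g⁻¹) * (g * θ n) := by
            group
        _ = (θ m)⁻¹ * (θ m * t * (θ m)⁻¹) * (g * θ n) := by rw [← hn, hxe, hm]
        _ = t * ((θ m)⁻¹ * g * θ n) := by group
    apply hg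
    have := θ.range.mul_mem (θ.range.mul_mem ⟨m, rfl⟩ hc) (θ.range.inv_mem ⟨n, rfl⟩)
    convert this using 1
    group
  obtain ⟨u, hu, huH⟩ : ∃ u, orderOf u = 2 ∧ u ∉ θ.range := by
    by_contra! hall
    refine hne (top_le_iff.1 ?_)
    have h1 : Subgroup.normalClosure {t} = (⊤ : Subgroup G) := by
      refine (Subgroup.normalClosure_normal.eq_bot_or_eq_top).resolve_left fun h => ?_
      have : t ∈ Subgroup.normalClosure {t} := Subgroup.subset_normalClosure rfl
      rw [h, Subgroup.mem_bot] at this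
      rw [this, orderOf_one] at ht
      cases ht
    rw [← h1, Subgroup.normalClosure, Subgroup.closure_le]
    intro z hz
    obtain ⟨s, hs, hsz⟩ := Group.mem_conjugatesOfSet_iff.1 hz
    rw [Set.mem_singleton_iff] at hs
    subst hs
    obtain ⟨g, rfl⟩ := isConj_iff.1 hsz
    exact hall _ ((Invol.orderOf_conj g t).trans ht)
  set D := θ.range ⊓ θ.range.map (MulAut.conj u).toMonoidHom with hD
  refine no_odd_transitive (D.comap θ) ?_ fun g => ?_
  · have e : (D.comap θ).map θ = D := Subgroup.map_comap_eq_self inf_le_left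
    rw [← Subgroup.card_map_of_injective inj, e]
    exact hse.2.2 u huH
  obtain ⟨d, hd, hde⟩ := Invol.se_inter_transitive hse hu huH ht ⟨el [1], rfl⟩
    (show orderOf (θ (g * el [1] * g⁻¹)) = 2 by
      rw [orderOf_injective θ inj, Invol.orderOf_conj, ha2]) ⟨_, rfl⟩
  obtain ⟨d', rfl⟩ := hd.1
  refine ⟨d', hd, inj ?_⟩
  rw [map_mul, map_mul, map_inv]
  exact hde

end Cfsg.Agent.ONUniq
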