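import Cfsg.Agent.ONUniq.IdentTests
import Cfsg.Agent.ONUniq.Chart
import Cfsg.Agent.ONUniq.Exclude
import Cfsg.Agent.ONUniq.Range

/-!
The model of the involution centraliser is the centraliser of `a` in the presented group: both act in
the same way on 448 points, the conjugates of `b`.
-/

set_option autoImplicit false
set_option maxRecDepth 100000
set_option maxHeartbeats 1000000
set_option linter.style.haveILetI false

namespace Cfsg.Agent.ONUniq

open Cfsg.Agent.ONOut Cfsg.Agent.CosetCert Cfsg.Agent.Compute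

attribute [local irreducible] compCode idCode canonC powC DataA.chain DataA.gs DataA.gis DataA.zeta
  DataA.mask DataA.sig bTab0 bTab1 bTab3 bTab4 bTab5 bTab6 bTab7 bWords

/-- The two copies of the 224 points. -/
abbrev Pt : Type := Fin 224 × Bool

/-- The number of a point. -/
def ptN (p : Pt) : Nat := (p.1 : Nat) + cond p.2 224 0

theorem ptN_lt (p : Pt) : ptN p < 448 := by
  obtain ⟨x, e⟩ := p
  cases e <;> simp [ptN] <;> omega

theorem ptN_inj : Function.Injective ptN := by
  rintro ⟨x, e⟩ ⟨y, f⟩ h
  cases e <;> cases f <;> simp [ptN] at h <;>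
    first
      | (have := x.2; have := y.2; omega)
      | (obtain rfl : x = y := Fin.ext h; rfl)

theorem ptN_surj {n : Nat} (hn : n < 448) : ∃ p : Pt, ptN p = n := by
  by_cases h : n < 224
  · exact ⟨(⟨n, h⟩, false), by simp [ptN]⟩
  · exact ⟨(⟨n - 224, by omega⟩, true), by simp [ptN]; omega⟩

/-- The conjugate of `b` attached to a point. -/
noncomputable def bEl (p : Pt) : Spor.ON := el (bW (ptN p))

theorem bEl_inj : Function.Injective bEl := by
  intro p q h
  refine ptN_inj ?_
  have hp := (CosetCert.allFrom_iff _ _ _).1 bW_ok _ (Nat.zero_le _) (by have := ptN_lt p; omega)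
  have hq := (CosetCert.allFrom_iff _ _ _).1 bW_ok _ (Nat.zero_le _) (by have := ptN_lt q; omega)
  have hk : kW (bW (ptN p)) = kW (bW (ptN q)) := by
    rw [keyE_el hp, keyE_el hq]
    exact congrArg keyE h
  refine (List.Nodup.getElem_inj_iff bW_nodup (hi := by simpa using ptN_lt p)
    (hj := by simpa using ptN_lt q)).1 ?_
  simpa using hk

theorem bEv_spec : ∀ {w : List Nat}, w.all isC = true → ∀ p : Pt, ∃ q : Pt,
    ptN q = bEv w (ptN p) ∧ el w * bEl p * (el w)⁻¹ = bEl q := by
  intro w
  induction w with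
  | nil => intro _ p; exact ⟨p, rfl, by rw [el_nil, one_mul, inv_one, mul_one]⟩
  | cons l t ih =>
    intro hw p
    simp only [List.all_cons, Bool.and_eq_true] at hw
    obtain ⟨r, hr, he⟩ := ih hw.2 p
    have hl : l ∈ [0, 1, 3, 4, 5, 6, 7] := by
      have h1 := hw.1
      simp only [isC, Bool.and_eq_true, Bool.not_eq_true'] at h1
      have h8 := Nat.ble_eq.mp h1.2
      have h2 := Nat.ne_of_beq_eq_false h1.1
      simp only [List.mem_cons, List.not_mem_nil, or_false]
      omega
    have h := (CosetCert.allFrom_iff _ _ _).1 (List.all_eq_true.1 bStep_ok l hl) (ptN r)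
      (Nat.zero_le _) (by have := ptN_lt r; omega)
    simp only [Bool.and_eq_true, Nat.beq_eq] at h
    obtain ⟨hlt, hk⟩ := h
    obtain ⟨q, hq⟩ := ptN_surj (Nat.ble_eq.mp hlt)
    refine ⟨q, hq.trans ?_, ?_⟩
    · show bStep l (ptN r) = bEv (l :: t) (ptN p)
      rw [hr]
      rfl
    · have hlw : okW [l] = true := okW_of_isC (by simp [hw.1])
      have h1 := (CosetCert.allFrom_iff _ _ _).1 bW_ok _ (Nat.zero_le _)
        (show ptN r < 0 + 448 by have := ptN_lt r; omega)
      have h2 := (CosetCert.allFrom_iff _ _ _).1 bW_ok _ (Nat.zero_le _)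
        (show ptN q < 0 + 448 by have := ptN_lt q; omega)
      rw [← hq] at hk
      have e : el [l] * bEl r = bEl q * el [l] := by
        have e' := keyE_inj ((keyE_el (okW_append hlw h1)).symm.trans
          (hk.trans (keyE_el (okW_append h2 hlw))))
        rwa [el_append, el_append] at e'
      rw [show el (l :: t) = el [l] * el t from el_append [l] t, mul_inv_rev,
        show el [l] * el t * bEl p * ((el t)⁻¹ * (el [l])⁻¹) =
          el [l] * (el t * bEl p * (el t)⁻¹) * (el [l])⁻¹ by group, he, e, mul_inv_cancel_right]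

theorem conj_mem_range {g : Spor.ON} (hg : g ∈ C0) (p : Pt) : ∃ q : Pt, bEl q = g * bEl p * g⁻¹ := by
  obtain ⟨w, hw, rfl⟩ := exists_word hg
  obtain ⟨q, -, hq⟩ := bEv_spec hw p
  exact ⟨q, hq.symm⟩

/-- Conjugation on the points. -/
noncomputable def bAct : C0 →* Function.End Pt where
  toFun g := fun p => (conj_mem_range g.2 p).choose
  map_one' := funext fun p => bEl_inj ((conj_mem_range (one_mem C0) p).choose_spec.trans (by
    show 1 * bEl p * 1⁻¹ = bEl p
    group))
  map_mul' g h := funext fun p => bEl_inj ((conj_mem_range (mul_mem g.2 h.2) p).choose_spec.trans (by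
    show _ = bEl ((conj_mem_range g.2 ((conj_mem_range h.2 p).choose)).choose)
    rw [(conj_mem_range g.2 ((conj_mem_range h.2 p).choose)).choose_spec,
      (conj_mem_range h.2 p).choose_spec]
    group))

/-- The action of `C(a)` on the 448 points. -/
noncomputable def bPerm : C0 →* Equiv.Perm Pt := bAct.toHomPerm

theorem bPerm_word {w : List Nat} (hw : w.all isC = true) (p : Pt) :
    ptN (bPerm ⟨el w, el_mem_C0 hw⟩ p) = bEv w (ptN p) := by
  obtain ⟨q, hq, he⟩ := bEv_spec hw p
  rw [← hq]
  exact congrArg ptN (bEl_inj ((conj_mem_range (el_mem_C0 hw) p).choose_spec.trans he))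

/-- The cover acting on both copies. -/
noncomputable def mPerm : (kd false).Mg →* Equiv.Perm Pt where
  toFun m := Equiv.prodCongrLeft fun e =>
    ((cond e (goodData.σ m) m : (kd false).Mg) : Equiv.Perm (Fin 224))
  map_one' := Equiv.ext fun ⟨x, e⟩ => by cases e <;> simp
  map_mul' m n := Equiv.ext fun ⟨x, e⟩ => by cases e <;> simp

/-- The exchange of the copies. -/
def flipP : Equiv.Perm Pt := Equiv.prodCongr (Equiv.refl _) Equiv.boolNot

theorem good_z : goodData.z = 1 := by
  rw [goodData_spec.2, show kVal ((kd false).eps.getD ((2 : Fin 3) : ℕ) 0) 0 = 0 from rfl, pow_zero]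

theorem flip_conj (m : (kd false).Mg) : flipP * mPerm m * flipP⁻¹ = mPerm (goodData.σ m) := by
  rw [mul_inv_eq_iff_eq_mul]
  ext ⟨x, e⟩ <;> cases e <;> simp [flipP, mPerm, goodData.sq]

theorem flip_sq : flipP * flipP = mPerm goodData.z := by
  rw [good_z, map_one]
  ext ⟨x, e⟩ <;> cases e <;> simp [flipP]

/-- The model on the points. -/
noncomputable def iota : CGood →* Equiv.Perm Pt := Ext.lift goodData mPerm flipP flip_conj flip_sq

theorem iota_inj : Function.Injective iota := by
  refine (injective_iff_map_eq_one _).2 ?_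
  rintro ⟨m, e⟩ h
  cases e
  · have h' : mPerm m = 1 := (mul_one _).symm.trans h
    refine Ext.ext (Subtype.ext (Equiv.ext fun x => ?_)) rfl
    exact congrArg Prod.fst (Equiv.congr_fun h' (x, false))
  · have h' : mPerm m * flipP = 1 := h
    have := congrArg Prod.snd (Equiv.congr_fun h' (⟨0, by norm_num⟩, false))
    simp [flipP, mPerm] at this

theorem twB_spec {g : ℕ} {w : List Nat} (hw : w.all isC = true) (hg : (kd false).InM g)
    (h : twB g w = true) :
    bPerm ⟨el w, el_mem_C0 hw⟩ = iota (elX goodData g false) := by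
  refine Equiv.ext fun p => ptN_inj ?_
  rw [bPerm_word hw]
  have hG := good_of_cand goodData_spec
  obtain ⟨x, e⟩ := p
  have h' := allBelow_eq_true.mp h x x.2
  simp only [Bool.and_eq_true, Nat.beq_eq] at h'
  show _ = ptN ((mPerm ((kd false).el g) * cond false flipP 1) (x, e))
  rw [cond_false, mul_one]
  cases e
  · show bEv w (x : ℕ) = ((((kd false).el g : (kd false).Mg) : Equiv.Perm (Fin 224)) x : ℕ)
    rw [h'.1, KData.el_val hg, act224 hg.1]
  · show bEv w ((x : ℕ) + 224) =
      (((goodData.σ ((kd false).el g) : (kd false).Mg) : Equiv.Perm (Fin 224)) x : ℕ) + 224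
    rw [h'.2, hG.σ, KData.el_val hg, Equiv.Perm.mul_apply, Equiv.Perm.mul_apply, ← hG.pinv,
      act224 hG.pok, act224 hg.1, act224 hG.piok]
    rfl

theorem exists_pre (y : CGood) : ∃ x : C0, bPerm x = iota y := by
  suffices h : iota.range ≤ bPerm.range by exact h ⟨y, rfl⟩
  have hc : flipP ∈ bPerm.range := by
    refine ⟨⟨el [3], el_mem_C0 rfl⟩, Equiv.ext fun p => ptN_inj ?_⟩
    rw [bPerm_word rfl]
    obtain ⟨x, e⟩ := p
    have h' := allBelow_eq_true.mp outer_ok x x.2
    simp only [Bool.and_eq_true, Nat.beq_eq] at h'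
    cases e
    · exact h'.1
    · exact h'.2
  have hm : ∀ m, mPerm m ∈ bPerm.range := by
    suffices h : (⊤ : Subgroup (kd false).Mg) ≤ bPerm.range.comap mPerm from fun m => h trivial
    intro m _
    have hm : (m : Equiv.Perm (Fin 224)) ∈
        ((bPerm.range.comap mPerm).map (kd false).Mg.subtype : Subgroup (Equiv.Perm (Fin 224))) := by
      refine (Subgroup.closure_le _).2 ?_ m.2
      rintro _ ⟨c, hc', rfl⟩
      have hc'' : c ∈ topGens DataA.chain := hc'
      obtain ⟨i, hi, rfl⟩ := List.getElem_of_mem hc''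
      have hi' : i < lWords.length := gens_ok.2.symm ▸ hi
      have hh := List.all_eq_true.1 gens_ok.1 ((topGens DataA.chain)[i], lWords[i])
        (List.mem_iff_getElem.2 ⟨i, by simpa using ⟨hi, hi'⟩, List.getElem_zip⟩)
      simp only [Bool.and_eq_true] at hh
      have hok : rep224.Ok (topGens DataA.chain)[i] := by
        have hch := (kd_checked false).chain
        change rep224.checkChain DataA.chain = true at hch
        revert hc'' hch
        generalize (topGens DataA.chain)[i] = c
        generalize DataA.chain = L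
        intro hcm hch
        cases L with
        | nil => simp [topGens] at hcm
        | cons L Ls =>
          rw [rep224.checkChain_cons, Bool.and_eq_true] at hch
          exact (rep224.levelOK_of_check hch.1).gens_ok _ hcm
      have hin : (kd false).InM (topGens DataA.chain)[i] :=
        ⟨hok, rep224.den_mem_span hc'⟩
      refine ⟨(kd false).el (topGens DataA.chain)[i], ?_, KData.el_val hin⟩
      refine ⟨⟨el lWords[i], el_mem_C0 hh.1⟩, ?_⟩
      rw [twB_spec hh.1 hin hh.2]
      exact mul_one _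
    obtain ⟨m', hm', e⟩ := hm
    rwa [Subtype.ext e] at hm'
  rintro _ ⟨⟨m, e⟩, rfl⟩
  cases e
  · show mPerm m * 1 ∈ bPerm.range
    rw [mul_one]
    exact hm m
  · exact mul_mem (hm m) hc

theorem card_C0 : Nat.card C0 = 161280 := card_cent

theorem card_CGood : Nat.card CGood = 161280 := by
  rw [Ext.card_ext, KData.card_Mg (kd_checked false)]

/-- The model is the centraliser of `a`. -/
theorem exists_model_iso : ∃ i : CGood ≃* C0, i tGood = ⟨onA, onA_mem⟩ ∧
    ∃ k : C0, i vGood = k * ⟨onF, onF_mem⟩ * k⁻¹ := by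
  haveI : Finite C0 := Nat.finite_of_card_ne_zero (by rw [card_C0]; norm_num)
  haveI : Finite CGood := Nat.finite_of_card_ne_zero (by rw [card_CGood]; norm_num)
  choose j hj using exists_pre
  have jinj : Function.Injective j := fun a b h => iota_inj (by rw [← hj, ← hj, h])
  have hb : Function.Bijective j :=
    (Nat.bijective_iff_injective_and_card j).2 ⟨jinj, by rw [card_CGood, card_C0]⟩
  have binj : Function.Injective bPerm := by
    intro x y h
    obtain ⟨a, rfl⟩ := hb.2 x
    obtain ⟨b, rfl⟩ := hb.2 y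
    rw [hj, hj] at h
    rw [iota_inj h]
  let jh : CGood →* C0 := MonoidHom.mk' j fun a b => binj (by rw [map_mul, hj, hj, hj, map_mul])
  refine ⟨MulEquiv.ofBijective jh hb, ?_, ?_⟩
  · refine binj ((hj _).trans ?_)
    have hz := KData.zeta_spec (kd_checked false)
    obtain ⟨h1, h2⟩ := hz.1.pow 2
    refine Eq.trans ?_ (twB_spec (g := powC (kd false).zeta 2) (w := [1]) rfl h1 a_ok).symm
    show iota (tX goodData) = iota (elX goodData (powC (kd false).zeta 2) false)
    refine congrArg iota (Ext.ext ?_ rfl)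
    exact h2.symm
  · have hin : (kd false).InM CertVA.cert.v :=
      (v_facts (good_of_cand goodData_spec) vA_ok).1
    have hv : vWord.all isC = true := by decide
    have hk : vkWord.all isC = true := by decide
    refine ⟨⟨el vkWord, el_mem_C0 hk⟩, ?_⟩
    have e : (⟨el vkWord, el_mem_C0 hk⟩ : C0) * ⟨onF, onF_mem⟩ * (⟨el vkWord, el_mem_C0 hk⟩)⁻¹ =
        ⟨el vWord, el_mem_C0 hv⟩ := by
      refine Subtype.ext ?_
      show el vkWord * onF * (el vkWord)⁻¹ = el vWord
      have h := (eq_iff (okW_append (okW_of_isC hk) okW_one.2)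
        (okW_append (okW_of_isC hv) (okW_of_isC hk))).1 vk_ok
      rw [el_append, el_append] at h
      rw [h, mul_inv_cancel_right]
    rw [e]
    exact binj ((hj _).trans (twB_spec hv hin v_ok).symm)

open Subgroup in
/-- The data for the amalgam. -/
theorem exists_centData {G : Type*} [Group G] [Finite G] [IsSimpleGroup G] (t : G) (ht : orderOf t = 2)
    (M : Subgroup (centralizer ({t} : Set G))) [M.Normal] (hM : M.index = 2)
    (hout : centralizer (M : Set (centralizer ({t} : Set G))) ≤ M)
    (hZc : IsCyclic (center M)) (hZ4 : Nat.card (center M) = 4) (hperf : commutator M = ⊤)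
    (F : Type) [Field F] [Fintype F] (hF : Fintype.card F = 4)
    (e : M ⧸ center M ≃* Matrix.ProjectiveSpecialLinearGroup (Fin 3) F) : Nonempty (CentData t) := by
  obtain ⟨ψ, hψ, g, hg1, hg2⟩ := exists_good t ht M hM hout hZc hZ4 hperf F hF e
  obtain ⟨i, hia, k, hiv⟩ := exists_model_iso
  set j := i.symm.trans ψ with hj
  have hja : (j ⟨onA, onA_mem⟩ : G) = t := by
    rw [← hia, hj, MulEquiv.trans_apply, MulEquiv.symm_apply_apply]
    exact hψ
  have hjv : (j (k * ⟨onF, onF_mem⟩ * k⁻¹) : G) = (ψ vGood : G) := by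
    rw [← hiv, hj, MulEquiv.trans_apply, MulEquiv.symm_apply_apply]
  refine ⟨⟨(MulAut.conj k).trans j, ?_, g, ?_, ?_⟩⟩
  · show (j (k * ⟨onA, onA_mem⟩ * k⁻¹) : G) = t
    have hka : k * ⟨onA, onA_mem⟩ * k⁻¹ = ⟨onA, onA_mem⟩ :=
      mul_inv_eq_iff_eq_mul.2 (Subtype.ext (mem_C0.1 k.2))
    rw [hka, hja]
  · show g * t * g⁻¹ = (j (k * ⟨onF, onF_mem⟩ * k⁻¹) : G)
    rw [hjv, hg2]
  · show g * (j (k * ⟨onF, onF_mem⟩ * k⁻¹) : G) * g⁻¹ = t
    rw [hjv, hg1]

end Cfsg.Agent.ONUniq
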