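import Cfsg.Agent.ONUniq.IdentData
import Cfsg.Agent.ONUniq.CertDef
import Cfsg.Agent.ONUniq.CertVA
import Cfsg.Agent.ONOut.Defs

/-!
Kernel checks: the conjugates of `b` under `C(a)` and the model on twice 224 points.
-/

set_option autoImplicit false
set_option maxRecDepth 100000
set_option maxHeartbeats 0
set_option Elab.async false

namespace Cfsg.Agent.ONUniq

open Cfsg.Agent.ONOut Cfsg.Agent.CosetCert Cfsg.Agent.Compute

/-- The packed permutation of a letter. -/
def bTabOf (l : Nat) : Nat :=
  if l = 0 then bTab0 else if l = 1 then bTab1 else if l = 3 then bTab3 else if l = 4 then bTab4 else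
    if l = 5 then bTab5 else if l = 6 then bTab6 else bTab7

/-- The image of a point under a letter. -/
def bStep (l p : Nat) : Nat := Nat.land (Nat.shiftRight (bTabOf l) (16 * p)) 65535

/-- The image of a point under a word. -/
def bEv (w : List Nat) (p : Nat) : Nat := w.foldr bStep p

/-- The word of a point. -/
def bW (p : Nat) : List Nat := bWords.getD p []

theorem bW_ok : Cfsg.Agent.CosetCert.allFrom (fun p => okW (bW p)) 0 448 = true := by decide +kernel

theorem bW_nodup : ((List.range 448).map fun p => kW (bW p)).Nodup := by decide +kernel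

theorem bStep_ok : ([0, 1, 3, 4, 5, 6, 7].all fun l => Cfsg.Agent.CosetCert.allFrom (fun p =>
    Nat.blt (bStep l p) 448 && Nat.beq (kW ([l] ++ bW p)) (kW (bW (bStep l p) ++ [l]))) 0 448) = true := by
  decide +kernel

/-- A word acts as the given map on the first copy and as the twisted one on the second. -/
noncomputable def twB (g : ℕ) (w : List Nat) : Bool :=
  allBelow 224 fun x => Nat.beq (bEv w x) (getField 8 g x) &&
    Nat.beq (bEv w (x + 224))
      (getField 8 (mkCtx kA 2 0).p (getField 8 g (getField 8 (mkCtx kA 2 0).pi x)) + 224)

theorem gens_ok : ((topGens DataA.chain).zip lWords).all (fun e =>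
    e.2.all (fun l => !(Nat.beq l 2) && Nat.blt l 8) && twB e.1 e.2) = true ∧
    lWords.length = (topGens DataA.chain).length := by decide +kernel

theorem outer_ok : (allBelow 224 fun x => Nat.beq (bEv [3] x) (x + 224) &&
    Nat.beq (bEv [3] (x + 224)) x) = true := by decide +kernel

theorem a_ok : twB (powC kA.zeta 2) [1] = true := by decide +kernel

theorem v_ok : twB CertVA.cert.v vWord = true := by decide +kernel

theorem vk_ok : eqW (vkWord ++ [6]) (vWord ++ vkWord) = true := by decide +kernel

end Cfsg.Agent.ONUniq
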