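import Cfsg.Agent.SLMult.L34
import Cfsg.Agent.ONUniq.DataA
import Cfsg.Agent.ONUniq.DataB
import Cfsg.Agent.ONUniq.DataL

/-!
Executable descriptions of the two covering groups 4.L3(4) on 224 points, and the predicates the
kernel checks on them.
-/

set_option autoImplicit false
set_option maxRecDepth 100000

namespace Cfsg.Agent.ONUniq

open Cfsg.Agent.Compute

/-- Permutations of 224 points. -/
noncomputable def rep224 : Rep (Equiv.Perm (Fin 224)) (Fin 224) :=
  permRep 8 224 (Equiv.refl _) (by norm_num) (by norm_num)

/-- The data of a covering group. -/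
structure KData where
  /-- the stabiliser chain -/
  chain : List Level
  /-- the five generators -/
  gs : List ℕ
  /-- their inverses -/
  gis : List ℕ
  /-- the central element of order four -/
  zeta : ℕ
  /-- the six-sets of plane points -/
  mask : ℕ
  /-- three normalising permutations with inverses -/
  sig : List (ℕ × ℕ)
  /-- the exponents of the action on the centre -/
  eps : List ℕ
  /-- images of the kernel of the cover under the three twisted maps -/
  chi : List (ℕ × ℕ)

/-- The cover with multiplier part (1,0). -/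
noncomputable def kA : KData :=
  ⟨DataA.chain, DataA.gs, DataA.gis, DataA.zeta, DataA.mask, DataA.sig, [3, 1, 3], DataA.chi⟩

/-- The cover with multiplier part (1,2). -/
noncomputable def kB : KData :=
  ⟨DataB.chain, DataB.gs, DataB.gis, DataB.zeta, DataB.mask, DataB.sig, [1, 3, 3], DataB.chi⟩

/-- A product of generators, as a code of width `wd` on `n` points. -/
noncomputable def evalC (wd n : ℕ) (g : List ℕ) (w : List ℕ) : ℕ :=
  List.rec (motive := fun _ => ℕ) (idCode wd n) (fun s _ r => compCode wd n (g.getD s 0) r) w

/-- The inverse of a product of generators. -/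
noncomputable def evalI (wd n : ℕ) (gi : List ℕ) (w : List ℕ) : ℕ :=
  List.rec (motive := fun _ => ℕ) (idCode wd n) (fun s _ r => compCode wd n r (gi.getD s 0)) w

/-- The three word lists: the generators, and the twists by the diagonal automorphism. -/
noncomputable def twistW (i s : ℕ) : List ℕ :=
  cond (Nat.beq i 0) [s] ((DataL.dwords.getD (i - 1) []).getD s [])

/-- A power of a code. -/
noncomputable def powC (c n : ℕ) : ℕ :=
  Nat.rec (motive := fun _ => ℕ) (idCode 8 224) (fun _ r => compCode 8 224 c r) n

/-- A power of the diagonal permutation. -/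
noncomputable def dpow (n : ℕ) : ℕ :=
  Nat.rec (motive := fun _ => ℕ) (idCode 5 21) (fun _ r => compCode 5 21 DataL.dperm r) n

/-- A conjugate code. -/
noncomputable def conjC (p pi c : ℕ) : ℕ := compCode 8 224 (compCode 8 224 p c) pi

/-- The canonical code. -/
noncomputable def canonC (c : ℕ) : ℕ := pack 8 224 (getField 8 c)

/-- The codes denote different permutations. -/
noncomputable def neB (p q : ℕ) : Bool := !Nat.beq (canonC p) (canonC q)

/-- One bit. -/
noncomputable def bitB (m q : ℕ) : Bool := Nat.beq (Nat.land (Nat.shiftRight m q) 1) 1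

/-- The product of commutators of twisted generators. -/
noncomputable def commC (K : KData) (i : ℕ) (l : List (ℕ × ℕ)) : ℕ :=
  List.rec (motive := fun _ => ℕ) (idCode 8 224)
    (fun p _ r => compCode 8 224
      (compCode 8 224
        (compCode 8 224 (compCode 8 224 (evalC 8 224 K.gs (twistW i p.1)) (evalC 8 224 K.gs (twistW i p.2)))
          (evalI 8 224 K.gis (twistW i p.1))) (evalI 8 224 K.gis (twistW i p.2))) r) l

/-- The checks on one generator. -/
noncomputable def genB (K : KData) (s : ℕ) : Bool :=
  rep224.okb (K.gs.getD s 0) && rep224.okb (K.gis.getD s 0) &&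
    Nat.beq (compCode 8 224 (K.gis.getD s 0) (K.gs.getD s 0)) (idCode 8 224) &&
    Nat.beq (rep224.sift K.chain (K.gs.getD s 0)) (idCode 8 224) &&
    allBelow 224 (fun x => allBelow 21 (fun q =>
      !bitB (getField 21 K.mask x) q ||
        bitB (getField 21 K.mask (getField 8 (K.gs.getD s 0) x))
          (getField 5 (SLMult.L34.codes.getD s 0) q)))

/-- The six-sets separate the points. -/
noncomputable def sepB (K : KData) (q : ℕ) : Bool :=
  Nat.beq (Nat.rec (motive := fun _ => ℕ) 2097151
    (fun x r => cond (bitB (getField 21 K.mask x) q) (Nat.land r (getField 21 K.mask x)) r) 224)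
    (Nat.shiftLeft 1 q)

/-- The checks on the central element. -/
noncomputable def zetaB (K : KData) : Bool :=
  rep224.okb K.zeta && Nat.beq (rep224.sift K.chain K.zeta) (idCode 8 224) &&
    allBelow 5 (fun s => Nat.beq (compCode 8 224 (K.gs.getD s 0) K.zeta)
      (compCode 8 224 K.zeta (K.gs.getD s 0))) &&
    Nat.beq (powC K.zeta 4) (idCode 8 224) && neB (powC K.zeta 2) (idCode 8 224)

/-- The fixed points of the point stabiliser are one orbit of the centre. -/
noncomputable def fixB (K : KData) : Bool :=
  Nat.beq (K.chain.getD 0 ⟨0, 0, id, .nil, []⟩).base 0 &&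
    Nat.beq (K.chain.getD 0 ⟨0, 0, id, .nil, []⟩).size 224 &&
    allBelow 224 (fun x =>
      (K.chain.getD 1 ⟨0, 0, id, .nil, []⟩).gens.any (fun g => !Nat.beq (getField 8 g x) x) ||
        memB x [getField 8 (powC K.zeta 0) 0, getField 8 (powC K.zeta 1) 0,
          getField 8 (powC K.zeta 2) 0, getField 8 (powC K.zeta 3) 0])

/-- The images of the kernel of the cover. -/
noncomputable def chiB (K : KData) (i : ℕ) : Bool :=
  Nat.beq (commC K i (SLMult.L34.centPairs.getD 1 [])) (powC K.zeta (K.chi.getD i (0, 0)).1) &&
    Nat.beq (commC K i (SLMult.L34.centPairs.getD 2 [])) (powC K.zeta (K.chi.getD i (0, 0)).2)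

/-- The checks on one normalising permutation. -/
noncomputable def sigB (K : KData) (a : ℕ) : Bool :=
  rep224.okb (K.sig.getD a (0, 0)).1 && rep224.okb (K.sig.getD a (0, 0)).2 &&
    Nat.beq (compCode 8 224 (K.sig.getD a (0, 0)).2 (K.sig.getD a (0, 0)).1) (idCode 8 224) &&
    allBelow 5 (fun s =>
      Nat.beq (rep224.sift K.chain
        (conjC (K.sig.getD a (0, 0)).1 (K.sig.getD a (0, 0)).2 (K.gs.getD s 0))) (idCode 8 224) &&
      Nat.beq (conjC (K.sig.getD a (0, 0)).1 (K.sig.getD a (0, 0)).2
        (conjC (K.sig.getD a (0, 0)).1 (K.sig.getD a (0, 0)).2 (K.gs.getD s 0))) (canonC (K.gs.getD s 0))) &&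
    Nat.beq (conjC (K.sig.getD a (0, 0)).1 (K.sig.getD a (0, 0)).2 K.zeta)
      (powC K.zeta (K.eps.getD a 0)) &&
    neB (rep224.sift K.chain (K.sig.getD a (0, 0)).1) (idCode 8 224) &&
    allBelow a (fun b => neB
      (rep224.sift K.chain (compCode 8 224 (K.sig.getD b (0, 0)).2 (K.sig.getD a (0, 0)).1))
      (idCode 8 224))

/-- The checks on the diagonal permutation and its words. -/
noncomputable def dB : Bool :=
  codePermB 5 21 DataL.dperm && Nat.beq (dpow 3) (idCode 5 21) &&
    allBelow 2 (fun i => allBelow 5 (fun s =>
      (twistW (i + 1) s).all (fun x => Nat.blt x 5) &&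
      Nat.beq (compCode 5 21 (dpow (i + 1))
          (compCode 5 21 (SLMult.L34.codes.getD s 0) (dpow (2 - i))))
        (evalC 5 21 SLMult.L34.codes (twistW (i + 1) s))))

/-- All the checks on a covering group. -/
structure KData.Checked (K : KData) : Prop where
  chain : rep224.checkChain K.chain = true
  size : chainSize K.chain = 80640
  gen : allBelow 5 (genB K) = true
  sep : allBelow 21 (sepB K) = true
  zeta : zetaB K = true
  fix' : fixB K = true
  chi : allBelow 3 (chiB K) = true
  sig : allBelow 3 (sigB K) = true

end Cfsg.Agent.ONUniq
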