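import Cfsg.Agent.ONUniq.HomForm
import Cfsg.Agent.ONSevenIso.Main
import Cfsg.Agent.AutPSL.Structure
import Cfsg.Agent.AutPSL.BalanceField
import Cfsg.Agent.Classical.LinearBasic
import Cfsg.Agent.CosetCert.ONIndex122760.Orbit0Data
import Cfsg.Agent.CosetCert.ONIndex122760.Orbit1Data
import Cfsg.Agent.CosetCert.ONIndex122760.Orbit2Data
import Cfsg.Agent.CosetCert.ONIndex122760.Orbit3Data

/-!
The subgroups `L₃(7):2` of a group isomorphic to the presented O'Nan group: one exists, and every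
one has index 122760 with the four suborbits 6384, 5586, 58653, 52136.
-/

set_option autoImplicit false
set_option maxHeartbeats 1000000
set_option maxRecDepth 100000

namespace Cfsg.Agent.ONUniq

open Cfsg.Agent.CosetCert Cfsg.Agent.ONOut

/-- `L₃(7)`. -/
abbrev P37 : Type := Matrix.ProjectiveSpecialLinearGroup (Fin 3) (ZMod 7)

theorem conj_inj : Function.Injective (MulAut.conj : P37 →* MulAut P37) :=
  AutPSL.conj_injective 7 (by norm_num)

theorem card_mulAut_p37 : Nat.card (MulAut P37) = 6 * 1876896 := by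
  have : Fact (Nat.Prime 7) := ⟨by norm_num⟩
  have h := AutPSL.card_mulAut (F := ZMod 7) (n := 3) 7
    (AutPSL.isComplementHom_three (F := ZMod 7) (n := 3) 7 le_rfl) (by norm_num)
  have hg : Nat.card (ZMod 7 ≃+* ZMod 7) = 1 :=
    (AutPSL.card_gal (p := 7) (f := 1) le_rfl (by rw [ZMod.card, pow_one])).2
  have hs := Cfsg.Agent.Classical.card_psl_mul (ι := Fin 3) (F := ZMod 7)
  rw [Fintype.card_fin, ZMod.card, ONSevenIso.card_psl] at hs
  rw [h, Nat.card_prod, hg, Cfsg.Agent.Classical.card_pgl, ← hs,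
    Nat.card_congr Multiplicative.toAdd, Nat.card_zmod]
  norm_num

theorem card_inn_p37 : Nat.card (Cfsg.Inn P37) = 1876896 := by
  rw [Nat.card_congr (MonoidHom.ofInjective conj_inj).symm.toEquiv, ONSevenIso.card_psl]

theorem card_of_index_two {K : Type*} [Group K] (N : Subgroup K) (hN : N.index = 2)
    (eN : N ≃* P37) : Nat.card K = 3753792 := by
  rw [← N.card_mul_index, hN, Nat.card_congr eN.toEquiv, ONSevenIso.card_psl]

/-- The automorphism group of `L₃(7)` contains, up to isomorphism, one extension of index two. -/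
theorem overgroups_iso {R₁ R₂ : Subgroup (MulAut P37)} (h₁ : Cfsg.Inn P37 ≤ R₁)
    (h₂ : Cfsg.Inn P37 ≤ R₂) (c₁ : Nat.card R₁ = 3753792) (c₂ : Nat.card R₂ = 3753792) :
    Nonempty (R₁ ≃* R₂) := by
  classical
  have : Fact (Nat.Prime 2) := ⟨Nat.prime_two⟩
  have : Finite (MulAut P37) := Nat.finite_of_card_ne_zero (by rw [card_mulAut_p37]; norm_num)
  let π := QuotientGroup.mk' (Cfsg.Inn P37)
  have hsurj : Function.Surjective π := QuotientGroup.mk'_surjective _
  have hker : π.ker = Cfsg.Inn P37 := QuotientGroup.ker_mk' _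
  have hQ : Nat.card (MulAut P37 ⧸ Cfsg.Inn P37) = 6 := by
    have h := (Cfsg.Inn P37).card_eq_card_quotient_mul_card_subgroup
    rw [card_mulAut_p37, card_inn_p37] at h
    omega
  have hcard : ∀ R : Subgroup (MulAut P37), Cfsg.Inn P37 ≤ R → Nat.card R = 3753792 →
      Nat.card (R.map π) = 2 := by
    intro R hR hc
    have e1 : (R.map π).index = R.index := Subgroup.index_map_eq _ hsurj (hker.le.trans hR)
    have e2 := R.card_mul_index
    have e3 := (R.map π).card_mul_index
    rw [hc, card_mulAut_p37] at e2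
    rw [e1, hQ] at e3
    have : R.index = 3 := by omega
    rw [this] at e3
    omega
  have h62 : (Nat.card (MulAut P37 ⧸ Cfsg.Inn P37)).factorization 2 = 1 := by
    rw [hQ, show (6 : ℕ) = 2 ^ 1 * 3 by norm_num, Nat.factorization_mul (by norm_num) (by norm_num),
      Finsupp.add_apply, Nat.prime_two.factorization_pow, Finsupp.single_eq_same,
      Nat.factorization_eq_zero_of_not_dvd (by norm_num)]
  let S₁ : Sylow 2 (MulAut P37 ⧸ Cfsg.Inn P37) :=
    Sylow.ofCard (R₁.map π) (by rw [hcard R₁ h₁ c₁, h62, pow_one])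
  let S₂ : Sylow 2 (MulAut P37 ⧸ Cfsg.Inn P37) :=
    Sylow.ofCard (R₂.map π) (by rw [hcard R₂ h₂ c₂, h62, pow_one])
  obtain ⟨q, hq⟩ := MulAction.exists_smul_eq (MulAut P37 ⧸ Cfsg.Inn P37) S₁ S₂
  obtain ⟨β, rfl⟩ := hsurj q
  have hle : R₁.map (MulAut.conj β).toMonoidHom ≤ R₂ := by
    rintro _ ⟨r, hr, rfl⟩
    have hmem : π (β * r * β⁻¹) ∈ (S₂ : Subgroup (MulAut P37 ⧸ Cfsg.Inn P37)) := by
      rw [← hq, Sylow.coe_subgroup_smul, Subgroup.mem_pointwise_smul_iff_inv_smul_mem]
      rw [MulAut.smul_def, ← map_inv, MulAut.conj_apply, inv_inv, map_mul, map_mul, map_inv]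
      refine ⟨r, hr, ?_⟩
      group
    obtain ⟨r', hr', he⟩ := hmem
    have hin : r'⁻¹ * (β * r * β⁻¹) ∈ Cfsg.Inn P37 := by
      rw [← hker, MonoidHom.mem_ker, map_mul, map_inv, he, inv_mul_cancel]
    have := R₂.mul_mem hr' (h₂ hin)
    rwa [mul_inv_cancel_left] at this
  have hinj : Function.Injective (MulAut.conj β).toMonoidHom := MulEquiv.injective _
  have heq : R₁.map (MulAut.conj β).toMonoidHom = R₂ :=
    Subgroup.eq_of_le_of_card_ge hle (by rw [Subgroup.card_map_of_injective hinj, c₁, c₂])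
  exact ⟨(R₁.equivMapOfInjective _ hinj).trans (MulEquiv.subgroupCongr heq)⟩

/-- A faithful extension is an overgroup of the inner automorphisms. -/
theorem exists_overgroup {K : Type*} [Group K] [Finite K] (N : Subgroup K) [N.Normal]
    (hN : N.index = 2) (eN : N ≃* P37) (hC : ∀ k : K, (∀ n ∈ N, k * n = n * k) → k = 1) :
    ∃ R : Subgroup (MulAut P37), Cfsg.Inn P37 ≤ R ∧ Nat.card R = 3753792 ∧ Nonempty (K ≃* R) := by
  let θ : K →* MulAut P37 := (MulAut.congr eN).toMonoidHom.comp MulAut.conjNormal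
  have hθ : Function.Injective θ := (injective_iff_map_eq_one _).2 fun k hk => hC k fun n hn => by
    have h1 : MulAut.conjNormal (H := N) k = 1 :=
      (MulAut.congr eN).injective (hk.trans (map_one _).symm)
    have h2 : (MulAut.conjNormal (H := N) k ⟨n, hn⟩ : K) = n := by rw [h1]; rfl
    rw [MulAut.conjNormal_apply] at h2
    exact mul_inv_eq_iff_eq_mul.1 h2
  refine ⟨θ.range, ?_, ?_, ⟨MonoidHom.ofInjective hθ⟩⟩
  · rintro _ ⟨p, rfl⟩
    refine ⟨(eN.symm p : K), ?_⟩
    show MulAut.congr eN (MulAut.conjNormal ((eN.symm p : N) : K)) = _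
    rw [MulAut.conjNormal_val]
    refine MulEquiv.ext fun x => ?_
    simp [MulAut.congr, MulAut.conj_apply]
  · rw [← Nat.card_congr (MonoidHom.ofInjective hθ).toEquiv, card_of_index_two N hN eN]

/-- The centraliser of `a` is small. -/
theorem card_cent_le : Nat.card {g : Spor.ON // g * el [1] = el [1] * g} ≤
    uWords.length * tWords.length := by
  classical
  obtain ⟨hU, hT, -⟩ := ok_lists
  have hex : ∀ g : {g : Spor.ON // g * el [1] = el [1] * g},
      ∃ p : Fin uWords.length × Fin tWords.length, el (uWords[p.1.1] ++ tWords[p.2.1]) = g.1 := by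
    rintro ⟨g, hg⟩
    have h0 := img_zero_good hg
    rw [← t_spec.1, List.mem_map] at h0
    obtain ⟨t, ht, htp⟩ := h0
    have htw := words hT ht
    have htc : el t * el [1] = el [1] * el t :=
      (com_iff htw okW_one.1).1 (List.all_eq_true.1 t_spec.2 t ht)
    have ht0 : img (el t) 0 = img g 0 := (img_el (lt_of_okW htw) (by norm_num)).trans htp
    obtain ⟨u, hu, hue⟩ := mem_uWords (g := g * (el t)⁻¹)
      (by rw [img_mul, ← ht0, ← img_mul, mul_inv_cancel, img_one])
      (by
        have h2 : (el t)⁻¹ * el [1] = el [1] * (el t)⁻¹ := (Commute.inv_left htc).eq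
        rw [mul_assoc, h2, ← mul_assoc, hg, mul_assoc])
    obtain ⟨i, hi, rfl⟩ := List.getElem_of_mem hu
    obtain ⟨j, hj, rfl⟩ := List.getElem_of_mem ht
    exact ⟨(⟨i, hi⟩, ⟨j, hj⟩), by rw [el_append, hue, inv_mul_cancel_right]⟩
  choose f hf using hex
  have hinj : Function.Injective f := fun g h e => Subtype.ext (by rw [← hf g, ← hf h, e])
  have := Nat.card_le_card_of_injective f hinj
  rwa [Nat.card_prod, Nat.card_fin, Nat.card_fin] at this

theorem cent_small : uWords.length * tWords.length < 1876896 := by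
  have : uWords.length < 7000 := by decide +kernel
  rw [lengths.1]
  omega

/-- In the O'Nan group such an extension is faithful. -/
theorem faithful {K : Type*} [Group K] [Finite K] (ι : K →* Spor.ON) (hι : Function.Injective ι)
    (N : Subgroup K) (hN : N.index = 2) (eN : N ≃* P37) :
    ∀ k : K, (∀ n ∈ N, k * n = n * k) → k = 1 := by
  intro k hk
  have hkk : k * k = 1 := by
    have hmem : k * k ∈ N := Subgroup.mul_self_mem_of_index_two hN k
    have hc : MulAut.conj (eN ⟨k * k, hmem⟩) = 1 := by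
      refine MulEquiv.ext fun x => ?_
      obtain ⟨n, rfl⟩ := eN.surjective x
      rw [MulAut.conj_apply, MulAut.one_apply, ← map_inv, ← map_mul, ← map_mul]
      congr 1
      apply Subtype.ext
      show k * k * n * (k * k)⁻¹ = n
      rw [mul_inv_eq_iff_eq_mul, mul_assoc, hk n n.2, ← mul_assoc, hk n n.2, mul_assoc]
    have h1 : eN ⟨k * k, hmem⟩ = 1 := conj_inj (hc.trans (map_one _).symm)
    exact congrArg Subtype.val (eN.injective (h1.trans (map_one _).symm))
  by_contra hne
  obtain ⟨m, hm⟩ := involution_conj (y := ι k) (by rw [← map_mul, hkk, map_one])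
    (fun h => hne (hι (h.trans (map_one _).symm)))
  let f : N → {g : Spor.ON // g * el [1] = el [1] * g} := fun n => ⟨m⁻¹ * ι n * m, by
    rw [← hm]
    calc m⁻¹ * ι n * m * (m⁻¹ * ι k * m) = m⁻¹ * ι ((n : K) * k) * m := by rw [map_mul]; group
      _ = m⁻¹ * ι (k * n) * m := by rw [hk n n.2]
      _ = m⁻¹ * ι k * m * (m⁻¹ * ι n * m) := by rw [map_mul]; group⟩
  have hf : Function.Injective f := fun a b e => by
    have e' : m⁻¹ * ι a * m = m⁻¹ * ι b * m := congrArg Subtype.val e
    exact Subtype.ext (hι (mul_left_cancel (mul_right_cancel e')))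
  have h1 := (Nat.card_le_card_of_injective f hf).trans card_cent_le
  rw [Nat.card_congr eN.toEquiv, ONSevenIso.card_psl] at h1
  have := cent_small
  omega



/-- Every such subgroup is the image of `⟨a, …, f⟩` under an isomorphism. -/
theorem exists_map {G : Type*} [Group G] [Finite G] (h : Cfsg.Spor.IsoON G) (H : Subgroup G)
    (N : Subgroup H) [N.Normal] (hN : N.index = 2) (eN : N ≃* P37) :
    ∃ γ : Spor.ON ≃* G, H = subL.map γ.toMonoidHom := by
  obtain ⟨α⟩ := h
  let ι : H →* Spor.ON := α.toMonoidHom.comp H.subtype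
  have hι : Function.Injective ι := α.injective.comp Subtype.val_injective
  obtain ⟨R₁, l₁, c₁, ⟨e₁⟩⟩ := exists_overgroup N hN eN (faithful ι hι N hN eN)
  obtain ⟨M, hM, hM2, ⟨eM⟩⟩ := ONSevenIso.exists_normal
  have := hM
  obtain ⟨R₂, l₂, c₂, ⟨e₂⟩⟩ := exists_overgroup (K := subL) M hM2 eM
    (faithful (K := subL) subL.subtype Subtype.val_injective M hM2 eM)
  obtain ⟨er⟩ := overgroups_iso l₁ l₂ c₁ c₂
  let e : subL ≃* H := (e₂.trans er.symm).trans e₁.symm
  obtain ⟨β, hβ⟩ := range_eq_map (ι.comp e.toMonoidHom) (hι.comp e.injective)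
  refine ⟨β.trans α.symm, ?_⟩
  have hr : H.map α.toMonoidHom = subL.map β.toMonoidHom := by
    rw [← hβ, MonoidHom.range_comp, MonoidHom.range_eq_top.2 e.surjective, ← MonoidHom.range_eq_map,
      MonoidHom.range_comp, Subgroup.range_subtype]
  ext x
  constructor
  · intro hx
    have hm : α x ∈ H.map α.toMonoidHom := ⟨x, hx, rfl⟩
    rw [hr] at hm
    obtain ⟨y, hy, hyx⟩ := hm
    exact ⟨y, hy, by
      show α.symm (β y) = x
      rw [show β y = α x from hyx, α.symm_apply_apply]⟩
  · rintro ⟨y, hy, rfl⟩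
    have hm : β y ∈ subL.map β.toMonoidHom := ⟨y, hy, rfl⟩
    rw [← hr] at hm
    obtain ⟨z, hz, hzy⟩ := hm
    show α.symm (β y) ∈ H
    rw [show β y = α z from hzy.symm, α.symm_apply_apply]
    exact hz

/-- Isomorphisms preserve suborbit sizes. -/
theorem exists_orbit_map {A B : Type*} [Group A] [Group B] (γ : A ≃* B) {S : Subgroup A}
    {T : Subgroup B} (hT : T = S.map γ.toMonoidHom) (q : A ⧸ S) :
    ∃ q' : B ⧸ T, (MulAction.orbit T q').ncard = (MulAction.orbit S q).ncard := by
  subst hT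
  have hS : ∀ a, γ a ∈ S.map γ.toMonoidHom ↔ a ∈ S := fun a =>
    Subgroup.mem_map_iff_mem γ.injective
  let f : A ⧸ S → B ⧸ S.map γ.toMonoidHom := Quotient.map' γ fun a b hab => by
    rw [QuotientGroup.leftRel_apply] at hab ⊢
    rw [← map_inv, ← map_mul]
    exact (hS _).2 hab
  have hinj : Function.Injective f := by
    intro x y
    induction x using QuotientGroup.induction_on with | _ a => ?_
    induction y using QuotientGroup.induction_on with | _ b => ?_
    intro e
    have e' : (γ a : B ⧸ S.map γ.toMonoidHom) = (γ b : B ⧸ S.map γ.toMonoidHom) := e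
    rw [QuotientGroup.eq, ← map_inv, ← map_mul, hS] at e'
    exact QuotientGroup.eq.2 e'
  have hsmul : ∀ (g : A) (x : A ⧸ S), f (g • x) = γ g • f x := by
    intro g x
    induction x using QuotientGroup.induction_on with | _ a => ?_
    show ((γ (g * a) : B) : B ⧸ S.map γ.toMonoidHom) = ((γ g * γ a : B) : B ⧸ S.map γ.toMonoidHom)
    rw [map_mul]
  refine ⟨f q, ?_⟩
  rw [← Set.ncard_image_of_injective (MulAction.orbit S q) hinj]
  congr 1
  ext y
  constructor
  · rintro ⟨⟨_, g, hg, rfl⟩, rfl⟩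
    exact ⟨g • q, ⟨⟨g, hg⟩, rfl⟩, hsmul g q⟩
  · rintro ⟨_, ⟨g, rfl⟩, rfl⟩
    exact ⟨⟨γ g, (hS _).2 g.2⟩, (hsmul g q).symm⟩

/-- The index and the suborbits of every such subgroup. -/
theorem index_orbits {G : Type*} [Group G] [Finite G] (h : Cfsg.Spor.IsoON G) (H : Subgroup G)
    (N : Subgroup H) [N.Normal] (hN : N.index = 2) (eN : N ≃* P37) :
    H.index = 122760 ∧ ∃ q₁ q₂ q₃ q₄ : G ⧸ H, (MulAction.orbit H q₁).ncard = 6384 ∧
      (MulAction.orbit H q₂).ncard = 5586 ∧ (MulAction.orbit H q₃).ncard = 58653 ∧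
      (MulAction.orbit H q₄).ncard = 52136 := by
  obtain ⟨γ, hγ⟩ := exists_map h H N hN eN
  refine ⟨?_, ?_⟩
  · rw [hγ]
    exact (Subgroup.index_map_equiv _ γ).trans ONIndex122760.index_val
  obtain ⟨p₃, h₃⟩ := Data.exists_orbit ONIndex122760.valid ONIndex122760.spells
    ONIndex122760.orbSet3 31 (get48 ONIndex122760.orbStore3) ONIndex122760.orb3_root
    ONIndex122760.orb3_ok
  obtain ⟨p₂, h₂⟩ := Data.exists_orbit ONIndex122760.valid ONIndex122760.spells
    ONIndex122760.orbSet2 12 (get48 ONIndex122760.orbStore2) ONIndex122760.orb2_root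
    ONIndex122760.orb2_ok
  obtain ⟨p₀, h₀⟩ := Data.exists_orbit ONIndex122760.valid ONIndex122760.spells
    ONIndex122760.orbSet0 1 (get48 ONIndex122760.orbStore0) ONIndex122760.orb0_root
    ONIndex122760.orb0_ok
  obtain ⟨p₁, h₁⟩ := Data.exists_orbit ONIndex122760.valid ONIndex122760.spells
    ONIndex122760.orbSet1 6 (get48 ONIndex122760.orbStore1) ONIndex122760.orb1_root
    ONIndex122760.orb1_ok
  obtain ⟨q₁, g₁⟩ := exists_orbit_map γ hγ p₃
  obtain ⟨q₂, g₂⟩ := exists_orbit_map γ hγ p₂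
  obtain ⟨q₃, g₃⟩ := exists_orbit_map γ hγ p₀
  obtain ⟨q₄, g₄⟩ := exists_orbit_map γ hγ p₁
  exact ⟨q₁, q₂, q₃, q₄, g₁.trans (h₃.trans ONIndex122760.orb3_count),
    g₂.trans (h₂.trans ONIndex122760.orb2_count), g₃.trans (h₀.trans ONIndex122760.orb0_count),
    g₄.trans (h₁.trans ONIndex122760.orb1_count)⟩

/-- A subgroup `L₃(7):2` exists. -/
theorem exists_seven {G : Type*} [Group G] (h : Cfsg.Spor.IsoON G) :
    ∃ (H : Subgroup G) (N : Subgroup H), N.Normal ∧ N.index = 2 ∧ Nonempty (N ≃* P37) := by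
  obtain ⟨α⟩ := h
  obtain ⟨M, hM, hM2, ⟨eM⟩⟩ := ONSevenIso.exists_normal
  let K : Subgroup G := ONSevenIso.H.map α.symm.toMonoidHom
  let e : ONSevenIso.H ≃* K := ONSevenIso.H.equivMapOfInjective _ α.symm.injective
  exact ⟨K, M.map e.toMonoidHom, hM.map _ e.surjective, (Subgroup.index_map_equiv _ e).trans hM2,
    ⟨(M.equivMapOfInjective e.toMonoidHom e.injective).symm.trans eM⟩⟩

end Cfsg.Agent.ONUniq
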