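import Cfsg.Agent.ONUniq.DAut
import Cfsg.Agent.ONUniq.BETests

/-!
The map out of the presented group: the relators live in `C(a)` or in `C(f)`, apart from `[b, e]`.
-/

set_option autoImplicit false
set_option maxRecDepth 100000
set_option Elab.async false

namespace Cfsg.Agent.ONUniq

open Cfsg Cfsg.Agent.ONOut Cfsg.Agent.CosetCert

theorem sigma_onF : sigma onF = onA := sigma_el (x := 6) (by norm_num)

theorem sigma_mem {x : Spor.ON} (hx : x * onF = onF * x) : sigma x ∈ C0 := by
  rw [mem_C0, ← sigma_onF, ← map_mul, ← map_mul, hx]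

variable {G : Type*} [Group G] {t : G} {S : Emb0 t} {X : G}

/-- The copy of `C(f)`. -/
noncomputable def RevSwap.phi (_ : RevSwap S X) (x : Spor.ON) : G := X * S.E (sigma x) * X⁻¹

theorem RevSwap.phi_mul (h : RevSwap S X) {x y : Spor.ON} (hx : x * onF = onF * x)
    (hy : y * onF = onF * y) : h.phi (x * y) = h.phi x * h.phi y := by
  simp only [RevSwap.phi, map_mul, S.mul (sigma_mem hx) (sigma_mem hy)]
  group

theorem RevSwap.phi_inj (h : RevSwap S X) {x y : Spor.ON} (hx : x * onF = onF * x)
    (hy : y * onF = onF * y) (e : h.phi x = h.phi y) : x = y :=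
  sigma.injective (S.inj (sigma_mem hx) (sigma_mem hy) (mul_left_cancel (mul_right_cancel e)))

theorem RevSwap.phi_surj (h : RevSwap S X) {g : G} (hg : g * S.E onF = S.E onF * g) :
    ∃ x, x * onF = onF * x ∧ h.phi x = g := by
  have e : X⁻¹ * S.E onF * X⁻¹⁻¹ = t :=
    (congrArg (fun w => X⁻¹ * w * X⁻¹⁻¹) h.fwd.symm).trans (by group)
  obtain ⟨y, hy, he⟩ := S.cent (X⁻¹ * g * X) (by simpa only [inv_inv] using conj_comm hg e)
  refine ⟨sigma.symm y, sigma.injective ?_, ?_⟩
  · rw [map_mul, map_mul, sigma_onF, MulEquiv.apply_symm_apply, mem_C0.1 hy]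
  · rw [RevSwap.phi, MulEquiv.apply_symm_apply, he]
    group

theorem RevSwap.phi_one (h : RevSwap S X) : h.phi 1 = 1 := by
  rw [RevSwap.phi, map_one, S.map_one, mul_one, mul_inv_cancel]

theorem RevSwap.phi_letter (h : RevSwap S X) {l : Nat} (hl : isD l = true) :
    h.phi (el [l]) = S.E (el [l]) := by
  have h3 : ∀ l, l ∈ [3, 4, 0] → l < 7 ∧ revL l ∈ [3, 4, 0] ∧ revL (revL l) = l := by decide
  have key : ∀ l, l ∈ [3, 4, 0] → h.phi (el [l]) = S.E (el [l]) := fun l hl => by
    obtain ⟨a1, a2, a3⟩ := h3 l hl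
    rw [RevSwap.phi, sigma_el a1, h.act _ a2, a3]
  rcases letter_mem hl with rfl | rfl | rfl | rfl
  · exact key 3 (by decide)
  · exact key 4 (by decide)
  · exact key 0 (by decide)
  · have e0 := key 0 (by decide)
    rw [el_seven, S.map_inv (el_mem_C0 (by decide)), ← e0]
    refine eq_inv_of_mul_eq_one_right ?_
    have hc : el [0] * onF = onF * el [0] :=
      (com_iff (by decide) (by decide)).1 (by decide +kernel)
    rw [← h.phi_mul hc (Commute.inv_left hc).eq, mul_inv_cancel, h.phi_one]

theorem RevSwap.phi_word (h : RevSwap S X) : ∀ {w : List Nat}, w.all isD = true →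
    el w * onF = onF * el w ∧ h.phi (el w) = S.E (el w) := by
  intro w
  induction w with
  | nil => intro _; rw [el_nil, h.phi_one, S.map_one]; exact ⟨by rw [one_mul, mul_one], rfl⟩
  | cons x t ih =>
    intro hw
    simp only [List.all_cons, Bool.and_eq_true] at hw
    obtain ⟨h1, h2⟩ := ih hw.2
    have hx : el [x] * onF = onF * el [x] := by
      rcases letter_mem hw.1 with rfl | rfl | rfl | rfl <;>
        exact (com_iff (by decide) (by decide)).1 (by decide +kernel)
    rw [show el (x :: t) = el [x] * el t from el_append [x] t]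
    refine ⟨(Commute.mul_left hx h1).eq, ?_⟩
    rw [h.phi_mul hx h1, h.phi_letter hw.1, h2,
      S.mul (el_mem_C0 (isC_of_isD (by simp [hw.1]))) (el_mem_C0 (isC_of_isD hw.2))]

/-- The two copies agree on `C(a, f)`. -/
theorem RevSwap.phi_agree (h : RevSwap S X) {x : Spor.ON} (ha : x * onA = onA * x)
    (hf : x * onF = onF * x) : h.phi x = S.E x := by
  obtain ⟨i, hi, rfl⟩ := mem_D ha hf
  exact (h.phi_word (dW_spec hi).1).2

/-- An element of `C(a)` and `b` commute in the image, via a third involution `z` commuting with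
`a`, `f`, `b`. -/
theorem RevSwap.comm_b (h : RevSwap S X) (k u zW y y' : List Nat) (hk : k.all isC = true)
    (hu : okW u = true) (hz : zW.all isD = true) (hy : y.all isC = true)
    (c1 : (eqW (k ++ [6]) (zW ++ k) && (com zW [2] && (com y zW && (okW y' &&
      (eqW (u ++ zW) ([1] ++ u) && (eqW (u ++ [6]) ([3] ++ u) && (eqW (u ++ [1]) ([6] ++ u) &&
      (eqW (u ++ y) (y' ++ u) && (y' == [3, 0, 3, 7] || y' == [0, 3, 0, 6]))))))))) = true) :
    h.phi (el [2]) * S.E (el y) = S.E (el y) * h.phi (el [2]) := by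
  simp only [Bool.and_eq_true, Bool.or_eq_true, beq_iff_eq] at c1
  obtain ⟨c1, c2, c3, hy', c4, c5, c6, c7, c8⟩ := c1
  have hzW := okW_of_isD hz
  have hb2 : okW [2] = true := by decide
  have ekz : el k * onF = el zW * el k := by
    have := (eq_iff (okW_append (okW_of_isC hk) okW_one.2) (okW_append hzW (okW_of_isC hk))).1 c1
    rwa [el_append, el_append] at this
  have ezb := (com_iff hzW hb2).1 c2
  have eyz := (com_iff (okW_of_isC hy) hzW).1 c3
  have euz : el u * el zW = onA * el u := by
    have := (eq_iff (okW_append hu hzW) (okW_append okW_one.1 hu)).1 c4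
    rwa [el_append, el_append] at this
  have euf : el u * onF = el [3] * el u := by
    have := (eq_iff (okW_append hu okW_one.2) (okW_append (by decide) hu)).1 c5
    rwa [el_append, el_append] at this
  have eua : el u * onA = onF * el u := by
    have := (eq_iff (okW_append hu okW_one.1) (okW_append okW_one.2 hu)).1 c6
    rwa [el_append, el_append] at this
  have euy : el u * el y = el y' * el u := by
    have := (eq_iff (okW_append hu (okW_of_isC hy)) (okW_append hy' hu)).1 c7
    rwa [el_append, el_append] at this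
  have hkC := el_mem_C0 hk
  have hyC := el_mem_C0 hy
  have hzC := el_mem_C0 (isC_of_isD hz)
  obtain ⟨hzf, hzphi⟩ := h.phi_word hz
  have hbf : el [2] * onF = onF * el [2] := (com_iff hb2 okW_one.2).1 (by decide +kernel)
  -- the copy of the centraliser of `z`
  set q := fun v : Spor.ON => (el k)⁻¹ * v * el k with hq
  have hqf : ∀ {v : Spor.ON}, v * el zW = el zW * v → q v * onF = onF * q v := fun {v} hv => by
    have e : el k * onF * (el k)⁻¹ = el zW := by rw [ekz, mul_inv_cancel_right]
    rw [← e] at hv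
    simp only [hq]
    calc (el k)⁻¹ * v * el k * onF = (el k)⁻¹ * (v * (el k * onF * (el k)⁻¹)) * el k := by group
      _ = (el k)⁻¹ * (el k * onF * (el k)⁻¹ * v) * el k := by rw [hv]
      _ = onF * ((el k)⁻¹ * v * el k) := by group
  let ψ : Spor.ON → G := fun v => S.E (el k) * h.phi (q v) * (S.E (el k))⁻¹
  have ψmul : ∀ {v w : Spor.ON}, v * el zW = el zW * v → w * el zW = el zW * w →
      ψ (v * w) = ψ v * ψ w := fun {v w} hv hw => by
    have e : q (v * w) = q v * q w := by simp only [hq]; group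
    simp only [ψ, e, h.phi_mul (hqf hv) (hqf hw)]
    group
  have ψinj : ∀ {v w : Spor.ON}, v * el zW = el zW * v → w * el zW = el zW * w →
      ψ v = ψ w → v = w := fun {v w} hv hw e => by
    have e' := h.phi_inj (hqf hv) (hqf hw) (mul_left_cancel (mul_right_cancel e))
    simp only [hq] at e'
    exact mul_left_cancel (mul_right_cancel e')
  have ψE : ∀ {v : Spor.ON}, v ∈ C0 → v * el zW = el zW * v → ψ v = S.E v := fun {v} hv hvz => by
    have hq0 : q v ∈ C0 := mul_mem (mul_mem (inv_mem hkC) hv) hkC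
    simp only [ψ, h.phi_agree (mem_C0.1 hq0) (hqf hvz), ← S.map_inv hkC, ← S.mul hkC hq0,
      ← S.mul (mul_mem hkC hq0) (inv_mem hkC)]
    simp only [hq]
    congr 1
    group
  -- pull the image of `b` back
  have hbz : h.phi (el [2]) * S.E (el zW) = S.E (el zW) * h.phi (el [2]) := by
    rw [← hzphi, ← h.phi_mul hbf hzf, ← h.phi_mul hzf hbf, ezb]
  have hkf : S.E (el k) * S.E onF * (S.E (el k))⁻¹ = S.E (el zW) := by
    rw [← S.conj hkC onF_mem, ekz, mul_inv_cancel_right]
  obtain ⟨x', hx', hxe⟩ := h.phi_surj (g := (S.E (el k))⁻¹ * h.phi (el [2]) * S.E (el k)) (by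
    rw [← hkf] at hbz
    calc (S.E (el k))⁻¹ * h.phi (el [2]) * S.E (el k) * S.E onF
        = (S.E (el k))⁻¹ * (h.phi (el [2]) * (S.E (el k) * S.E onF * (S.E (el k))⁻¹)) * S.E (el k) := by
          group
      _ = (S.E (el k))⁻¹ * (S.E (el k) * S.E onF * (S.E (el k))⁻¹ * h.phi (el [2])) * S.E (el k) := by
          rw [hbz]
      _ = S.E onF * ((S.E (el k))⁻¹ * h.phi (el [2]) * S.E (el k)) := by group)
  set x := el k * x' * (el k)⁻¹ with hxd
  have hxq : q x = x' := by simp only [hq, hxd]; group
  have hψx : ψ x = h.phi (el [2]) := by simp only [ψ, hxq, hxe]; group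
  have hxz : x * el zW = el zW * x := by
    rw [show el zW = el k * onF * (el k)⁻¹ by rw [ekz, mul_inv_cancel_right], hxd]
    calc el k * x' * (el k)⁻¹ * (el k * onF * (el k)⁻¹) = el k * (x' * onF) * (el k)⁻¹ := by group
      _ = el k * (onF * x') * (el k)⁻¹ := by rw [hx']
      _ = _ := by group
  have haz : onA * el zW = el zW * onA := (mem_C0.1 hzC).symm
  have hfz : onF * el zW = el zW * onF := hzf.symm
  have ψa : ψ onA = t := by rw [ψE onA_mem haz, S.map_a]
  have ψf : ψ onF = S.E onF := ψE onF_mem hfz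
  have hphif : h.phi onF = S.E onF :=
    h.phi_agree (mem_C0.1 onF_mem) rfl
  have hphia : h.phi onA = t := by
    rw [h.phi_agree rfl (mem_C0.1 onF_mem).symm, S.map_a]
  have hxf : x * onF = onF * x := by
    refine ψinj (Commute.mul_left hxz hfz).eq (Commute.mul_left hfz hxz).eq ?_
    rw [ψmul hxz hfz, ψmul hfz hxz, hψx, ψf, ← hphif, ← h.phi_mul hbf rfl, ← h.phi_mul rfl hbf, hbf]
  have hx2 : x * x = 1 := by
    refine ψinj (Commute.mul_left hxz hxz).eq (Commute.one_left _).eq ?_
    have e : el [2] * el [2] = 1 := by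
      rw [← el_append, ← el_nil]; exact (eq_iff (by decide) okW_nil).1 (by decide +kernel)
    rw [ψmul hxz hxz, hψx, ← h.phi_mul hbf hbf, e, h.phi_one]
    simp only [ψ, hq, mul_one, inv_mul_cancel, h.phi_one, mul_inv_cancel]
  have hax : (onA * x) * (onA * x) * (onA * x) = 1 := by
    have h1 := (Commute.mul_left haz hxz).eq
    refine ψinj (Commute.mul_left (Commute.mul_left h1 h1) h1).eq (Commute.one_left _).eq ?_
    have e : (onA * el [2]) * (onA * el [2]) * (onA * el [2]) = 1 := by
      rw [← el_append, ← el_append, ← el_append, ← el_nil]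
      exact (eq_iff (by decide) okW_nil).1 (by decide +kernel)
    have haf : onA * onF = onF * onA := (mem_C0.1 onF_mem).symm
    have h2 := (Commute.mul_left haf hbf).eq
    have e2 := congrArg h.phi e
    rw [h.phi_mul (Commute.mul_left h2 h2).eq h2, h.phi_mul h2 h2, h.phi_mul haf hbf, hphia,
      h.phi_one] at e2
    rw [ψmul (Commute.mul_left h1 h1).eq h1, ψmul h1 h1, ψmul haz hxz, ψa, hψx, e2]
    simp only [ψ, hq, mul_one, inv_mul_cancel, h.phi_one, mul_inv_cancel]
  -- move to `C(a, c)`
  set p := el u * x * (el u)⁻¹ with hp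
  have move : ∀ {v w : Spor.ON}, el u * v = w * el u → x * v = v * x → p * w = w * p :=
    fun {v w} e hv => by
      have hw : w = el u * v * (el u)⁻¹ := by rw [e, mul_inv_cancel_right]
      rw [hp, hw]
      calc el u * x * (el u)⁻¹ * (el u * v * (el u)⁻¹) = el u * (x * v) * (el u)⁻¹ := by group
        _ = el u * (v * x) * (el u)⁻¹ := by rw [hv]
        _ = _ := by group
  obtain ⟨w, hw, hwe, ht⟩ := cent_search [[3]] testQ
    (fun y hy => by
      rw [List.mem_singleton] at hy; subst hy; constructor <;> decide +kernel)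
    (List.all_eq_true.1 q_ok) (move euz hxz) (fun y hy => by
      rw [List.mem_singleton] at hy; subst hy; exact move euf hxf)
  have t1 : com w [3] = true := (com_iff hw (by decide)).2 (by rw [hwe]; exact move euf hxf)
  have t2 : eqW (w ++ w) [] = true := (eq_iff (okW_append hw hw) okW_nil).2 (by
    rw [el_append, hwe, el_nil, hp, show el u * x * (el u)⁻¹ * (el u * x * (el u)⁻¹) =
      el u * (x * x) * (el u)⁻¹ by group, hx2]
    group)
  have t3 : eqW ([6] ++ w ++ [6] ++ w ++ [6] ++ w) [] = true :=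
    (eq_iff (okW_append (okW_append (okW_append (okW_append (okW_append okW_one.2 hw) okW_one.2) hw)
      okW_one.2) hw) okW_nil).2 (by
      have ef : el [6] = el u * onA * (el u)⁻¹ := by rw [eua, mul_inv_cancel_right]
      rw [el_append, el_append, el_append, el_append, el_append, hwe, el_nil, hp, ef,
        show el u * onA * (el u)⁻¹ * (el u * x * (el u)⁻¹) * (el u * onA * (el u)⁻¹) *
          (el u * x * (el u)⁻¹) * (el u * onA * (el u)⁻¹) * (el u * x * (el u)⁻¹) =
          el u * ((onA * x) * (onA * x) * (onA * x)) * (el u)⁻¹ by group, hax]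
      group)
  simp only [testQ, t1, t2, t3, Bool.not_true, Bool.false_or, Bool.and_eq_true] at ht
  have hpy : p * el y' = el y' * p := by
    rw [← hwe]
    rcases c8 with rfl | rfl
    · exact (com_iff hw hy').1 ht.1
    · exact (com_iff hw hy').1 ht.2
  have hxy : x * el y = el y * x := by
    have e : el y = (el u)⁻¹ * el y' * el u := by rw [mul_assoc, ← euy, inv_mul_cancel_left]
    have ex : x = (el u)⁻¹ * p * el u := by rw [hp]; group
    rw [e, ex]
    calc (el u)⁻¹ * p * el u * ((el u)⁻¹ * el y' * el u) = (el u)⁻¹ * (p * el y') * el u := by group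
      _ = (el u)⁻¹ * (el y' * p) * el u := by rw [hpy]
      _ = _ := by group
  rw [← hψx, ← ψE hyC eyz, ← ψmul hxz eyz, ← ψmul eyz hxz, hxy]

/-- The images of `b` and `e` commute. -/
theorem RevSwap.comm_be (h : RevSwap S X) :
    h.phi (el [2]) * S.E (el [5]) = S.E (el [5]) * h.phi (el [2]) := by
  have e : el [5] = el [5, 0, 4, 6, 5, 7, 4, 5] * el [6, 5, 0, 4, 5, 4, 7, 5] *
      el [5, 0, 4, 6, 5, 7, 4, 5, 6] := by
    rw [← el_append, ← el_append]
    exact (eq_iff (by decide) (by decide)).1 (by decide +kernel)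
  have m1 := el_mem_C0 (w := [5, 0, 4, 6, 5, 7, 4, 5]) (by decide)
  have m2 := el_mem_C0 (w := [6, 5, 0, 4, 5, 4, 7, 5]) (by decide)
  rw [e, S.mul (mul_mem m1 m2) (el_mem_C0 (by decide)), S.mul m1 m2]
  refine ((Commute.mul_right ?_ ?_).mul_right ?_).eq
  · exact h.comm_b [5, 4, 6, 5] [1, 2, 1, 3, 2, 4, 3, 2, 4, 3, 5, 4, 3, 2, 1, 6, 5, 4, 3, 2, 4, 3, 4,
      3, 5, 4, 3, 2, 4, 3, 5, 4, 3, 6, 5, 4, 3, 2, 1, 4, 3, 2, 4, 3, 5, 4, 3, 2, 1, 5, 6, 4, 5]
      [4] _ [3, 0, 3, 7] (by decide) (by decide) (by decide) (by decide) (by decide +kernel)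
  · exact h.comm_b [0, 5, 4, 6, 5] [1, 2, 1, 3, 2, 4, 3, 2, 4, 3, 5, 4, 3, 2, 1, 6, 5, 4, 3, 2, 4, 3,
      4, 3, 5, 4, 3, 2, 4, 3, 5, 4, 3, 6, 5, 4, 3, 2, 1, 4, 3, 2, 4, 3, 5, 4, 3, 2, 1, 5, 6, 4, 5, 7]
      [0, 4, 7] _ [3, 0, 3, 7] (by decide) (by decide) (by decide) (by decide) (by decide +kernel)
  · exact h.comm_b [5, 4, 6, 5] [1, 2, 1, 3, 2, 4, 3, 2, 4, 3, 5, 4, 3, 2, 1, 6, 5, 4, 3, 2, 4, 3, 4,
      3, 5, 4, 3, 2, 4, 3, 5, 4, 3, 6, 5, 4, 3, 2, 1, 4, 3, 2, 4, 3, 5, 4, 3, 2, 1, 5, 6, 4, 5]
      [4] _ [0, 3, 0, 6] (by decide) (by decide) (by decide) (by decide) (by decide +kernel)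

/-- The images of the letters. -/
noncomputable def RevSwap.letter (h : RevSwap S X) (x : Nat) : G :=
  if x = 2 then h.phi (el [2]) else S.E (el [x])

/-- A letter of `C(f)`. -/
def isF (x : Nat) : Bool := !(Nat.beq x 5) && Nat.blt x 8

theorem letters_F : ((List.range 8).all fun x => !(isF x) || com [x] [6]) = true := by decide +kernel

theorem isF_spec (h : RevSwap S X) {x : Nat} (hx : isF x = true) :
    el [x] * onF = onF * el [x] ∧ h.phi (el [x]) = h.letter x := by
  simp only [isF, Bool.and_eq_true, Bool.not_eq_true'] at hx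
  have h8 := Nat.ble_eq.mp hx.2
  have h5 := Nat.ne_of_beq_eq_false hx.1
  have hc := List.all_eq_true.1 letters_F x (List.mem_range.2 h8)
  have hF : isF x = true := by simp [isF, hx.1, hx.2]
  simp only [hF, Bool.not_true, Bool.false_or] at hc
  have hcf := (com_iff (okW_single h8) okW_one.2).1 hc
  refine ⟨hcf, ?_⟩
  unfold RevSwap.letter
  split_ifs with h2
  · rw [h2]
  · have hC : [x].all isC = true := by
      simp [isC, hx.2, Bool.eq_false_iff.2 fun e : Nat.beq x 2 = true => h2 (Nat.eq_of_beq_eq_true e)]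
    exact h.phi_agree (mem_C0.1 (el_mem_C0 hC)) hcf

theorem prod_F (h : RevSwap S X) : ∀ {w : List Nat}, w.all isF = true →
    el w * onF = onF * el w ∧ (w.map h.letter).prod = h.phi (el w) := by
  intro w
  induction w with
  | nil => intro _; rw [el_nil, h.phi_one]; exact ⟨by rw [one_mul, mul_one], rfl⟩
  | cons x t ih =>
    intro hw
    simp only [List.all_cons, Bool.and_eq_true] at hw
    obtain ⟨h1, h2⟩ := ih hw.2
    obtain ⟨h3, h4⟩ := isF_spec h hw.1
    rw [show el (x :: t) = el [x] * el t from el_append [x] t, List.map_cons, List.prod_cons, h2, ← h4,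
      h.phi_mul h3 h1]
    exact ⟨(Commute.mul_left h3 h1).eq, rfl⟩

theorem letter_isC (h : RevSwap S X) {x : Nat} (hx : isC x = true) : h.letter x = S.E (el [x]) := by
  simp only [isC, Bool.and_eq_true, Bool.not_eq_true'] at hx
  exact if_neg (Nat.ne_of_beq_eq_false hx.1)

theorem letter_inv (h : RevSwap S X) : ∀ b : Spor.ON.Gen,
    h.letter (Data.code tab.iv ONIndex122760.enc (b, false)) =
      (h.letter (ONIndex122760.enc b))⁻¹ := by
  intro b
  have keyC : ∀ x y, isC x = true → isC y = true → eqW [x, y] [] = true →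
      h.letter x = (h.letter y)⁻¹ := fun x y hx hy e => by
    have hx' : [x].all isC = true := by simp [hx]
    have hy' : [y].all isC = true := by simp [hy]
    rw [letter_isC h hx, letter_isC h hy]
    refine eq_inv_of_mul_eq_one_left ?_
    rw [← S.mul (el_mem_C0 hx') (el_mem_C0 hy'), ← el_append]
    show S.E (el [x, y]) = 1
    rw [(eq_iff (okW_of_isC (by simp [hx, hy])) okW_nil).1 e, el_nil, S.map_one]
  cases b
  all_goals first
    | exact keyC _ _ rfl rfl (by decide +kernel)
    | skip
  show h.phi (el [2]) = (h.phi (el [2]))⁻¹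
  have hb : el [2] * onF = onF * el [2] := (com_iff (by decide) (by decide)).1 (by decide +kernel)
  refine eq_inv_of_mul_eq_one_left ?_
  rw [← h.phi_mul hb hb, ← el_append, (eq_iff (by decide) okW_nil).1 (by decide +kernel), el_nil,
    h.phi_one]

theorem lift_letters (h : RevSwap S X) (l : List (Spor.ON.Gen × Bool)) :
    FreeGroup.lift (fun b => h.letter (ONIndex122760.enc b)) (FreeGroup.mk l) =
      ((l.map (Data.code tab.iv ONIndex122760.enc)).map h.letter).prod := by
  induction l with
  | nil => rw [List.map_nil, ← FreeGroup.one_eq_mk, map_one]; rfl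
  | cons p t ih =>
    rw [show FreeGroup.mk (p :: t) = FreeGroup.mk [p] * FreeGroup.mk t by rw [FreeGroup.mul_mk]; rfl,
      map_mul, ih, List.map_cons, List.map_cons, List.prod_cons]
    congr 1
    obtain ⟨b, s⟩ := p
    cases s
    · rw [show FreeGroup.mk [(b, false)] = (FreeGroup.of b)⁻¹ from rfl, map_inv,
        FreeGroup.lift_apply_of, letter_inv h b]
    · rw [show FreeGroup.mk [(b, true)] = FreeGroup.of b from rfl, FreeGroup.lift_apply_of]
      rfl

/-- Every relator is inside one of the two centralisers or says `(be)² = 1`. -/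
theorem rels_split : ((coxWords ONIndex122760.genList Cfsg.Spor.ON.edges Cfsg.Spor.ON.extra).all
    fun l => (fun w => eqW w [] && (w.all isC || (w.all isF || w == [2, 5, 2, 5])))
      (l.map (Data.code tab.iv ONIndex122760.enc))) = true := by
  decide +kernel

theorem theta_rels (h : RevSwap S X) : ∀ r ∈ ONOrder.rels,
    FreeGroup.lift (fun b => h.letter (ONIndex122760.enc b)) r = 1 := by
  intro r hr
  have hle : Subgroup.normalClosure {r | r ∈ (coxWords ONIndex122760.genList Cfsg.Spor.ON.edges
      Cfsg.Spor.ON.extra).map FreeGroup.mk} ≤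
      (FreeGroup.lift fun b => h.letter (ONIndex122760.enc b)).ker := by
    apply Subgroup.normalClosure_le_normal
    intro r hr
    obtain ⟨l, hl, rfl⟩ := List.mem_map.1 hr
    rw [SetLike.mem_coe, MonoidHom.mem_ker, lift_letters]
    have h' := List.all_eq_true.1 rels_split l hl
    simp only [Bool.and_eq_true, Bool.or_eq_true, beq_iff_eq] at h'
    generalize l.map (Data.code tab.iv ONIndex122760.enc) = w at h' ⊢
    obtain ⟨h1, h2 | h2 | h2⟩ := h'
    · rw [List.map_congr_left (g := fun x => S.E (el [x])) fun x hx =>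
          letter_isC h (List.all_eq_true.1 h2 x hx),
        ← S.map_word h2, (eq_iff (okW_of_isC h2) okW_nil).1 h1, el_nil, S.map_one]
    · have hok : okW w = true := by
        rw [okW, List.all_eq_true]
        intro x hx
        have := List.all_eq_true.1 h2 x hx
        simp only [isF, Bool.and_eq_true] at this
        exact this.2
      rw [(prod_F h h2).2, (eq_iff hok okW_nil).1 h1, el_nil, h.phi_one]
    · subst h2
      have hb : el [2] * onF = onF * el [2] :=
        (com_iff (by decide) (by decide)).1 (by decide +kernel)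
      have b2 : h.phi (el [2]) * h.phi (el [2]) = 1 := by
        rw [← h.phi_mul hb hb, ← el_append, (eq_iff (by decide) okW_nil).1 (by decide +kernel),
          el_nil, h.phi_one]
      have e2 : S.E (el [5]) * S.E (el [5]) = 1 := by
        rw [← S.mul (el_mem_C0 (by decide)) (el_mem_C0 (by decide)), ← el_append,
          (eq_iff (by decide) okW_nil).1 (by decide +kernel), el_nil, S.map_one]
      show h.phi (el [2]) * (S.E (el [5]) * (h.phi (el [2]) * (S.E (el [5]) * 1))) = 1
      rw [mul_one, ← mul_assoc (h.phi (el [2])), ← mul_assoc _ (h.phi (el [2])),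
        mul_assoc _ _ (h.phi (el [2])), ← h.comm_be, ← mul_assoc, b2, one_mul, e2]
  exact MonoidHom.mem_ker.1 (hle (ONIndex122760.spells.rels_mem hr))

/-- The map out of the presented group. -/
theorem CentData.exists_modelMap {G : Type*} [Group G] {t : G} (ht : orderOf t = 2) (S₀ : CentData t) :
    Nonempty (ModelMap t) := by
  obtain ⟨g, hg1, hg2⟩ := S₀.swap
  have hsw : IsSwap S₀.toEmb0 g := by
    have e : S₀.toEmb0.E onF = (S₀.e ⟨onF, onF_mem⟩ : G) := dif_pos onF_mem
    constructor <;> rw [e] <;> assumption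
  obtain ⟨S, X, h⟩ := hsw.exists_rev
  let θ : Spor.ON →* G := PresentedGroup.toGroup (theta_rels h)
  have hθ : ∀ x, x < 7 → θ (el [x]) = h.letter x := by
    intro x hx
    have h' : ∀ b, θ (el [ONIndex122760.enc b]) = h.letter (ONIndex122760.enc b) := fun b => by
      rw [el_enc]; exact PresentedGroup.toGroup.of (theta_rels h)
    interval_cases x
    exacts [h' .g, h' .a, h' .b, h' .c, h' .d, h' .e, h' .f]
  have hC : ∀ {w : List Nat}, w.all isC = true → θ (el w) = S.E (el w) := by
    intro w
    induction w with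
    | nil => intro _; rw [el_nil, map_one, S.map_one]
    | cons x t ih =>
      intro hw
      simp only [List.all_cons, Bool.and_eq_true] at hw
      rw [show el (x :: t) = el [x] * el t from el_append [x] t, map_mul, ih hw.2,
        S.mul (el_mem_C0 (by simp [hw.1])) (el_mem_C0 hw.2)]
      congr 1
      by_cases h7 : x = 7
      · subst h7
        rw [el_seven, map_inv, hθ 0 (by norm_num), letter_isC h rfl, S.map_inv (el_mem_C0 rfl)]
      · have h8 : x < 8 := by
          have h1 := hw.1
          simp only [isC, Bool.and_eq_true] at h1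
          exact Nat.ble_eq.mp h1.2
        rw [hθ x (by omega), letter_isC h hw.1]
  have hA : θ onA = t := by rw [hθ 1 (by norm_num), letter_isC h rfl, S.map_a]
  refine ⟨⟨θ, ?_, hA, ?_⟩⟩
  · have := ONOrder.order_and_simple.1
    refine (MonoidHom.ker_eq_bot_iff _).1
      ((Subgroup.Normal.eq_bot_or_eq_top (MonoidHom.normal_ker θ)).resolve_right fun hk => ?_)
    have h1 : θ onA = 1 := MonoidHom.mem_ker.1 (hk ▸ Subgroup.mem_top _)
    rw [hA] at h1
    rw [h1, orderOf_one] at ht
    omega
  · intro g hg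
    obtain ⟨x, hx, rfl⟩ := S.cent g (Subgroup.mem_centralizer_singleton_iff.1 hg)
    obtain ⟨w, hw, rfl⟩ := exists_word hx
    exact ⟨el w, hC hw⟩

end Cfsg.Agent.ONUniq
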