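import Cfsg.Agent.ONUniq.Ident
import Cfsg.Agent.ONUniq.Theta
import Cfsg.Agent.ONUniq.Range
import Cfsg.Agent.ONUniq.SevenSub

/-!
A simple group with the involution centraliser of O'Nan's group is O'Nan's group.
-/

set_option autoImplicit false

namespace Cfsg.Agent.ONUniq

open Subgroup

/-- Recognition of O'Nan's group by the centraliser of an involution. -/
theorem isoON_of_cent {G : Type*} [Group G] [Finite G] [IsSimpleGroup G] (t : G) (ht : orderOf t = 2)
    (M : Subgroup (centralizer ({t} : Set G))) [M.Normal] (hM : M.index = 2)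
    (hout : centralizer (M : Set (centralizer ({t} : Set G))) ≤ M)
    (hZc : IsCyclic (center M)) (hZ4 : Nat.card (center M) = 4) (hperf : commutator M = ⊤)
    (F : Type) [Field F] [Fintype F] (hF : Fintype.card F = 4)
    (e : M ⧸ center M ≃* Matrix.ProjectiveSpecialLinearGroup (Fin 3) F) : Cfsg.Spor.IsoON G := by
  obtain ⟨S₀⟩ := exists_centData t ht M hM hout hZc hZ4 hperf F hF e
  obtain ⟨S⟩ := CentData.exists_modelMap ht S₀
  have hA : S.θ (ONOut.el [1]) = t := S.map_a
  have hr : S.θ.range = ⊤ := range_eq_top_of S.θ S.inj (by rw [hA]; exact S.cent_le)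
  exact ⟨(MulEquiv.ofBijective S.θ ⟨S.inj, MonoidHom.range_eq_top.1 hr⟩).symm⟩

end Cfsg.Agent.ONUniq
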